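import Cfsg.Agent.SchurTheory.Basic
import Cfsg.Agent.MultPSL.Main

/-!
# From bounds on perfect central extensions to Schur multipliers

If every finite perfect central extension of the perfect group `G` has at most `n` elements, then
so has every finite stem extension of a central quotient of `G`; a stem extension of that order
gives the multiplier.
-/

set_option autoImplicit false
set_option linter.unusedSectionVars false

namespace CfsgLib.MultOrth

open scoped commutatorElement

universe u v w

/-- In a group with perfect central quotient the derived group is perfect and covers the quotient. -/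
theorem derived_of_central {P : Type*} [Group P] {G : Type*} [Group G] (π : P →* G)
    (hs : Function.Surjective π) (hc : π.ker ≤ Subgroup.center P) (hG : commutator G = ⊤) :
    Function.Surjective (π.comp (commutator P).subtype) ∧
      commutator ↥(commutator P) = ⊤ := by
  have hs' : Function.Surjective (π.comp (commutator P).subtype) := by
    intro g
    obtain ⟨c, hc', e⟩ : g ∈ (commutator P).map π := by
      rw [SchurTheory.map_commutator_eq (MonoidHom.id G) (by simp [MonoidHom.ker_id]) π hs, hG]
      trivial
    exact ⟨⟨c, hc'⟩, e⟩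
  refine ⟨hs', Subgroup.map_injective (commutator P).subtype_injective ?_⟩
  rw [SchurTheory.map_commutator_eq π hc _ hs', ← MonoidHom.range_eq_map, Subgroup.range_subtype]

/-- A central lift of a perfect subgroup-with-central-extension: homomorphisms with the same
composite agree. -/
theorem hom_ext_of_perfect {K E Q : Type*} [Group K] [Group E] [Group Q] (π : E →* Q)
    (hc : π.ker ≤ Subgroup.center E) (hK : commutator K = ⊤) (α β : K →* E)
    (h : π.comp α = π.comp β) : α = β :=
  MonoidHom.ext fun k => SchurTheory.eqOn_commutator π hc α β h (hK ▸ Subgroup.mem_top k)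

/-- The fibre product of a stem extension with a perfect central cover. -/
theorem card_stem_le_of_perfect {Q : Type u} [Group Q] {G : Type u} [Group G] [Finite G]
    (η : G →* Q) (hη : Function.Surjective η) (hc : η.ker ≤ Subgroup.center G)
    (hG : commutator G = ⊤) (n : ℕ)
    (hb : ∀ (E : Type u) [Group E] [Finite E] (π : E →* G), Function.Surjective π →
      π.ker ≤ Subgroup.center E → commutator E = ⊤ → Nat.card E ≤ n)
    (Δ : Type u) [Group Δ] [Finite Δ] (τ : Δ →* Q) (hτ : Cfsg.IsStemExtension τ) :
    Nat.card Δ ≤ n := by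
  let P : Subgroup (Δ × G) := (τ.comp (MonoidHom.fst Δ G)).eqLocus (η.comp (MonoidHom.snd Δ G))
  let pG : P →* G := (MonoidHom.snd Δ G).comp P.subtype
  let pD : P →* Δ := (MonoidHom.fst Δ G).comp P.subtype
  have hPmem : ∀ x : P, τ x.1.1 = η x.1.2 := fun x => x.2
  have hsG : Function.Surjective pG := fun g => by
    obtain ⟨d, hd⟩ := hτ.1 (η g)
    exact ⟨⟨(d, g), hd⟩, rfl⟩
  have hsD : Function.Surjective pD := fun d => by
    obtain ⟨g, hg⟩ := hη (τ d)
    exact ⟨⟨(d, g), hg.symm⟩, rfl⟩
  have hcG : pG.ker ≤ Subgroup.center P := by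
    intro x hx
    rw [MonoidHom.mem_ker] at hx
    have hx2 : x.1.2 = 1 := hx
    have hx1 : x.1.1 ∈ Subgroup.center Δ :=
      hτ.2.1 (by rw [MonoidHom.mem_ker, hPmem, hx2, map_one])
    rw [Subgroup.mem_center_iff]
    intro y
    refine Subtype.ext (Prod.ext ?_ ?_)
    · exact Subgroup.mem_center_iff.1 hx1 y.1.1
    · show y.1.2 * x.1.2 = x.1.2 * y.1.2
      rw [hx2, mul_one, one_mul]
  obtain ⟨hsE, hE⟩ := derived_of_central pG hsG hcG hG
  have hQ : commutator Q = ⊤ := by
    rw [← SchurTheory.map_commutator_eq (MonoidHom.id Q) (by simp [MonoidHom.ker_id]) η hη, hG,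
      ← MonoidHom.range_eq_map, MonoidHom.range_eq_top.2 hη]
  have hΔ := MultPSL.commutator_eq_top_of_stem τ hτ hQ
  have hsED : Function.Surjective (pD.comp (commutator P).subtype) := by
    intro d
    obtain ⟨c, hc', e⟩ : d ∈ (commutator P).map pD := by
      rw [SchurTheory.map_commutator_eq (MonoidHom.id Δ) (by simp [MonoidHom.ker_id]) pD hsD, hΔ]
      trivial
    exact ⟨⟨c, hc'⟩, e⟩
  refine (Nat.card_le_card_of_surjective _ hsED).trans (hb _ _ hsE ?_ hE)
  intro x hx
  rw [Subgroup.mem_center_iff]
  intro y
  exact Subtype.ext (Subgroup.mem_center_iff.1 (hcG (x := (x : P)) hx) y)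

/-- A stem extension of the largest order gives the multiplier. -/
theorem hasSchurMultiplier_of_bound {Q : Type u} [Group Q] [Finite Q] {Γ : Type v} [Group Γ]
    [Finite Γ] (σ : Γ →* Q) (hσ : Cfsg.IsStemExtension σ) {A : Type w} [CommGroup A]
    (e : σ.ker ≃* A)
    (hbound : ∀ (Δ : Type u) [Group Δ] [Finite Δ] (τ : Δ →* Q), Cfsg.IsStemExtension τ →
      Nat.card Δ ≤ Nat.card Γ) : Cfsg.HasSchurMultiplier Q A := by
  obtain ⟨Δ, _, _, τ, hτ, ⟨e'⟩⟩ := SchurTheory.exists_cover Q
  obtain ⟨f, hf⟩ := SchurTheory.exists_mult_surjective_stem σ hσ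
  have hle : Nat.card (SchurTheory.mult Q) ≤ Nat.card σ.ker := by
    rw [← Nat.card_congr e'.toEquiv]
    refine Nat.le_of_mul_le_mul_right ?_ (Nat.card_pos (α := Q))
    have hcard : ∀ {G : Type _} [Group G] [Finite G] (π : G →* Q), Function.Surjective π →
        Nat.card π.ker * Nat.card Q = Nat.card G := by
      intro G _ _ π hπ
      rw [← Subgroup.card_top (G := Q), ← MonoidHom.range_eq_top.2 hπ, ← Subgroup.index_ker,
        Subgroup.card_mul_index]
    rw [hcard τ hτ.1]
    refine (hbound Δ τ hτ).trans_eq ?_
    rw [← Subgroup.card_mul_index σ.ker, Subgroup.index_ker, MonoidHom.range_eq_top.2 hσ.1,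
      Subgroup.card_top]
  have hb : Function.Bijective f :=
    (Nat.bijective_iff_surjective_and_card f).2
      ⟨hf, le_antisymm hle (Nat.card_le_card_of_surjective f hf)⟩
  rw [SchurTheory.hasSchurMultiplier_iff]
  exact ⟨e.symm.trans (MulEquiv.ofBijective f hb).symm⟩

end CfsgLib.MultOrth
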