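import Cfsg.Agent.MultOrth.SphereBound
import Cfsg.Agent.Forms.OrthIndex

/-!
# The sphere in characteristic two
-/

set_option autoImplicit false
set_option linter.unusedSectionVars false
set_option linter.unusedSimpArgs false

namespace CfsgLib.MultOrth

open Matrix Module CfsgLib.Spinor CfsgLib.Forms CfsgLib.Forms4
open CfsgLib.AutPOmega (perp perp_perp)

variable {F : Type*} [Field F] [Fintype F] [CharP F 2] {ι : Type} [Fintype ι] [DecidableEq ι]
  {Q : QuadraticForm F (ι → F)}

set_option quotPrecheck false in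
local notation "B" => QuadraticMap.polar (⇑Q)

theorem polar_self_two (x : ι → F) : B x x = 0 := by
  rw [polar_self', CharTwo.two_eq_zero, zero_mul]

theorem polar_unit_add {a b : ι → F} (ha : Q a = 1) (hb : Q b = 1) : Q (a + b) = B a b := by
  rw [QuadraticMap.map_add (⇑Q), ha, hb, CharTwo.add_self_eq_zero, zero_add]

/-- Pairwise orthogonal vectors are orthogonal to their span. -/
theorem orth_span {k : ℕ} {s : Fin k → ι → F} (h : ∀ i j, B (s i) (s j) = 0) (i : Fin k)
    (d : ι → F) (hd : d ∈ Submodule.span F (Set.range s)) : B (s i) d = 0 := by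
  rw [QuadraticMap.polar_comm]
  exact polar_span_eq_zero hd fun j => h j i

variable (hQ : (QuadraticMap.polarBilin Q).Nondegenerate)
include hQ

/-- A set of vectors of `W = s⊥` outside the span of `s` contains a unit vector or none. -/
theorem exists_unit_outside {k : ℕ} (s : Fin k → ι → F)
    (hW : ¬ perpSub Q s ≤ Submodule.span F (Set.range s)) :
    ∃ y ∈ perpSub Q s, Q y = 1 ∧ y ∉ Submodule.span F (Set.range s) := by
  set W := perpSub Q s with hW'
  set S := Submodule.span F (Set.range s) with hS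
  obtain ⟨y, hy, hy0, hyS⟩ : ∃ y ∈ W, Q y ≠ 0 ∧ y ∉ S := by
    by_contra h
    push Not at h
    obtain ⟨y, hy, hyS⟩ := SetLike.not_le_iff_exists.1 hW
    have hQy : Q y = 0 := by
      by_contra h0; exact hyS (h y hy h0)
    -- `y` is orthogonal to all of `W`
    refine hyS ?_
    rw [← perp_perp hQ S]
    intro w hw
    have hwW : w ∈ W := mem_perpSub.2 fun i => hw _ (Submodule.subset_span ⟨i, rfl⟩)
    show B w y = 0
    by_contra hB
    have h1 : ∀ t : F, t ≠ 0 → y + t • w ∈ S ∨ Q (y + t • w) = 0 := fun t _ => by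
      by_cases h0 : Q (y + t • w) = 0
      · exact Or.inr h0
      · exact Or.inl (h _ (W.add_mem hy (W.smul_mem t hwW)) h0)
    by_cases hQw : Q w = 0
    · have hne : Q (y + (1 : F) • w) ≠ 0 := by
        rw [one_smul, QuadraticMap.map_add (⇑Q), hQy, hQw, QuadraticMap.polar_comm, zero_add, zero_add]
        exact hB
      have hmem := (h1 1 one_ne_zero).resolve_right hne
      rw [one_smul] at hmem
      have hwS : w ∉ S := fun hw => hyS (by simpa using S.sub_mem hmem hw)
      -- the same sum is orthogonal to `w`, a contradiction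
      have : B (y + w) w = 0 :=
        polar_span_eq_zero hmem fun i => mem_perpSub.1 hwW i
      rw [QuadraticMap.polar_add_left, polar_self_two, add_zero, QuadraticMap.polar_comm] at this
      exact hB this
    · have hwS := h w hwW hQw
      have : B w y = 0 := polar_span_eq_zero hwS fun i => mem_perpSub.1 hy i
      exact hB this
  obtain ⟨c, hc⟩ := exists_sq_eq (Q y)⁻¹
  have hc0 : c ≠ 0 := fun h0 => inv_ne_zero hy0 (by rw [← hc, h0, zero_mul])
  refine ⟨c • y, W.smul_mem c hy, by rw [QuadraticMap.map_smul, hc, smul_eq_mul, inv_mul_cancel₀ hy0],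
    fun h => hyS ?_⟩
  have := S.smul_mem c⁻¹ h
  rwa [inv_smul_smul₀ hc0] at this

/-- For few vectors a common orthogonal unit vector exists outside their span. -/
theorem exists_unit_few {k : ℕ} (s : Fin k → ι → F) (hk : 2 * k < Fintype.card ι) :
    ∃ y, (∀ i, B (s i) y = 0) ∧ Q y = 1 ∧ y ∉ Submodule.span F (Set.range s) := by
  obtain ⟨y, hy, h1, hS⟩ := exists_unit_outside hQ s fun hle => by
    have h1 := le_finrank_perpSub Q s
    rw [finrank_fintype_fun_eq_card] at h1
    have h3 : finrank F (Submodule.span F (Set.range s)) ≤ k := by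
      have := finrank_range_le_card (R := F) s
      simpa [Set.finrank] using this
    have := Submodule.finrank_mono hle
    omega
  exact ⟨y, mem_perpSub.1 hy, h1, hS⟩

variable (hn : 8 ≤ Fintype.card ι)
include hn

theorem even_mem_omega {u v : ι → F} (hu : Q u ≠ 0) (hv : Q v ≠ 0) :
    reflIso Q u hu * reflIso Q v hv ∈ Cfsg.Omega F ⇑Q := by
  have hexc : Nat.card F ≠ 2 ∨ Fintype.card ι ≠ 4 := Or.inr (by omega)
  rw [omega_eq_ker_charTwo hQ (exists_isReflProd_charTwo hQ hexc) hexc, MonoidHom.mem_ker, map_mul,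
    parityHom_reflIso, parityHom_reflIso]
  decide

/-- Moves in `Ω` fixing given vectors. -/
theorem exists_move_two {k : ℕ} (s : Fin k → ι → F) (hk : k ≤ 2) {a b : ι → F} (ha : Q a = 1)
    (hb : Q b = 1) (has : ∀ i, B (s i) a = 0) (hbs : ∀ i, B (s i) b = 0)
    (hao : a ∉ Submodule.span F (Set.range s)) (hbo : b ∉ Submodule.span F (Set.range s))
    (hds : ∀ i, ∀ d, d ∈ Submodule.span F (Set.range s) → B (s i) d = 0)
    (hd : ∃ d ∈ Submodule.span F (Set.range s), Q d = 1 ∧ B a d = 0 ∧ B b d = 0) :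
    ∃ g ∈ Cfsg.Omega F ⇑Q, mat Q g *ᵥ a = b ∧ ∀ i, mat Q g *ᵥ s i = s i := by
  have hmove : ∀ p q : ι → F, Q p = 1 → Q q = 1 → (∀ i, B (s i) p = 0) → (∀ i, B (s i) q = 0) →
      B p q ≠ 0 → ∃ (h : Q (p + q) ≠ 0), mat Q (reflIso Q (p + q) h) *ᵥ p = q ∧
        ∀ i, mat Q (reflIso Q (p + q) h) *ᵥ s i = s i := by
    intro p q hp hq hps hqs hpq
    have h : Q (p + q) ≠ 0 := by rw [polar_unit_add hp hq]; exact hpq
    refine ⟨h, ?_, fun i => refl_fix h ?_⟩
    · rw [mat_reflIso, reflectionMatrix_mulVec, refl_apply, QuadraticMap.polar_add_left,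
        polar_self_two, zero_add, QuadraticMap.polar_comm (⇑Q) q p, polar_unit_add hp hq,
        inv_mul_cancel₀ hpq, one_smul, sub_add_cancel_left]
      funext i
      exact CharTwo.neg_eq _
    · rw [QuadraticMap.polar_add_left, QuadraticMap.polar_comm (⇑Q) p, hps,
        QuadraticMap.polar_comm (⇑Q) q, hqs, add_zero]
  by_cases hab : B a b = 0
  · -- through a vector not orthogonal to both
    set W := perpSub Q s
    have hex : ∀ x, x ∉ Submodule.span F (Set.range s) → ∃ w ∈ W, B x w ≠ 0 := by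
      intro x hx
      by_contra h
      push Not at h
      refine hx ?_
      rw [← perp_perp hQ (Submodule.span F (Set.range s))]
      intro w hw
      show B w x = 0
      rw [QuadraticMap.polar_comm]
      exact h w (mem_perpSub.2 fun i => hw _ (Submodule.subset_span ⟨i, rfl⟩))
    obtain ⟨w₁, hw₁, h1⟩ := hex a hao
    obtain ⟨w₂, hw₂, h2⟩ := hex b hbo
    obtain ⟨w, hw, hwa, hwb⟩ : ∃ w ∈ W, B a w ≠ 0 ∧ B b w ≠ 0 := by
      by_cases c₁ : B b w₁ = 0
      · by_cases c₂ : B a w₂ = 0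
        · exact ⟨w₁ + w₂, W.add_mem hw₁ hw₂,
            by rwa [QuadraticMap.polar_add_right, c₂, add_zero],
            by rwa [QuadraticMap.polar_add_right, c₁, zero_add]⟩
        · exact ⟨w₂, hw₂, c₂, h2⟩
      · exact ⟨w₁, hw₁, h1, c₁⟩
    obtain ⟨c, hcs, hc1, hca, hcb⟩ : ∃ c, (∀ i, B (s i) c = 0) ∧ Q c = 1 ∧ B a c ≠ 0 ∧ B b c ≠ 0 := by
      obtain ⟨d, hdS, hd1, had, hbd⟩ := hd
      by_cases hw0 : Q w = 0
      · have hwd : B w d = 0 := by
          rw [QuadraticMap.polar_comm]; exact polar_span_eq_zero hdS (mem_perpSub.1 hw)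
        refine ⟨w + d, fun i => ?_, by rw [QuadraticMap.map_add (⇑Q), hw0, hd1, hwd, zero_add, add_zero],
          by rwa [QuadraticMap.polar_add_right, had, add_zero],
          by rwa [QuadraticMap.polar_add_right, hbd, add_zero]⟩
        rw [QuadraticMap.polar_add_right, mem_perpSub.1 hw i, hds i d hdS, add_zero]
      · obtain ⟨r, hr⟩ := exists_sq_eq (Q w)⁻¹
        have hr0 : r ≠ 0 := fun h0 => inv_ne_zero hw0 (by rw [← hr, h0, zero_mul])
        exact ⟨r • w, fun i => by rw [QuadraticMap.polar_smul_right, mem_perpSub.1 hw i, smul_zero],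
          by rw [QuadraticMap.map_smul, hr, smul_eq_mul, inv_mul_cancel₀ hw0],
          by rw [QuadraticMap.polar_smul_right]; exact mul_ne_zero hr0 hwa,
          by rw [QuadraticMap.polar_smul_right]; exact mul_ne_zero hr0 hwb⟩
    obtain ⟨p1, e1, f1⟩ := hmove a c ha hc1 has hcs hca
    obtain ⟨p2, e2, f2⟩ := hmove c b hc1 hb hcs hbs (by rwa [QuadraticMap.polar_comm])
    refine ⟨_, even_mem_omega hQ hn p2 p1, ?_, fun i => ?_⟩
    · rw [mat_mul, ← Matrix.mulVec_mulVec, e1, e2]
    · rw [mat_mul, ← Matrix.mulVec_mulVec, f1, f2]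
  · obtain ⟨p, e, f⟩ := hmove a b ha hb has hbs hab
    obtain ⟨x, hx, hx1, -⟩ := exists_unit_few hQ (Fin.cons b s : Fin (k + 1) → ι → F) (by omega)
    have hx0 : Q x ≠ 0 := by rw [hx1]; exact one_ne_zero
    refine ⟨_, even_mem_omega hQ hn hx0 p, ?_, fun i => ?_⟩
    · rw [mat_mul, ← Matrix.mulVec_mulVec, e,
        refl_fix hx0 (by rw [QuadraticMap.polar_comm]; simpa using hx 0)]
    · rw [mat_mul, ← Matrix.mulVec_mulVec, f,
        refl_fix hx0 (by rw [QuadraticMap.polar_comm]; simpa using hx i.succ)]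

omit hQ hn in
/-- Orthogonal and distinct. -/
def OrthTwo' (a b : Sphere Q) : Prop := B a.1 b.1 = 0 ∧ a ≠ b

omit hQ hn in
/-- The generators in characteristic two. -/
def GenTwo (Q : QuadraticForm F (ι → F)) : Set ↥(Cfsg.Omega F ⇑Q) :=
  {g | ∃ u v : ι → F, Q u = 1 ∧ Q v = 1 ∧ QuadraticMap.polar (⇑Q) u v = 0 ∧ u ≠ v ∧
    mat Q g.1 = Cfsg.reflectionMatrix (⇑Q) u * Cfsg.reflectionMatrix (⇑Q) v}

omit hQ hn in
theorem genTwo_mulVec {g : ↥(Cfsg.Omega F ⇑Q)} {u v : ι → F} (hu : Q u = 1) (hv : Q v = 1)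
    (huv : B u v = 0)
    (hg : mat Q g.1 = Cfsg.reflectionMatrix (⇑Q) u * Cfsg.reflectionMatrix (⇑Q) v) (x : ι → F) :
    mat Q g.1 *ᵥ x = x - B v x • v - B u x • u := by
  rw [hg, ← Matrix.mulVec_mulVec, reflectionMatrix_mulVec, reflectionMatrix_mulVec, refl_apply,
    refl_apply, hu, hv, QuadraticMap.polar_sub_right, QuadraticMap.polar_smul_right, huv]
  simp

omit hQ hn in
theorem unit_unique {a : ι → F} (ha : Q a = 1) {t : F} (ht : Q (t • a) = 1) : t • a = a := by
  rw [QuadraticMap.map_smul, ha, smul_eq_mul, mul_one] at ht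
  rcases mul_self_eq_one_iff.1 ht with h | h
  · rw [h, one_smul]
  · rw [h, CharTwo.neg_eq, one_smul]

omit hQ hn in
theorem not_mem_span_singleton {a : ι → F} (ha : Q a = 1) {y : ι → F} (hy : Q y = 1) (h : a ≠ y) :
    a ∉ Submodule.span F (Set.range ![y]) := by
  intro hm
  rw [Matrix.range_cons, Matrix.range_empty, Set.union_empty, Submodule.mem_span_singleton] at hm
  obtain ⟨t, rfl⟩ := hm
  exact h (unit_unique hy ha)

/-- Equal sums of orthogonal distinct units. -/
theorem genTwo_fix {g : ↥(Cfsg.Omega F ⇑Q)} {u v : ι → F} (hu : Q u = 1) (hv : Q v = 1)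
    (huv : B u v = 0) (hne : u ≠ v)
    (hg : mat Q g.1 = Cfsg.reflectionMatrix (⇑Q) u * Cfsg.reflectionMatrix (⇑Q) v) {x : ι → F}
    (hx : mat Q g.1 *ᵥ x = x) : B u x = 0 ∧ B v x = 0 := by
  rw [genTwo_mulVec hu hv huv hg, sub_sub, sub_eq_self] at hx
  by_cases h : B u x = 0
  · rw [h, zero_smul, add_zero, smul_eq_zero] at hx
    exact ⟨h, hx.resolve_right fun h0 => by rw [h0, map_zero] at hv; exact zero_ne_one hv⟩
  · exfalso
    refine not_mem_span_singleton hu hv hne ?_
    rw [Matrix.range_cons, Matrix.range_empty, Set.union_empty, Submodule.mem_span_singleton]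
    refine ⟨-((B u x)⁻¹ * B v x), ?_⟩
    have h' : B u x • u = -(B v x • v) := by
      rw [eq_neg_iff_add_eq_zero, add_comm]; exact hx
    calc (-((B u x)⁻¹ * B v x)) • v = (B u x)⁻¹ • (-(B v x • v)) := by module
      _ = u := by rw [← h', inv_smul_smul₀ h]

theorem closure_genTwo (P : TwoPairs Q) : Subgroup.closure (GenTwo Q) = ⊤ := by
  have hmk : ∀ (g : ↥(Cfsg.isometryGroup F ⇑Q)) (u v : ι → F), mat Q g *
      (Cfsg.reflectionMatrix (⇑Q) u * Cfsg.reflectionMatrix (⇑Q) v) * mat Q g⁻¹ =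
      Cfsg.reflectionMatrix (⇑Q) (mat Q g *ᵥ u) * Cfsg.reflectionMatrix (⇑Q) (mat Q g *ᵥ v) := by
    intro g u v
    rw [← mul_assoc (mat Q g), mat_mul_reflectionMatrix, mul_assoc _ (mat Q g),
      mat_mul_reflectionMatrix, ← mul_assoc, mul_assoc _ (mat Q g), ← mat_mul, mul_inv_cancel,
      mat_one, mul_one]
  set N := (Subgroup.closure (GenTwo Q)).map (Cfsg.Omega F ⇑Q).subtype with hN
  have hconj : ∀ n ∈ N, ∀ g ∈ Cfsg.Omega F ⇑Q, g * n * g⁻¹ ∈ N := by
    rintro _ ⟨n, hn', rfl⟩ g hg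
    refine ⟨⟨g, hg⟩ * n * ⟨g, hg⟩⁻¹, ?_, rfl⟩
    induction hn' using Subgroup.closure_induction with
    | mem x hx =>
      obtain ⟨u, v, hu, hv, huv, hne, hx⟩ := hx
      refine Subgroup.subset_closure ⟨mat Q g *ᵥ u, mat Q g *ᵥ v, by rw [quad_mulVec, hu],
        by rw [quad_mulVec, hv], by rw [polar_mulVec, huv], fun h => hne ?_, ?_⟩
      · have := congrArg (fun z => mat Q g⁻¹ *ᵥ z) h
        simpa [Matrix.mulVec_mulVec, ← mat_mul, mat_one] using this
      · show mat Q (g * x.1 * g⁻¹) = _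
        rw [mat_mul, mat_mul, hx, hmk]
    | one => simp
    | mul x y _ _ hx hy => simpa [mul_assoc] using mul_mem hx hy
    | inv x _ hx => simpa [mul_assoc] using inv_mem hx
  obtain ⟨u, -, hu, -⟩ := exists_unit_few hQ (![] : Fin 0 → ι → F) (by omega)
  obtain ⟨v, huv, hv, hvo⟩ := exists_unit_few hQ ![u] (by omega)
  have huv : B u v = 0 := huv 0
  have hne : u ≠ v := fun h => hvo (h ▸ Submodule.subset_span ⟨0, rfl⟩)
  have hu0 : Q u ≠ 0 := by rw [hu]; exact one_ne_zero
  have hv0 : Q v ≠ 0 := by rw [hv]; exact one_ne_zero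
  let g : ↥(Cfsg.Omega F ⇑Q) := ⟨_, even_mem_omega hQ hn hu0 hv0⟩
  have hg : g ∈ Subgroup.closure (GenTwo Q) :=
    Subgroup.subset_closure ⟨u, v, hu, hv, huv, hne, rfl⟩
  rcases TwoPairs.scalar_or_omega_le hQ (by omega) P N hconj with h | h
  · exfalso
    obtain ⟨r, hr, hgr⟩ := h _ ⟨g, hg, rfl⟩
    have hr1 : r = 1 := by
      rcases mul_self_eq_one_iff.1 hr with h | h
      · exact h
      · rw [h, CharTwo.neg_eq]
    have hfix : ∀ x, mat Q g.1 *ᵥ x = x := fun x => by
      change mat Q g.1 = r • 1 at hgr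
      rw [hgr, hr1, one_smul, Matrix.one_mulVec]
    have hu' : u = 0 := polar_nondeg_vec hQ fun x =>
      (genTwo_fix hQ hn hu hv huv hne rfl (hfix x)).1
    rw [hu', map_zero] at hu
    exact zero_ne_one hu
  · rw [eq_top_iff]
    intro x _
    obtain ⟨n, hn', e⟩ := h x.2
    rwa [← Subtype.ext e]

/-- The hypotheses of the transport argument, characteristic two. -/
theorem covering_two (P : TwoPairs Q) {E : Type*} [Group E] (π : E →* ↥(Cfsg.Omega F ⇑Q))
    (hs : Function.Surjective π) (hc : π.ker ≤ Subgroup.center E) (hE : commutator E = ⊤)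
    (z₀ : Sphere Q) (K₀ : Subgroup E) (inj : ∀ x ∈ K₀, π x = 1 → x = 1)
    (img : K₀.map π = MulAction.stabilizer _ z₀)
    (hperf : ∀ a b : Sphere Q, B a.1 b.1 = 0 →
      ⁅MulAction.stabilizer ↥(Cfsg.Omega F ⇑Q) a ⊓ MulAction.stabilizer _ b,
        MulAction.stabilizer ↥(Cfsg.Omega F ⇑Q) a ⊓ MulAction.stabilizer _ b⁆ =
        MulAction.stabilizer ↥(Cfsg.Omega F ⇑Q) a ⊓ MulAction.stabilizer _ b ∨
      ∀ x ∈ Covering.K π z₀ K₀ a, π x • b = b → x ∈ Covering.K π z₀ K₀ b) :
    Covering π (OrthTwo' (Q := Q)) (fun a b : Sphere Q => B a.1 b.1 = 0) (GenTwo Q) z₀ K₀ where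
  surj := hs
  central := hc
  perfect := hE
  inj := inj
  img := img
  trans z := by
    obtain ⟨d, hd, hd1, hdo⟩ := exists_unit_few hQ ![z₀.1, z.1] (by omega)
    obtain ⟨g, hg, h1, -⟩ := exists_move_two hQ hn ![d] (by omega) z₀.2 z.2
      (fun i => by fin_cases i; exact (QuadraticMap.polar_comm _ _ _).trans (hd 0))
      (fun i => by fin_cases i; exact (QuadraticMap.polar_comm _ _ _).trans (hd 1))
      (not_mem_span_singleton z₀.2 hd1 fun e => hdo (e ▸ Submodule.subset_span ⟨0, rfl⟩))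
      (not_mem_span_singleton z.2 hd1 fun e => hdo (e ▸ Submodule.subset_span ⟨1, rfl⟩))
      (orth_span fun i j => by fin_cases i; fin_cases j; exact polar_self_two _)
      ⟨d, Submodule.subset_span ⟨0, rfl⟩, hd1, hd 0, hd 1⟩
    exact ⟨⟨g, hg⟩, (smul_eq_iff _ _ _).2 h1⟩
  invar g a b h := ⟨(polar_mulVec Q g.1 a.1 b.1).trans h.1, fun e => h.2 (smul_left_cancel g e)⟩
  good_of a b h := h.1
  perfect_good a b h := hperf a b h
  triple a b c := by
    obtain ⟨y, hy, hy1, hyo⟩ := exists_unit_few hQ ![a.1, b.1, c.1] (by omega)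
    exact ⟨⟨y, hy1⟩,
      ⟨(QuadraticMap.polar_comm _ _ _).trans (hy 0), fun e => hyo (Submodule.subset_span ⟨0, (congrArg Subtype.val e).symm⟩)⟩,
      ⟨(QuadraticMap.polar_comm _ _ _).trans (hy 1), fun e => hyo (Submodule.subset_span ⟨1, (congrArg Subtype.val e).symm⟩)⟩,
      ⟨(QuadraticMap.polar_comm _ _ _).trans (hy 2), fun e => hyo (Submodule.subset_span ⟨2, (congrArg Subtype.val e).symm⟩)⟩⟩
  move a b y ya yb := by
    obtain ⟨g, hg, h1, h3⟩ := exists_move_two hQ hn ![y.1] (by omega) a.2 b.2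
      (fun i => by fin_cases i; exact ya.1) (fun i => by fin_cases i; exact yb.1)
      (not_mem_span_singleton a.2 y.2 fun e => ya.2 (Subtype.ext e).symm)
      (not_mem_span_singleton b.2 y.2 fun e => yb.2 (Subtype.ext e).symm)
      (orth_span fun i j => by fin_cases i; fin_cases j; exact polar_self_two _)
      ⟨y.1, Submodule.subset_span ⟨0, rfl⟩, y.2,
        (QuadraticMap.polar_comm _ _ _).trans ya.1, (QuadraticMap.polar_comm _ _ _).trans yb.1⟩
    exact ⟨⟨g, hg⟩, (smul_eq_iff _ _ _).2 (h3 0), (smul_eq_iff _ _ _).2 h1⟩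
  chain a b y y' ya yb ya' yb' := by
    obtain ⟨y₁, hy1, ea, eb, ey, ey', oa, ob, oa', ob'⟩ : ∃ y₁ : ι → F, Q y₁ = 1 ∧ B a.1 y₁ = 0 ∧
        B b.1 y₁ = 0 ∧ B y.1 y₁ = 0 ∧ B y'.1 y₁ = 0 ∧
        a.1 ∉ Submodule.span F (Set.range ![y.1, y₁]) ∧ b.1 ∉ Submodule.span F (Set.range ![y.1, y₁]) ∧
        a.1 ∉ Submodule.span F (Set.range ![y₁, y'.1]) ∧
        b.1 ∉ Submodule.span F (Set.range ![y₁, y'.1]) := by
      set s : Fin 4 → ι → F := ![a.1, b.1, y.1, y'.1] with hs'
      have hmem : ∀ i, s i ∈ Submodule.span F (Set.range s) := fun i =>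
        Submodule.subset_span ⟨i, rfl⟩
      by_cases hW : perpSub Q s ≤ Submodule.span F (Set.range s)
      · -- four independent pairwise orthogonal vectors
        have h1 := le_finrank_perpSub Q s
        rw [finrank_fintype_fun_eq_card] at h1
        have h3 : finrank F (Submodule.span F (Set.range s)) ≤ 4 := by
          have := finrank_range_le_card (R := F) s
          simpa [Set.finrank] using this
        have h4 := Submodule.finrank_mono hW
        have hli : LinearIndependent F s := by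
          rw [linearIndependent_iff_card_le_finrank_span]
          simp [Set.finrank]
          omega
        have heq : perpSub Q s = Submodule.span F (Set.range s) :=
          Submodule.eq_of_le_of_finrank_le hW (by omega)
        have hab : B a.1 b.1 = 0 := mem_perpSub.1 (heq ▸ hmem 1) 0
        set y₁ := a.1 + b.1 + y.1 with hy₁
        have hsum : y₁ = ∑ i, (![1, 1, 1, 0] : Fin 4 → F) i • s i := by
          simp [hy₁, hs', Fin.sum_univ_four]
        have hswap : ∀ (i j : Fin 4) (_ : (i = 0 ∨ i = 1) ∧ (j = 2 ∨ j = 3)),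
            s i ∉ Submodule.span F (Set.range ![s j, y₁]) := by
          intro i j hij hm
          rw [Matrix.range_cons, Matrix.range_cons, Matrix.range_empty, Set.union_empty,
            Set.singleton_union, Submodule.mem_span_pair] at hm
          obtain ⟨x, w, hxw⟩ := hm
          have := Fintype.linearIndependent_iff.1 hli
            (Pi.single i 1 - Pi.single j x - w • ![1, 1, 1, 0]) (by
            simp only [Pi.sub_apply, Pi.smul_apply, smul_eq_mul, sub_smul, Finset.sum_sub_distrib,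
              Pi.single_apply, ite_smul, one_smul, zero_smul, Finset.sum_ite_eq', Finset.mem_univ,
              if_true, mul_smul, ← Finset.smul_sum, ← hsum]
            rw [← hxw]; abel)
          have g0 := this 0
          have g1 := this 1
          have g2 := this 2
          have g3 := this 3
          rcases hij with ⟨rfl | rfl, rfl | rfl⟩ <;> simp_all
        have hQy : Q y₁ = 1 := by
          rw [hy₁, QuadraticMap.map_add (⇑Q), polar_unit_add a.2 b.2, hab, y.2,
            QuadraticMap.polar_add_left, QuadraticMap.polar_comm (⇑Q) a.1 y.1, ya.1,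
            QuadraticMap.polar_comm (⇑Q) b.1 y.1, yb.1]
          simp
        have hyW : y₁ ∈ perpSub Q s := by
          rw [heq]
          exact Submodule.add_mem _ (Submodule.add_mem _ (hmem 0) (hmem 1)) (hmem 2)
        have hr : Set.range ![y₁, y'.1] = Set.range ![y'.1, y₁] := by
          simp [Matrix.range_cons, Matrix.range_empty, Set.pair_comm]
        refine ⟨y₁, hQy, mem_perpSub.1 hyW 0, mem_perpSub.1 hyW 1, mem_perpSub.1 hyW 2,
          mem_perpSub.1 hyW 3, hswap 0 2 (by decide), hswap 1 2 (by decide), ?_, ?_⟩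
        · rw [hr]; exact hswap 0 3 (by decide)
        · rw [hr]; exact hswap 1 3 (by decide)
      · obtain ⟨y₁, hy, hy1, hyo⟩ := exists_unit_outside hQ s hW
        have hno : ∀ (i j : Fin 4), s i ≠ s j → Q (s i) = 1 → Q (s j) = 1 →
            s i ∉ Submodule.span F (Set.range ![s j, y₁]) := by
          intro i j hij hi hj hm
          rw [Matrix.range_cons, Matrix.range_cons, Matrix.range_empty, Set.union_empty,
            Set.singleton_union, Submodule.mem_span_pair] at hm
          obtain ⟨x, z, hxz⟩ := hm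
          by_cases hz : z = 0
          · rw [hz, zero_smul, add_zero] at hxz
            have := unit_unique hj (t := x) (by rw [hxz]; exact hi)
            exact hij (by rw [← hxz, this])
          · refine hyo ?_
            have : y₁ = z⁻¹ • (s i - x • s j) := by
              rw [← hxz, add_sub_cancel_left, inv_smul_smul₀ hz]
            rw [this]
            exact Submodule.smul_mem _ _ (Submodule.sub_mem _ (hmem i) (Submodule.smul_mem _ _ (hmem j)))
        have hr : Set.range ![y₁, y'.1] = Set.range ![y'.1, y₁] := by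
          simp [Matrix.range_cons, Matrix.range_empty, Set.pair_comm]
        refine ⟨y₁, hy1, mem_perpSub.1 hy 0, mem_perpSub.1 hy 1, mem_perpSub.1 hy 2,
          mem_perpSub.1 hy 3, hno 0 2 (fun e => ya.2 (Subtype.ext e).symm) a.2 y.2,
          hno 1 2 (fun e => yb.2 (Subtype.ext e).symm) b.2 y.2, ?_, ?_⟩
        · rw [hr]; exact hno 0 3 (fun e => ya'.2 (Subtype.ext e).symm) a.2 y'.2
        · rw [hr]; exact hno 1 3 (fun e => yb'.2 (Subtype.ext e).symm) b.2 y'.2
    have hne : ∀ (p q c : ι → F), p ∉ Submodule.span F (Set.range ![c, q]) → q ≠ p :=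
      fun p q c h e => h (Submodule.subset_span ⟨1, e⟩)
    refine ⟨⟨y₁, hy1⟩, ⟨(QuadraticMap.polar_comm _ _ _).trans ea, fun e => hne _ _ _ oa (congrArg Subtype.val e)⟩,
      ⟨(QuadraticMap.polar_comm _ _ _).trans eb, fun e => hne _ _ _ ob (congrArg Subtype.val e)⟩,
      ey, (QuadraticMap.polar_comm _ _ _).trans ey', ?_, ?_⟩
    · obtain ⟨g, hg, h1, h3⟩ := exists_move_two hQ hn ![y.1, y₁] le_rfl a.2 b.2
        (fun i => by fin_cases i <;> [exact ya.1; exact (QuadraticMap.polar_comm _ _ _).trans ea])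
        (fun i => by fin_cases i <;> [exact yb.1; exact (QuadraticMap.polar_comm _ _ _).trans eb])
        oa ob
        (orth_span fun i j => by
          fin_cases i <;> fin_cases j <;>
            first | exact polar_self_two _ | exact ey | exact (QuadraticMap.polar_comm _ _ _).trans ey)
        ⟨y.1, Submodule.subset_span ⟨0, rfl⟩,
          y.2, (QuadraticMap.polar_comm _ _ _).trans ya.1, (QuadraticMap.polar_comm _ _ _).trans yb.1⟩
      exact ⟨⟨g, hg⟩, (smul_eq_iff _ _ _).2 (h3 0), (smul_eq_iff _ _ _).2 (h3 1),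
        (smul_eq_iff _ _ _).2 h1⟩
    · obtain ⟨g, hg, h1, h3⟩ := exists_move_two hQ hn ![y₁, y'.1] le_rfl a.2 b.2
        (fun i => by fin_cases i <;> [exact (QuadraticMap.polar_comm _ _ _).trans ea; exact ya'.1])
        (fun i => by fin_cases i <;> [exact (QuadraticMap.polar_comm _ _ _).trans eb; exact yb'.1])
        oa' ob'
        (orth_span fun i j => by
          fin_cases i <;> fin_cases j <;>
            first | exact polar_self_two _ | exact ey' | exact (QuadraticMap.polar_comm _ _ _).trans ey')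
        ⟨y'.1, Submodule.subset_span ⟨1, rfl⟩,
          y'.2, (QuadraticMap.polar_comm _ _ _).trans ya'.1, (QuadraticMap.polar_comm _ _ _).trans yb'.1⟩
      exact ⟨⟨g, hg⟩, (smul_eq_iff _ _ _).2 (h3 0), (smul_eq_iff _ _ _).2 (h3 1),
        (smul_eq_iff _ _ _).2 h1⟩
  gen := closure_genTwo hQ hn P
  gen_inv x := by
    rintro ⟨u, v, hu, hv, huv, hne, hx⟩
    refine ⟨v, u, hv, hu, (QuadraticMap.polar_comm _ _ _).trans huv, hne.symm, ?_⟩
    have h1 : mat Q x⁻¹.1 * mat Q x.1 = 1 := by
      rw [← mat_mul, ← Subgroup.coe_mul, inv_mul_cancel]; rfl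
    calc mat Q x⁻¹.1 = mat Q x⁻¹.1 * (mat Q x.1 *
          (Cfsg.reflectionMatrix (⇑Q) v * Cfsg.reflectionMatrix (⇑Q) u)) := by
            rw [hx, mul_assoc, ← mul_assoc (Cfsg.reflectionMatrix (⇑Q) v),
              reflectionMatrix_mul_self Q (by rw [hv]; exact one_ne_zero), one_mul,
              reflectionMatrix_mul_self Q (by rw [hu]; exact one_ne_zero), mul_one]
      _ = _ := by rw [← mul_assoc, h1, one_mul]
  gen_fix x hx z := by
    obtain ⟨u, v, hu, hv, huv, -, hx⟩ := hx
    obtain ⟨y, hy, hy1, hyo⟩ := exists_unit_few hQ ![u, v, z.1] (by omega)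
    refine ⟨⟨y, hy1⟩, (smul_eq_iff _ _ _).2 ?_, (QuadraticMap.polar_comm _ _ _).trans (hy 2),
      fun e => hyo (Submodule.subset_span ⟨2, (congrArg Subtype.val e).symm⟩)⟩
    rw [genTwo_mulVec hu hv huv hx, show B u y = 0 from hy 0, show B v y = 0 from hy 1]
    simp
  gen_chain x hx y y' hy hy' := by
    obtain ⟨u, v, hu, hv, huv, hne, hx⟩ := hx
    obtain ⟨e1, -⟩ := genTwo_fix hQ hn hu hv huv hne hx ((smul_eq_iff _ _ _).1 hy)
    obtain ⟨e2, -⟩ := genTwo_fix hQ hn hu hv huv hne hx ((smul_eq_iff _ _ _).1 hy')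
    refine ⟨⟨u, hu⟩, (smul_eq_iff _ _ _).2 ?_, (QuadraticMap.polar_comm _ _ _).trans e1, e2⟩
    rw [genTwo_mulVec hu hv huv hx, polar_self_two, QuadraticMap.polar_comm (⇑Q) v u, huv]
    simp

end CfsgLib.MultOrth
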