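import Mathlib

/-!
# A central extension trivial on a point stabiliser, by transport along orthogonal points

`G` acts transitively on `Δ`; a symmetric relation `O` ("orthogonal") is such that any three
points have a common neighbour, and good pairs have perfect two-point stabilisers. A central
extension in which the stabiliser of one point lifts is then an isomorphism.
-/

set_option autoImplicit false
set_option linter.unusedSectionVars false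

namespace CfsgLib.MultOrth

open scoped commutatorElement

variable {E G Δ : Type*} [Group E] [Group G] [MulAction G Δ]

/-- The lifted stabiliser of `z`. -/
def Covering.K (π : E →* G) (z₀ : Δ) (K₀ : Subgroup E) (z : Δ) : Set E :=
  {x | ∃ e : E, π e • z₀ = z ∧ e⁻¹ * x * e ∈ K₀}

/-- The hypotheses of the transport argument. -/
structure Covering (π : E →* G) (O Good : Δ → Δ → Prop) (X : Set G) (z₀ : Δ) (K₀ : Subgroup E) :
    Prop where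
  surj : Function.Surjective π
  central : π.ker ≤ Subgroup.center E
  perfect : commutator E = ⊤
  inj : ∀ x ∈ K₀, π x = 1 → x = 1
  img : K₀.map π = MulAction.stabilizer G z₀
  trans : ∀ z : Δ, ∃ g : G, g • z₀ = z
  invar : ∀ (g : G) (a b : Δ), O a b → O (g • a) (g • b)
  good_of : ∀ a b, O a b → Good a b
  perfect_good : ∀ a b, Good a b →
    ⁅MulAction.stabilizer G a ⊓ MulAction.stabilizer G b,
      MulAction.stabilizer G a ⊓ MulAction.stabilizer G b⁆ =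
      MulAction.stabilizer G a ⊓ MulAction.stabilizer G b ∨
    ∀ x ∈ Covering.K π z₀ K₀ a, π x • b = b → x ∈ Covering.K π z₀ K₀ b
  triple : ∀ a b c, ∃ y, O y a ∧ O y b ∧ O y c
  move : ∀ a b y, O y a → O y b → ∃ h : G, h • y = y ∧ h • a = b
  chain : ∀ a b y y', O y a → O y b → O y' a → O y' b →
    ∃ y₁, O y₁ a ∧ O y₁ b ∧ Good y y₁ ∧ Good y₁ y' ∧
      (∃ h : G, h • y = y ∧ h • y₁ = y₁ ∧ h • a = b) ∧
      ∃ h : G, h • y₁ = y₁ ∧ h • y' = y' ∧ h • a = b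
  gen : Subgroup.closure X = ⊤
  gen_inv : ∀ x ∈ X, x⁻¹ ∈ X
  gen_fix : ∀ x ∈ X, ∀ z, ∃ y, x • y = y ∧ O y z
  gen_chain : ∀ x ∈ X, ∀ y y', x • y = y → x • y' = y' →
    ∃ y₁, x • y₁ = y₁ ∧ Good y y₁ ∧ Good y₁ y'

namespace Covering

variable {π : E →* G} {O Good : Δ → Δ → Prop} {X : Set G} {z₀ : Δ} {K₀ : Subgroup E}
  (H : Covering π O Good X z₀ K₀)

include H

theorem exists_lift₀ {g : G} (hg : g • z₀ = z₀) : ∃ k ∈ K₀, π k = g := by
  have : g ∈ K₀.map π := by rw [H.img]; exact hg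
  exact this

theorem comm {c : E} (hc : π c = 1) (e : E) : e * c = c * e :=
  Subgroup.mem_center_iff.1 (H.central hc) e

/-- An element over the stabiliser of `z₀` normalises `K₀`. -/
theorem conj₀ {u : E} (hu : π u • z₀ = z₀) {x : E} (hx : x ∈ K₀) : u * x * u⁻¹ ∈ K₀ := by
  obtain ⟨k, hk, e⟩ := H.exists_lift₀ hu
  have hc : π (k⁻¹ * u) = 1 := by rw [map_mul, map_inv, e, inv_mul_cancel]
  have : u * x * u⁻¹ = k * x * k⁻¹ := by
    calc u * x * u⁻¹ = k * ((k⁻¹ * u) * x) * (k⁻¹ * u)⁻¹ * k⁻¹ := by group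
      _ = k * (x * (k⁻¹ * u)) * (k⁻¹ * u)⁻¹ * k⁻¹ := by rw [← H.comm hc x]
      _ = k * x * k⁻¹ := by group
  rw [this]
  exact mul_mem (mul_mem hk hx) (inv_mem hk)

theorem mem_K_iff {z : Δ} {e : E} (he : π e • z₀ = z) (x : E) :
    x ∈ K π z₀ K₀ z ↔ e⁻¹ * x * e ∈ K₀ := by
  refine ⟨fun ⟨e', he', hx⟩ => ?_, fun hx => ⟨e, he, hx⟩⟩
  have hu : π (e⁻¹ * e') • z₀ = z₀ := by
    rw [map_mul, map_inv, mul_smul, he', ← he, inv_smul_smul]
  have := H.conj₀ hu hx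
  convert this using 1
  group

theorem exists_base (z : Δ) : ∃ e : E, π e • z₀ = z := by
  obtain ⟨g, hg⟩ := H.trans z
  obtain ⟨e, rfl⟩ := H.surj g
  exact ⟨e, hg⟩

theorem mem_K_z₀ (x : E) : x ∈ K π z₀ K₀ z₀ ↔ x ∈ K₀ := by
  rw [H.mem_K_iff (e := 1) (by rw [map_one, one_smul])]
  simp

theorem one_mem_K (z : Δ) : (1 : E) ∈ K π z₀ K₀ z := by
  obtain ⟨e, he⟩ := H.exists_base z
  rw [H.mem_K_iff he]
  simp

theorem mul_mem_K {z : Δ} {x x' : E} (hx : x ∈ K π z₀ K₀ z) (hx' : x' ∈ K π z₀ K₀ z) :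
    x * x' ∈ K π z₀ K₀ z := by
  obtain ⟨e, he⟩ := H.exists_base z
  rw [H.mem_K_iff he] at hx hx' ⊢
  convert mul_mem hx hx' using 1
  group

theorem inv_mem_K {z : Δ} {x : E} (hx : x ∈ K π z₀ K₀ z) : x⁻¹ ∈ K π z₀ K₀ z := by
  obtain ⟨e, he⟩ := H.exists_base z
  rw [H.mem_K_iff he] at hx ⊢
  convert inv_mem hx using 1
  group

theorem conj_mem_K {z : Δ} {x : E} (hx : x ∈ K π z₀ K₀ z) (g : E) :
    g * x * g⁻¹ ∈ K π z₀ K₀ (π g • z) := by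
  obtain ⟨e, he, hx⟩ := hx
  refine ⟨g * e, by rw [map_mul, mul_smul, he], ?_⟩
  convert hx using 1
  group

theorem fix_of_mem_K {z : Δ} {x : E} (hx : x ∈ K π z₀ K₀ z) : π x • z = z := by
  obtain ⟨e, he, hx⟩ := hx
  have h : π (e⁻¹ * x * e) ∈ MulAction.stabilizer G z₀ := H.img ▸ Subgroup.mem_map_of_mem π hx
  rw [MulAction.mem_stabilizer_iff, map_mul, map_mul, map_inv, mul_smul, mul_smul, he,
    inv_smul_eq_iff, he] at h
  exact h

theorem exists_lift {z : Δ} {g : G} (hg : g • z = z) : ∃ x ∈ K π z₀ K₀ z, π x = g := by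
  obtain ⟨e, he⟩ := H.exists_base z
  obtain ⟨k, hk, hπ⟩ := H.exists_lift₀ (g := (π e)⁻¹ * g * π e)
    (by rw [mul_smul, mul_smul, he, hg, ← he, inv_smul_smul])
  refine ⟨e * k * e⁻¹, ⟨e, he, ?_⟩, by rw [map_mul, map_mul, map_inv, hπ]; group⟩
  convert hk using 1
  group

theorem eq_of_mem_K {z : Δ} {x x' : E} (hx : x ∈ K π z₀ K₀ z) (hx' : x' ∈ K π z₀ K₀ z)
    (h : π x = π x') : x = x' := by
  obtain ⟨e, he⟩ := H.exists_base z
  rw [H.mem_K_iff he] at hx hx'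
  have := H.inj _ (mul_mem (inv_mem hx) hx') (by simp only [map_mul, map_inv, h]; group)
  have h1 : e⁻¹ * (x⁻¹ * x') * e = 1 := by rw [← this]; group
  have h2 : x⁻¹ * x' = 1 := by
    have := congrArg (fun t => e * t * e⁻¹) h1
    simpa [mul_assoc] using this
  exact inv_mul_eq_one.1 h2

/-- Derived subgroups of preimages lie in the lifts. -/
theorem commutator_le_K {P : Subgroup E} {z : Δ} (hP : ∀ p ∈ P, π p • z = z) {x : E}
    (hx : x ∈ ⁅P, P⁆) : x ∈ K π z₀ K₀ z := by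
  let S : Subgroup E :=
    { carrier := K π z₀ K₀ z, one_mem' := H.one_mem_K z, mul_mem' := H.mul_mem_K,
      inv_mem' := H.inv_mem_K }
  refine (Subgroup.commutator_le.2 fun p hp p' hp' => ?_ : ⁅P, P⁆ ≤ S) hx
  obtain ⟨k, hk, hk'⟩ := H.exists_lift (hP p hp)
  obtain ⟨l, hl, hl'⟩ := H.exists_lift (hP p' hp')
  have c1 : k⁻¹ * p ∈ Subgroup.center E := H.central (by simp [hk'])
  have c2 : l⁻¹ * p' ∈ Subgroup.center E := H.central (by simp [hl'])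
  have : ⁅p, p'⁆ = ⁅k, l⁆ := by
    have e1 := Subgroup.mem_center_iff.1 c1
    have e2 := Subgroup.mem_center_iff.1 c2
    calc ⁅p, p'⁆ = ⁅k * (k⁻¹ * p), l * (l⁻¹ * p')⁆ := by rw [mul_inv_cancel_left, mul_inv_cancel_left]
      _ = k * ((k⁻¹ * p) * l) * ((l⁻¹ * p') * (k⁻¹ * p)⁻¹) * k⁻¹ * (l⁻¹ * p')⁻¹ * l⁻¹ := by
        simp only [commutatorElement_def]; group
      _ = k * (l * (k⁻¹ * p)) * ((k⁻¹ * p)⁻¹ * (l⁻¹ * p')) * k⁻¹ * (l⁻¹ * p')⁻¹ * l⁻¹ := by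
        rw [← e1 l, ← e2 (k⁻¹ * p)⁻¹]
      _ = k * l * ((l⁻¹ * p') * k⁻¹) * (l⁻¹ * p')⁻¹ * l⁻¹ := by group
      _ = k * l * (k⁻¹ * (l⁻¹ * p')) * (l⁻¹ * p')⁻¹ * l⁻¹ := by rw [← e2 k⁻¹]
      _ = ⁅k, l⁆ := by simp only [commutatorElement_def]; group
  rw [this]
  exact S.mul_mem (S.mul_mem (S.mul_mem hk hl) (S.inv_mem hk)) (S.inv_mem hl)

/-- Lifts agree on good pairs. -/
theorem agree {a b : Δ} (hab : Good a b) {x : E} (hx : x ∈ K π z₀ K₀ a) (hb : π x • b = b) :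
    x ∈ K π z₀ K₀ b := by
  rcases H.perfect_good a b hab with hp | hp
  swap
  · exact hp x hx hb
  set M := MulAction.stabilizer G a ⊓ MulAction.stabilizer G b with hM
  have hxM : π x ∈ M := ⟨H.fix_of_mem_K hx, hb⟩
  rw [← hp, ← Subgroup.map_comap_eq_self_of_surjective H.surj M,
    ← Subgroup.map_commutator] at hxM
  obtain ⟨d, hd, hdx⟩ := hxM
  have hda := H.commutator_le_K (P := M.comap π) (z := a) (fun p hp => hp.1) hd
  rw [H.eq_of_mem_K hx hda hdx.symm]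
  exact H.commutator_le_K (P := M.comap π) (z := b) (fun p hp => hp.2) hd

omit H in
/-- `g` transports `a` to `b` inside the stabiliser of a common neighbour. -/
def Tr (π : E →* G) (O : Δ → Δ → Prop) (z₀ : Δ) (K₀ : Subgroup E) (a b : Δ) (g : E) : Prop :=
  π g • a = b ∧ ∃ y, O y a ∧ O y b ∧ g ∈ K π z₀ K₀ y

theorem exists_tr {a b y : Δ} (ha : O y a) (hb : O y b) :
    ∃ g, π g • a = b ∧ g ∈ K π z₀ K₀ y := by
  obtain ⟨h, hy, hab⟩ := H.move a b y ha hb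
  obtain ⟨g, hg, rfl⟩ := H.exists_lift hy
  exact ⟨g, hab, hg⟩

theorem tr_good {a b y y' : Δ} {g g' : E} (hg : π g • a = b) (hg' : π g' • a = b) (ya : O y a)
    (yb : O y b) (ya' : O y' a) (yb' : O y' b) (hy : g ∈ K π z₀ K₀ y) (hy' : g' ∈ K π z₀ K₀ y')
    (hgood : Good y y') (hmove : ∃ h : G, h • y = y ∧ h • y' = y' ∧ h • a = b) :
    g⁻¹ * g' ∈ K π z₀ K₀ a := by
  obtain ⟨h, h1, h2, h3⟩ := hmove
  obtain ⟨u, hu, rfl⟩ := H.exists_lift h1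
  have hu' := H.agree hgood hu h2
  have e1 : g⁻¹ * u ∈ K π z₀ K₀ a := H.agree (H.good_of _ _ ya)
    (H.mul_mem_K (H.inv_mem_K hy) hu) (by rw [map_mul, map_inv, mul_smul, h3, ← hg, inv_smul_smul])
  have e2 : u⁻¹ * g' ∈ K π z₀ K₀ a := H.agree (H.good_of _ _ ya')
    (H.mul_mem_K (H.inv_mem_K hu') hy')
    (by rw [map_mul, map_inv, mul_smul, hg', ← h3, inv_smul_smul])
  have := H.mul_mem_K e1 e2
  rwa [mul_assoc, mul_inv_cancel_left] at this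

theorem tr_unique {a b : Δ} {g g' : E} (hg : Tr π O z₀ K₀ a b g) (hg' : Tr π O z₀ K₀ a b g') :
    g⁻¹ * g' ∈ K π z₀ K₀ a := by
  obtain ⟨hg, y, ya, yb, hy⟩ := hg
  obtain ⟨hg', y', ya', yb', hy'⟩ := hg'
  obtain ⟨y₁, a₁, b₁, c₁, c₂, m₁, m₂⟩ := H.chain a b y y' ya yb ya' yb'
  obtain ⟨g₁, hg₁, hy₁⟩ := H.exists_tr a₁ b₁
  have := H.mul_mem_K (H.tr_good hg hg₁ ya yb a₁ b₁ hy hy₁ c₁ m₁)
    (H.tr_good hg₁ hg' a₁ b₁ ya' yb' hy₁ hy' c₂ m₂)
  rwa [mul_assoc, mul_inv_cancel_left] at this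

omit H in
/-- The coset over `z`. -/
def Cl (π : E →* G) (O : Δ → Δ → Prop) (z₀ : Δ) (K₀ : Subgroup E) (z : Δ) (c : E) : Prop :=
  ∃ g, Tr π O z₀ K₀ z₀ z g ∧ g⁻¹ * c ∈ K π z₀ K₀ z₀

omit H in
/-- The canonical lifts of the generators. -/
def gens (π : E →* G) (X : Set G) (z₀ : Δ) (K₀ : Subgroup E) : Set E :=
  {e | π e ∈ X ∧ ∀ y, π e • y = y → e ∈ K π z₀ K₀ y}

theorem exists_gen {x : G} (hx : x ∈ X) : ∃ e ∈ gens π X z₀ K₀, π e = x := by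
  obtain ⟨y, hy, -⟩ := H.gen_fix x hx z₀
  obtain ⟨e, he, rfl⟩ := H.exists_lift hy
  refine ⟨e, ⟨hx, fun y' hy' => ?_⟩, rfl⟩
  obtain ⟨y₁, h1, c₁, c₂⟩ := H.gen_chain _ hx y y' hy hy'
  exact H.agree c₂ (H.agree c₁ he h1) hy'

theorem inv_gen {e : E} (he : e ∈ gens π X z₀ K₀) : e⁻¹ ∈ gens π X z₀ K₀ := by
  refine ⟨by rw [map_inv]; exact H.gen_inv _ he.1, fun y hy => H.inv_mem_K (he.2 y ?_)⟩
  rw [map_inv, inv_smul_eq_iff] at hy
  exact hy.symm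

theorem gen_preserves {e : E} (he : e ∈ gens π X z₀ K₀) {z : Δ} {c : E}
    (hc : Cl π O z₀ K₀ z c) : Cl π O z₀ K₀ (π e • z) (e * c) := by
  obtain ⟨g, hg, hgc⟩ := hc
  obtain ⟨y, hy, hyz⟩ := H.gen_fix _ he.1 z
  have hyz' : O y (π e • z) := hy ▸ H.invar (π e) y z hyz
  obtain ⟨w, w0, wz, wz'⟩ := H.triple z₀ z (π e • z)
  obtain ⟨g₁, hg₁, hw₁⟩ := H.exists_tr w0 wz
  obtain ⟨g₂, hg₂, hw₂⟩ := H.exists_tr wz wz'
  have e1 : g₂⁻¹ * e ∈ K π z₀ K₀ z :=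
    H.tr_unique ⟨hg₂, w, wz, wz', hw₂⟩ ⟨rfl, y, hyz, hyz', he.2 y hy⟩
  have e2 : g₁⁻¹ * g ∈ K π z₀ K₀ z₀ := H.tr_unique ⟨hg₁, w, w0, wz, hw₁⟩ hg
  have e3 : g₁⁻¹ * (g₂⁻¹ * e) * g₁ ∈ K π z₀ K₀ z₀ := by
    have := H.conj_mem_K e1 g₁⁻¹
    rwa [inv_inv, map_inv, ← hg₁, inv_smul_smul] at this
  refine ⟨g₂ * g₁, ⟨by rw [map_mul, mul_smul, hg₁, hg₂], w, w0, wz', H.mul_mem_K hw₂ hw₁⟩, ?_⟩
  convert H.mul_mem_K e3 (H.mul_mem_K e2 hgc) using 1
  group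

theorem closure_gens : Subgroup.closure (gens π X z₀ K₀) = ⊤ := by
  set S := Subgroup.closure (gens π X z₀ K₀) with hS
  have hmap : S.map π = ⊤ := by
    rw [eq_top_iff, ← H.gen, Subgroup.closure_le]
    intro x hx
    obtain ⟨e, he, rfl⟩ := H.exists_gen hx
    exact Subgroup.mem_map_of_mem π (Subgroup.subset_closure he)
  rw [eq_top_iff, ← H.perfect, commutator_def, Subgroup.commutator_le]
  intro p _ p' _
  obtain ⟨s, hs, hs'⟩ : π p ∈ S.map π := hmap ▸ Subgroup.mem_top _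
  obtain ⟨t, ht, ht'⟩ : π p' ∈ S.map π := hmap ▸ Subgroup.mem_top _
  have c1 : π (s⁻¹ * p) = 1 := by simp [hs']
  have c2 : π (t⁻¹ * p') = 1 := by simp [ht']
  have : ⁅p, p'⁆ = ⁅s, t⁆ := by
    calc ⁅p, p'⁆ = ⁅s * (s⁻¹ * p), t * (t⁻¹ * p')⁆ := by rw [mul_inv_cancel_left, mul_inv_cancel_left]
      _ = s * ((s⁻¹ * p) * t) * ((t⁻¹ * p') * (s⁻¹ * p)⁻¹) * s⁻¹ * (t⁻¹ * p')⁻¹ * t⁻¹ := by
        simp only [commutatorElement_def]; group
      _ = s * (t * (s⁻¹ * p)) * ((s⁻¹ * p)⁻¹ * (t⁻¹ * p')) * s⁻¹ * (t⁻¹ * p')⁻¹ * t⁻¹ := by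
        rw [← H.comm c1 t, ← H.comm c2 (s⁻¹ * p)⁻¹]
      _ = s * t * ((t⁻¹ * p') * s⁻¹) * (t⁻¹ * p')⁻¹ * t⁻¹ := by group
      _ = s * t * (s⁻¹ * (t⁻¹ * p')) * (t⁻¹ * p')⁻¹ * t⁻¹ := by rw [← H.comm c2 s⁻¹]
      _ = ⁅s, t⁆ := by simp only [commutatorElement_def]; group
  rw [this]
  exact mul_mem (mul_mem (mul_mem hs ht) (inv_mem hs)) (inv_mem ht)

theorem preserves (e : E) :
    ∀ z c, Cl π O z₀ K₀ z c ↔ Cl π O z₀ K₀ (π e • z) (e * c) := by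
  have he : e ∈ Subgroup.closure (gens π X z₀ K₀) := H.closure_gens ▸ Subgroup.mem_top e
  induction he using Subgroup.closure_induction with
  | mem x hx =>
    intro z c
    refine ⟨H.gen_preserves hx, fun h => ?_⟩
    have := H.gen_preserves (H.inv_gen hx) h
    rwa [map_inv, inv_smul_smul, inv_mul_cancel_left] at this
  | one => simp
  | mul x y _ _ hx hy =>
    intro z c
    rw [hy z c, hx, map_mul, mul_smul, mul_assoc]
  | inv x _ hx =>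
    intro z c
    rw [hx (π x⁻¹ • z) (x⁻¹ * c), map_inv, smul_inv_smul, mul_inv_cancel_left]

/-- The extension is an isomorphism. -/
theorem injective : Function.Injective π := by
  rw [injective_iff_map_eq_one]
  intro e he
  obtain ⟨y, hy, -, -⟩ := H.triple z₀ z₀ z₀
  have h1 : Tr π O z₀ K₀ z₀ z₀ 1 := ⟨by rw [map_one, one_smul], y, hy, hy, H.one_mem_K y⟩
  obtain ⟨g, hg, hge⟩ : Cl π O z₀ K₀ z₀ e := by
    have := (H.preserves e z₀ 1).1 ⟨1, h1, by simpa using H.one_mem_K z₀⟩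
    rwa [he, one_smul, mul_one] at this
  have h2 := H.mul_mem_K (H.tr_unique h1 hg) hge
  rw [inv_one, one_mul, mul_inv_cancel_left, H.mem_K_z₀] at h2
  exact H.inj e h2 he

end Covering

end CfsgLib.MultOrth
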