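import Cfsg.Agent.MultOrth.Lift
import Cfsg.Agent.DnPres.Presentation

/-!
# Perfect central extensions of `Ω⁺₂ₙ(q)` are no larger than the spin group

A Levi `SL_n` lifts; with a normalised lift of one reflection it satisfies the relations of the
amalgam of `DnPres` up to a central element of order at most two.
-/

set_option autoImplicit false
set_option linter.unusedSimpArgs false
set_option linter.unusedSectionVars false

namespace CfsgLib.MultOrth

open scoped commutatorElement
open Matrix CfsgLib.SL2Pres CfsgLib.SLnPres CfsgLib.ChevClassical CfsgLib.DnPres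

local notation "SL2" F:max => Matrix.SpecialLinearGroup (Fin 2) F

section Central

variable {E G : Type*} [Group E] [Group G] (φ : E →* G) (hc : φ.ker ≤ Subgroup.center E)
include hc

theorem div_central {u u' : E} (h : φ u = φ u') : u'⁻¹ * u ∈ Subgroup.center E :=
  hc (by rw [MonoidHom.mem_ker, map_mul, map_inv, h, inv_mul_cancel])

theorem comm_congr {u u' v v' : E} (hu : φ u = φ u') (hv : φ v = φ v') : ⁅u, v⁆ = ⁅u', v'⁆ := by
  rw [← SchurTheory.commutatorElement_mul_mem_center (x := u') (y := v') (div_central φ hc hu)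
    (div_central φ hc hv), mul_inv_cancel_left, mul_inv_cancel_left]

theorem commute_congr {u u' v v' : E} (h : Commute u' v') (hu : φ u = φ u') (hv : φ v = φ v') :
    Commute u v := by
  rw [← commutatorElement_eq_one_iff_commute, comm_congr φ hc hu hv]
  exact commutatorElement_eq_one_iff_commute.2 h

/-- A perfect group centralises whatever its image centralises. -/
theorem commute_of_perfect {K : Type*} [Group K] (hK : commutator K = ⊤) (α : K →* E) (x : E)
    (h : ∀ k, Commute (φ (α k)) (φ x)) (k : K) : Commute (α k) x := by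
  have e := hom_ext_of_perfect φ hc hK ((MulAut.conj x).toMonoidHom.comp α) α
    (MonoidHom.ext fun k => by
      simp only [MonoidHom.comp_apply, MulEquiv.coe_toMonoidHom, MulAut.conj_apply, map_mul,
        map_inv]
      rw [(h k).symm.eq, mul_inv_cancel_right])
  have := DFunLike.congr_fun e k
  simp only [MonoidHom.comp_apply, MulEquiv.coe_toMonoidHom, MulAut.conj_apply] at this
  exact (mul_inv_eq_iff_eq_mul.1 this).symm

/-- For `SL₂` one unipotent element suffices. -/
theorem commute_of_xU {F : Type*} [Field F] [Finite F] (α : SL2 F →* E) (x : E)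
    (h : ∀ g, Commute (φ (α g)) (φ x)) (h1 : Commute (α (xU 1)) x) (g : SL2 F) :
    Commute (α g) x := by
  let H : Subgroup (SL2 F) := (Subgroup.centralizer {x}).comap α
  have hmem : ∀ g, g ∈ H ↔ Commute (α g) x := fun g => by
    simp only [H, Subgroup.mem_comap, Subgroup.mem_centralizer_iff, Set.mem_singleton_iff, forall_eq]
    exact ⟨fun e => e.symm, fun e => e.symm⟩
  haveI : H.Normal := ⟨fun a ha b => by
    rw [hmem] at ha ⊢
    have hx : φ ((α b)⁻¹ * x * α b) = φ x := by
      rw [map_mul, map_mul, map_inv, mul_assoc, (h b).symm.eq, inv_mul_cancel_left]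
    have := ((commute_congr φ hc ha rfl hx).map (MulAut.conj (α b)).toMonoidHom)
    simp only [MulEquiv.coe_toMonoidHom, MulAut.conj_apply] at this
    rw [map_mul, map_mul, map_inv]
    convert this using 1
    group⟩
  exact (hmem g).1 (sl2_all H ((hmem _).2 h1) ▸ Subgroup.mem_top g)

end Central

variable {E F : Type*} [Group E] [Finite E] [Field F] [Fintype F] {k : ℕ}

/-- The Levi subgroup lies in `Ω⁺`. -/
theorem lev_range_le : (lev (m := k + 4) (F := F)).range ≤ rootSub (fr (k + 4)) F := by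
  rintro _ ⟨M, rfl⟩
  have : (rootSub (fr (k + 4)) F).comap lev = ⊤ :=
    CfsgLib.Linear.sl_eq_top_of_transvections fun i j hij t => by
      rw [Subgroup.mem_comap,
        show Matrix.SpecialLinearGroup.transvection hij t = tv i j t by rw [tv, dif_neg hij],
        ← eA_xU hij, lev_eA]
      exact eR_xU_mem _ _ _
  exact (this ▸ Subgroup.mem_top M : M ∈ _)

/-- A perfect central extension of `Ω⁺` with lifts of the Levi and of the reflection. -/
structure Plus (E F : Type*) [Group E] [Field F] (k : ℕ) where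
  φ : E →* OG (k + 4) F
  central : φ.ker ≤ Subgroup.center E
  range : φ.range = rootSub (fr (k + 4)) F
  perfect : commutator E = ⊤
  ρ : Matrix.SpecialLinearGroup (Fin (k + 4)) F →* E
  p : E
  hρ : ∀ A, φ (ρ A) = lev A
  hp : φ p = eR ((0 : Fin (k + 4)), false) (1, false) wW
  braid : p * ρ (eA 1 2 wW) * p = ρ (eA 1 2 wW) * p * ρ (eA 1 2 wW)

/-- Lifts exist. -/
theorem exists_plus (h4 : k = 0 → Fintype.card F ≠ 2) (φ : E →* OG (k + 4) F)
    (hc : φ.ker ≤ Subgroup.center E) (hr : φ.range = rootSub (fr (k + 4)) F)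
    (hE : commutator E = ⊤) : ∃ A : Plus E F k, A.φ = φ := by
  obtain ⟨ρ, hρ⟩ := exists_sl_lift (n := k + 4) (by omega) (fun h => h4 (by omega)) φ hc lev
    (hr ▸ lev_range_le)
  obtain ⟨p₀, hp₀⟩ : eR ((0 : Fin (k + 4)), false) (1, false) (wW : SL2 F) ∈ φ.range :=
    hr ▸ eR_wW_mem _ _
  set n := ρ (eA 1 2 wW) with hn
  set z := (p₀ * n * p₀)⁻¹ * (n * p₀ * n) with hz
  have hz1 : φ z = 1 := by
    rw [hz, map_mul, map_inv, inv_mul_eq_one]
    simp only [map_mul, hp₀, hn, hρ]
    exact target_braid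
  have hzc : ∀ g, Commute g z := fun g => Subgroup.mem_center_iff.1 (hc hz1) g
  refine ⟨{ φ := φ, central := hc, range := hr, perfect := hE, ρ := ρ, p := p₀ * z, hρ := hρ
            hp := by rw [map_mul, hp₀, hz1, mul_one]
            braid := ?_ }, rfl⟩
  rw [← hn]
  calc p₀ * z * n * (p₀ * z) = p₀ * (z * n) * p₀ * z := by group
    _ = p₀ * (n * z) * p₀ * z := by rw [(hzc n).eq]
    _ = p₀ * n * (z * p₀) * z := by group
    _ = p₀ * n * (p₀ * z) * z := by rw [(hzc p₀).eq]
    _ = (p₀ * n * p₀ * z) * z := by group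
    _ = (n * p₀ * n) * z := by rw [hz]; group
    _ = n * p₀ * (n * z) := by group
    _ = n * p₀ * (z * n) := by rw [(hzc n).eq]
    _ = n * (p₀ * z) * n := by group

namespace Plus

variable (A : Plus E F k)

/-- The root `SL₂` at `ε₀ + ε₁`. -/
def σ : SL2 F →* E :=
  (MulAut.conj (A.ρ (eA 1 2 wW) * A.p)).toMonoidHom.comp
    (A.ρ.comp ((eA (1 : Fin (k + 4)) 2).comp tS))

theorem σ_apply (g : SL2 F) : A.σ g =
    A.ρ (eA 1 2 wW) * A.p * A.ρ (eA 1 2 (tS g)) * (A.ρ (eA 1 2 wW) * A.p)⁻¹ := rfl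

theorem φ_σ (g : SL2 F) : A.φ (A.σ g) = eR ((0 : Fin (k + 4)), false) (1, false) g := by
  rw [A.σ_apply, map_mul, map_mul, map_inv, map_mul, A.hρ, A.hρ, A.hp]
  exact target_σ g

theorem σ_wW : A.σ wW = A.p := by
  rw [A.σ_apply, tS_wW, mul_inv_eq_iff_eq_mul, ← mul_assoc]
  exact A.braid.symm

theorem images01 (g h : SL2 F) :
    Commute (A.φ (A.ρ (eA 0 1 g))) (A.φ (A.σ h)) := by
  rw [A.hρ, A.φ_σ, lev_eA]
  exact eR_pm_commute i01 g h

/-- The value of the pairing of the two root groups at `(0, 1)`. -/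
def Orth : Prop := Commute (A.ρ (tv 0 1 1)) (A.σ (xU 1))

/-- The value of the pairing at two disjoint roots. -/
def Disj : Prop := k = 0 → Commute (A.ρ (tv 2 3 1)) (A.σ (xU 1))

theorem orth_of_large (hq : 4 ≤ Fintype.card F) : A.Orth := by
  have := commute_of_perfect A.φ A.central (WordLaws.commutator_SL2 (F := F) hq)
    (A.ρ.comp (eA 0 1)) (A.σ (xU 1)) (fun g => A.images01 g _) (xU 1)
  rwa [MonoidHom.comp_apply, eA_xU i01] at this

theorem images_fix2 {M : Matrix.SpecialLinearGroup (Fin (k + 4)) F} (h : Fix2 M) (g : SL2 F) :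
    Commute (A.φ (A.ρ M)) (A.φ (A.σ g)) := by
  rw [A.hρ, A.φ_σ]
  exact fix2_commute_eR h g

theorem fix2_tv23 (h : k = 0) (t : F) :
    Fix2 (tv (2 : Fin (k + 4)) 3 t : Matrix.SpecialLinearGroup (Fin (k + 4)) F) := fun a b hab => by
  rw [coe_tv i23]
  simp only [Matrix.transvection, Matrix.add_apply, Matrix.single_apply]
  rw [if_neg, add_zero]
  rintro ⟨rfl, rfl⟩
  simp at hab

theorem disj_of_large (hq : 4 ≤ Fintype.card F) : A.Disj := fun h => by
  have := commute_of_perfect A.φ A.central (WordLaws.commutator_SL2 (F := F) hq)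
    (A.ρ.comp (eA 2 3)) (A.σ (xU 1)) (fun g => ?_) (xU 1)
  · rwa [MonoidHom.comp_apply, eA_xU i23] at this
  · rw [MonoidHom.comp_apply]
    refine A.images_fix2 (fun a b hab => ?_) _
    rw [coe_eA i23, eAm, Matrix.of_apply]
    have h2 : ∀ x : Fin (k + 4), x.val < 2 → x ≠ 2 ∧ x ≠ 3 := fun x hx =>
      ⟨fun e => by subst e; simp at hx, fun e => by subst e; simp at hx⟩
    rw [Matrix.one_apply]
    rcases hab with ha | hb
    · simp [h2 a ha]
    · have := h2 b hb
      split_ifs <;> first | rfl | simp_all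

theorem pair01 (ho : A.Orth) (g h : SL2 F) : Commute (A.ρ (eA 0 1 g)) (A.σ h) := by
  have h1 : ∀ g, Commute (A.ρ (eA 0 1 g)) (A.σ (xU 1)) :=
    commute_of_xU A.φ A.central (A.ρ.comp (eA 0 1)) (A.σ (xU 1)) (fun g => A.images01 g _)
      (by rw [MonoidHom.comp_apply, eA_xU i01]; exact ho)
  exact (commute_of_xU A.φ A.central A.σ (A.ρ (eA 0 1 g)) (fun h => (A.images01 g h).symm)
    (h1 g).symm h).symm

theorem comm01 (ho : A.Orth) (g : SL2 F) : Commute (A.ρ (eA 0 1 g)) A.p :=
  A.σ_wW ▸ A.pair01 ho g wW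

theorem comm (hd : A.Disj) (M : Matrix.SpecialLinearGroup (Fin (k + 4)) F) (hM : Fix2 M) :
    Commute (A.ρ M) A.p := by
  obtain ⟨a, rfl⟩ := exists_blocks hM
  have img : ∀ (a : Matrix.SpecialLinearGroup (Fin (k + 2)) F) (g : SL2 F),
      Commute (A.φ (A.ρ (blocks ((1 : SL2 F), a)))) (A.φ (A.σ g)) := fun a g => by
    rw [A.hρ, A.φ_σ]
    exact tail_commute_eR a g
  rcases Nat.eq_zero_or_pos k with hk | hk
  · subst hk
    let α : SL2 F →* E := A.ρ.comp (blocks.comp (MonoidHom.inr _ _))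
    have h1 : Commute (α (xU 1)) (A.σ (xU 1)) := by
      have e : blocks (k := 0) ((1 : SL2 F), (xU 1 : SL2 F)) = tv 2 3 1 := by
        apply Subtype.ext
        ext x y
        obtain ⟨x, rfl⟩ := (eSplit 0).surjective x
        obtain ⟨y, rfl⟩ := (eSplit 0).surjective y
        rw [blocks_apply, coe_tv i23]
        have hl : ∀ a : Fin 2, (eSplit 0 (Sum.inl a)).val = a.val := eSplit_inl
        have hr : ∀ a : Fin 2, (eSplit 0 (Sum.inr a)).val = 2 + a.val := eSplit_inr
        rcases x with x | x <;> rcases y with y | y <;> fin_cases x <;> fin_cases y <;>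
          simp [Matrix.transvection, Matrix.single_apply, Matrix.one_apply, coe_xU, Fin.ext_iff, hl, hr]
      show Commute (A.ρ (blocks ((1 : SL2 F), (xU 1 : SL2 F)))) _
      rw [e]
      exact hd rfl
    have h2 : ∀ g, Commute (α g) (A.σ (xU 1)) :=
      commute_of_xU A.φ A.central α _ (fun g => img g _) h1
    exact A.σ_wW ▸ (commute_of_xU A.φ A.central A.σ (α a) (fun h => (img a h).symm)
      (h2 a).symm wW).symm
  · have hperf : commutator (Matrix.SpecialLinearGroup (Fin (k + 2)) F) = ⊤ :=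
      Linear.commutator_SL_eq_top (by rw [Fintype.card_fin]; omega)
    exact A.σ_wW ▸ commute_of_perfect A.φ A.central hperf
      (A.ρ.comp (blocks.comp (MonoidHom.inr _ _))) (A.σ wW) (fun a => img a wW) a

/-- The central element `p² h₀₁(-1)⁻¹`. -/
def z : E := A.p * A.p * (A.ρ (eA 0 1 (hD (-1))))⁻¹

theorem φ_z : A.φ A.z = 1 := by
  rw [z, map_mul, map_inv, mul_inv_eq_one, map_mul, A.hp, A.hρ, lev_eA, ← eR_sq_eq, ← map_mul,
    wW_sq]

theorem n12_pow_four : A.ρ (eA 1 2 wW) ^ 4 = 1 := by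
  rw [← map_pow, ← map_pow, show (wW : SL2 F) ^ 4 = 1 from ?_, map_one, map_one]
  rw [show 4 = 2 * 2 from rfl, pow_mul, sq (wW : SL2 F), wW_sq, hD_pow, neg_one_sq, hD_one]

theorem p_eq_conj : A.p = A.ρ (eA 1 2 wW) * A.p * A.ρ (eA 1 2 wW) *
    (A.ρ (eA 1 2 wW) * A.p)⁻¹ := by
  rw [← A.braid]; group

theorem p_pow_four : A.p ^ 4 = 1 := by
  rw [A.p_eq_conj, conj_pow, A.n12_pow_four, mul_one, mul_inv_cancel]

theorem z_sq (ho : A.Orth) : A.z * A.z = 1 := by
  set h := A.ρ (eA 0 1 (hD (-1))) with hh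
  have hc : Commute (A.p * A.p) h⁻¹ :=
    (((A.comm01 ho (hD (-1))).symm).mul_left (A.comm01 ho (hD (-1))).symm).inv_right
  have h2 : h * h = 1 := by
    rw [hh, ← map_mul, ← map_mul, ← hD_mul, neg_mul_neg, one_mul, hD_one, map_one, map_one]
  rw [z, ← hh, show A.p * A.p * h⁻¹ * (A.p * A.p * h⁻¹) = A.p * A.p * (h⁻¹ * (A.p * A.p)) * h⁻¹ by
    group, ← hc.eq, show A.p * A.p * (A.p * A.p * h⁻¹) * h⁻¹ = A.p ^ 4 * (h * h)⁻¹ by
      simp [pow_succ, mul_assoc],
    A.p_pow_four, h2, inv_one, mul_one]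

theorem z_eq_one_of_two (h2 : (2 : F) = 0) : A.z = 1 := by
  have e1 : (-1 : Fˣ) = 1 := Units.ext (by
    rw [Units.val_neg, Units.val_one]; linear_combination -h2)
  have hn : A.ρ (eA 1 2 wW) ^ 2 = 1 := by
    rw [← map_pow, ← map_pow, sq (wW : SL2 F), wW_sq, e1, hD_one, map_one, map_one]
  rw [z, e1, hD_one, map_one, map_one, inv_one, mul_one, ← sq, A.p_eq_conj, conj_pow, hn, mul_one,
    mul_inv_cancel]

/-- The bound. -/
theorem card_le (ho : A.Orth) (hd : A.Disj) :
    Nat.card E ≤ Nat.card ↥(Subgroup.zpowers A.z) * Nat.card ↥(rootSub (fr (k + 4)) F) := by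
  let N : Subgroup E := Subgroup.zpowers A.z
  have hNc : N ≤ Subgroup.center E :=
    Subgroup.zpowers_le.2 (A.central (by rw [MonoidHom.mem_ker]; exact A.φ_z))
  haveI : N.Normal := ⟨fun a ha g => by
    rw [Subgroup.mem_center_iff.1 (hNc ha) g, mul_inv_cancel_right]; exact ha⟩
  have hNk : N ≤ A.φ.ker := Subgroup.zpowers_le.2 A.φ_z
  let mk : E →* E ⧸ N := QuotientGroup.mk' N
  let φ' : E ⧸ N →* OG (k + 4) F := QuotientGroup.lift N A.φ hNk
  let G : Subgroup (E ⧸ N) := (mk.comp A.ρ).range ⊔ Subgroup.zpowers (mk A.p)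
  let ρG : Matrix.SpecialLinearGroup (Fin (k + 4)) F →* G :=
    (mk.comp A.ρ).codRestrict G fun M => Subgroup.mem_sup_left ⟨M, rfl⟩
  let pG : G := ⟨mk A.p, Subgroup.mem_sup_right (Subgroup.mem_zpowers _)⟩
  let B : Base G F k :=
    { ρ := ρG
      p := pG
      φ := φ'.comp G.subtype
      sq := Subtype.ext (by
        show mk A.p * mk A.p = mk (A.ρ (eA 0 1 (hD (-1))))
        rw [← map_mul]
        refine (QuotientGroup.eq.2 ?_).symm
        have : (A.ρ (eA 0 1 (hD (-1))))⁻¹ * (A.p * A.p) = A.z := by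
          rw [z]
          exact ((((A.comm01 ho (hD (-1))).symm).mul_left
            (A.comm01 ho (hD (-1))).symm).inv_right.eq).symm
        exact this ▸ Subgroup.mem_zpowers A.z)
      comm01 := fun g => Subtype.ext ((A.comm01 ho g).map mk).eq
      comm := fun M hM => Subtype.ext ((A.comm hd M hM).map mk).eq
      braid := Subtype.ext (by
        show mk A.p * mk (A.ρ (eA 1 2 wW)) * mk A.p =
          mk (A.ρ (eA 1 2 wW)) * mk A.p * mk (A.ρ (eA 1 2 wW))
        rw [← map_mul, ← map_mul, ← map_mul, ← map_mul, A.braid])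
      hφρ := fun M => A.hρ M
      hφp := A.hp
      hgen := Subgroup.map_injective G.subtype_injective (by
        rw [Subgroup.map_sup, MonoidHom.map_range, MonoidHom.map_zpowers, ← MonoidHom.range_eq_map,
          Subgroup.range_subtype]
        rfl) }
  have hσ : ∀ g, (B.σ g : E ⧸ N) = mk (A.σ g) := fun g => by
    simp only [Base.σ_apply, Base.n12, A.σ_apply, Subgroup.coe_mul, Subgroup.coe_inv, map_mul,
      map_inv]
    rfl
  let M : Amalgam G F k :=
    { toBase := B
      orth := Subtype.ext (by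
        show mk (A.ρ (tv 0 1 1)) * (B.σ (xU 1) : E ⧸ N) = (B.σ (xU 1) : E ⧸ N) * mk (A.ρ (tv 0 1 1))
        rw [hσ]
        exact (Commute.map ho mk).eq)
      disj := fun h => Subtype.ext (by
        show mk (A.ρ (tv 2 3 1)) * (B.σ (xU 1) : E ⧸ N) = (B.σ (xU 1) : E ⧸ N) * mk (A.ρ (tv 2 3 1))
        rw [hσ]
        exact (Commute.map (hd h) mk).eq) }
  have hinj := M.injective
  have hrange : (φ'.comp G.subtype).range = rootSub (fr (k + 4)) F := M.range_eq
  let H : Subgroup E := G.comap mk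
  have hH : H = ⊤ := by
    have hs : Function.Surjective (A.φ.rangeRestrict.comp H.subtype) := by
      rintro ⟨y, hy⟩
      rw [A.range, ← hrange] at hy
      obtain ⟨⟨x, hx⟩, rfl⟩ := hy
      obtain ⟨e, rfl⟩ := QuotientGroup.mk'_surjective N x
      exact ⟨⟨e, hx⟩, Subtype.ext rfl⟩
    have h := SchurTheory.map_commutator_eq A.φ.rangeRestrict
      (by rw [MonoidHom.ker_rangeRestrict]; exact A.central) H.subtype hs
    rw [A.perfect] at h
    rw [eq_top_iff, ← h]
    exact Subgroup.map_subtype_le _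
  have hG : G = ⊤ := by
    rw [← Subgroup.map_comap_eq_self_of_surjective (QuotientGroup.mk'_surjective N) G]
    show H.map mk = ⊤
    rw [hH, ← MonoidHom.range_eq_map, MonoidHom.range_eq_top.2 (QuotientGroup.mk'_surjective N)]
  calc Nat.card E = Nat.card (E ⧸ N) * Nat.card N := Subgroup.card_eq_card_quotient_mul_card_subgroup N
    _ = Nat.card G * Nat.card N := by
      rw [← Subgroup.card_top (G := E ⧸ N), hG]
    _ ≤ Nat.card ↥(rootSub (fr (k + 4)) F) * Nat.card N := by
      refine Nat.mul_le_mul_right _ (le_of_eq ?_)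
      rw [← hrange]
      exact Nat.card_congr (MonoidHom.ofInjective hinj).toEquiv
    _ = _ := mul_comm _ _

theorem card_zpowers_z (ho : A.Orth) :
    Nat.card ↥(Subgroup.zpowers A.z) ≤ 2 ∧ ((2 : F) = 0 → Nat.card ↥(Subgroup.zpowers A.z) = 1) := by
  refine ⟨?_, fun h => by rw [A.z_eq_one_of_two h, Subgroup.zpowers_one_eq_bot, Subgroup.card_bot]⟩
  rw [Nat.card_zpowers]
  refine Nat.le_of_dvd (by norm_num) (orderOf_dvd_of_pow_eq_one ?_)
  rw [sq, A.z_sq ho]

end Plus

end CfsgLib.MultOrth
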