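import Cfsg.Agent.MultOrth.SphereBound
import Cfsg.Agent.MultOrth.PlusBound

/-!
# Perfect central extensions of `Ω` of an eight-dimensional form over three elements

The lifts of the stabilisers of orthonormal pairs agree, using planes outside a given hyperplane.
-/

set_option autoImplicit false
set_option linter.unusedSectionVars false
set_option linter.unusedSimpArgs false

namespace CfsgLib.MultOrth

open scoped commutatorElement
open Matrix Module CfsgLib.Spinor CfsgLib.Forms CfsgLib.Forms4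

universe u

section Eight

variable {F : Type*} [Field F] [Fintype F] {ι : Type} [Fintype ι] [DecidableEq ι]
  {Q : QuadraticForm F (ι → F)}

set_option quotPrecheck false in
local notation "B" => QuadraticMap.polar (⇑Q)

variable {E : Type*} [Group E]

/-- The lift of a pointwise stabiliser. -/
def lift8 (π : E →* ↥(Cfsg.Omega F ⇑Q)) {k : ℕ} (s : Fin k → ι → F) : Subgroup E :=
  ⁅(fixSub Q s).comap π, (fixSub Q s).comap π⁆

/-- The hypotheses: dimension eight, three elements, and lifts of pair stabilisers. -/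
structure Eight (π : E →* ↥(Cfsg.Omega F ⇑Q)) : Prop where
  two : (2 : F) ≠ 0
  three : (3 : F) = 0
  nondeg : (QuadraticMap.polarBilin Q).Nondegenerate
  dim : Fintype.card ι = 8
  surj : Function.Surjective π
  central : π.ker ≤ Subgroup.center E
  inj : ∀ a b, Q a = 1 → Q b = 1 → B a b = 0 → ∀ x ∈ lift8 π ![a, b], π x = 1 → x = 1

namespace Eight

variable {π : E →* ↥(Cfsg.Omega F ⇑Q)} (H : Eight π)
include H

theorem map_lift {k : ℕ} (s : Fin k → ι → F) (hG : (Matrix.of fun i j => B (s i) (s j)).det ≠ 0)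
    (hn : k + 5 ≤ 8) : (lift8 π s).map π = fixSub Q s := by
  rw [lift8, Subgroup.map_commutator, Subgroup.map_comap_eq_self_of_surjective H.surj,
    perfect_fix H.two H.nondeg s hG (by rw [H.dim]; exact hn)]

omit H in
theorem lift_fix {k : ℕ} {s : Fin k → ι → F} {x : E} (hx : x ∈ lift8 π s) :
    π x ∈ fixSub Q s :=
  (Subgroup.commutator_le_self _ hx : x ∈ (fixSub Q s).comap π)

omit H in
theorem lift_mono {k l : ℕ} {s : Fin k → ι → F} {t : Fin l → ι → F}
    (h : fixSub Q s ≤ fixSub Q t) : lift8 π s ≤ lift8 π t :=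
  Subgroup.commutator_mono (Subgroup.comap_mono h) (Subgroup.comap_mono h)

omit H in
theorem lift_conj {k : ℕ} {s t : Fin k → ι → F} (e : E)
    (h : ∀ i, mat Q (π e).1 *ᵥ s i = t i) {x : E} (hx : x ∈ lift8 π s) :
    e * x * e⁻¹ ∈ lift8 π t := by
  have hconj : ((fixSub Q s).comap π).map (MulAut.conj e).toMonoidHom ≤ (fixSub Q t).comap π := by
    rintro _ ⟨p, hp, rfl⟩ i
    show mat Q (π (e * p * e⁻¹)).1 *ᵥ t i = t i
    rw [← h i, Matrix.mulVec_mulVec, ← mat_mul, ← Subgroup.coe_mul, ← map_mul, inv_mul_cancel_right,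
      map_mul, Subgroup.coe_mul, mat_mul, ← Matrix.mulVec_mulVec, hp i]
  have h1 : (lift8 π s).map (MulAut.conj e).toMonoidHom ≤ lift8 π t := by
    rw [lift8, Subgroup.map_commutator]
    exact Subgroup.commutator_mono hconj hconj
  exact h1 ⟨x, hx, rfl⟩

theorem det_pair {a b : ι → F} (ha : Q a = 1) (hb : Q b = 1) (hab : B a b = 0) :
    (Matrix.of fun i j => B (![a, b] i) (![a, b] j)).det ≠ 0 := by
  simp [Matrix.det_fin_two, polar_self', ha, hb, hab, H.two]

theorem exists_lift {a b : ι → F} (ha : Q a = 1) (hb : Q b = 1) (hab : B a b = 0)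
    {g : ↥(Cfsg.Omega F ⇑Q)} (hg : g ∈ fixSub Q ![a, b]) : ∃ x ∈ lift8 π ![a, b], π x = g := by
  rw [← H.map_lift _ (H.det_pair ha hb hab) (by norm_num)] at hg
  exact hg

theorem unique {a b : ι → F} (ha : Q a = 1) (hb : Q b = 1) (hab : B a b = 0) {x x' : E}
    (hx : x ∈ lift8 π ![a, b]) (hx' : x' ∈ lift8 π ![a, b]) (h : π x = π x') : x = x' :=
  inv_mul_eq_one.1 (H.inj a b ha hb hab _ (mul_mem (inv_mem hx) hx') (by
    rw [map_mul, map_inv, h, inv_mul_cancel]))

/-- Lifts of two pair stabilisers agree on a common nondegenerate triple stabiliser. -/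
theorem step {a b c d r : ι → F} (ha : Q a = 1) (hb : Q b = 1) (hab : B a b = 0) (hr : Q r ≠ 0)
    (har : B a r = 0) (hbr : B b r = 0)
    (hc : c ∈ Submodule.span F (Set.range ![a, b, r]))
    (hd : d ∈ Submodule.span F (Set.range ![a, b, r])) {x : E} (hx : x ∈ lift8 π ![a, b])
    (hxr : mat Q (π x).1 *ᵥ r = r) : x ∈ lift8 π ![c, d] := by
  have hG : (Matrix.of fun i j => B (![a, b, r] i) (![a, b, r] j)).det ≠ 0 := by
    simp [Matrix.det_fin_three, polar_self', ha, hb, hab, har, hbr,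
      QuadraticMap.polar_comm (⇑Q) b a, QuadraticMap.polar_comm (⇑Q) r a,
      QuadraticMap.polar_comm (⇑Q) r b, H.two, hr]
  have hM : π x ∈ fixSub Q ![a, b, r] := fun i => by
    fin_cases i
    · exact lift_fix hx 0
    · exact lift_fix hx 1
    · exact hxr
  rw [← H.map_lift _ hG (by norm_num)] at hM
  obtain ⟨d', hd', hd'x⟩ := hM
  have h1 : fixSub Q ![a, b, r] ≤ fixSub Q ![a, b] := fun g hg i => by
    fin_cases i
    · exact hg 0
    · exact hg 1
  have h2 : fixSub Q ![a, b, r] ≤ fixSub Q ![c, d] := fun g hg i => by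
    fin_cases i
    · exact fix_span hg hc
    · exact fix_span hg hd
  rw [H.unique ha hb hab hx (lift_mono h1 hd') hd'x.symm]
  exact lift_mono h2 hd'

/-- Agreement of the lifts for pairs sharing their first vector. -/
theorem agree_first {z y b : ι → F} (hz : Q z = 1) (hy : Q y = 1) (hb : Q b = 1)
    (hzy : B z y = 0) (hzb : B z b = 0) {x : E} (hx : x ∈ lift8 π ![z, y])
    (hxb : mat Q (π x).1 *ᵥ b = b) : x ∈ lift8 π ![z, b] := by
  have h40 : (4 : F) ≠ 0 := by
    rw [show (4 : F) = 2 * 2 by norm_num]; exact mul_ne_zero H.two H.two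
  have hfixz : mat Q (π x).1 *ᵥ z = z := lift_fix hx 0
  have hfixy : mat Q (π x).1 *ᵥ y = y := lift_fix hx 1
  have hmem : ∀ {p q r : ι → F}, p ∈ Submodule.span F (Set.range ![p, q, r]) ∧
      q ∈ Submodule.span F (Set.range ![p, q, r]) ∧ r ∈ Submodule.span F (Set.range ![p, q, r]) :=
    fun {p q r} => ⟨Submodule.subset_span ⟨0, rfl⟩, Submodule.subset_span ⟨1, rfl⟩,
      Submodule.subset_span ⟨2, rfl⟩⟩
  by_cases hg : B y b * B y b = 4
  swap
  · -- nondegenerate
    set r := b - (B y b / 2) • y with hr'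
    have hyr : B y r = 0 := by
      rw [hr', QuadraticMap.polar_sub_right, QuadraticMap.polar_smul_right, polar_self', hy,
        smul_eq_mul]
      have := H.two
      field_simp
      ring
    have hzr : B z r = 0 := by
      rw [hr', QuadraticMap.polar_sub_right, QuadraticMap.polar_smul_right, hzb, hzy, smul_zero,
        sub_zero]
    have hQr : Q r ≠ 0 := by
      rw [hr', sub_eq_add_neg, QuadraticMap.map_add (⇑Q), QuadraticMap.map_neg,
        QuadraticMap.map_smul, QuadraticMap.polar_neg_right, QuadraticMap.polar_smul_right,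
        QuadraticMap.polar_comm (⇑Q) b y, hy, hb]
      simp only [smul_eq_mul]
      have := H.two
      intro h
      field_simp at h
      exact hg (by linear_combination -h)
    refine H.step hz hy hzy hQr hzr hyr hmem.1 ?_ hx ?_
    · have e : b = r + (B y b / 2) • y := by rw [hr']; abel
      rw [e]
      exact Submodule.add_mem _ hmem.2.2 (Submodule.smul_mem _ _ hmem.2.1)
    · rw [hr', Matrix.mulVec_sub, Matrix.mulVec_smul, hxb, hfixy]
  -- normalise the sign of `b`
  obtain ⟨ε, hε, hε1⟩ : ∃ ε : F, B y b = 2 * ε ∧ ε * ε = 1 := by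
    have := H.two
    refine ⟨B y b / 2, by field_simp, ?_⟩
    field_simp
    linear_combination hg
  have hε0 : ε ≠ 0 := fun h => by simp [h] at hε1
  set b' := ε • b with hb'
  have hb'1 : Q b' = 1 := by rw [hb', QuadraticMap.map_smul, hb, hε1, one_smul]
  have hzb' : B z b' = 0 := by rw [hb', QuadraticMap.polar_smul_right, hzb, smul_zero]
  have hsame : fixSub Q ![z, b'] ≤ fixSub Q ![z, b] := fun g hg i => by
    fin_cases i
    · exact hg 0
    · have h1 : mat Q g.1 *ᵥ (ε • b) = ε • b := hg 1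
      rw [Matrix.mulVec_smul] at h1
      exact smul_right_injective _ hε0 h1
  refine lift_mono hsame ?_
  have hyb' : B y b' = 2 := by
    rw [hb', QuadraticMap.polar_smul_right, hε, smul_eq_mul]
    linear_combination (2 : F) * hε1
  set n := b' - y with hn'
  by_cases hn0 : n = 0
  · rwa [sub_eq_zero.1 hn0]
  have hxn : mat Q (π x).1 *ᵥ n = n := by
    rw [hn', hb', Matrix.mulVec_sub, Matrix.mulVec_smul, hxb, hfixy]
  have hzn : B z n = 0 := by rw [hn', QuadraticMap.polar_sub_right, hzb', hzy, sub_zero]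
  have hyn : B y n = 0 := by
    rw [hn', QuadraticMap.polar_sub_right, hyb', polar_self', hy, mul_one, sub_self]
  have hQn : Q n = 0 := by
    rw [hn', sub_eq_add_neg, QuadraticMap.map_add (⇑Q), QuadraticMap.map_neg,
      QuadraticMap.polar_neg_right, QuadraticMap.polar_comm (⇑Q) b' y, hyb', hb'1, hy]
    ring
  -- a partner in the complement of `z` and `y`
  have hsep := sep_perpSub Q (fun x hx => polar_nondeg_vec H.nondeg hx) _ (H.det_pair hz hy hzy)
  obtain ⟨⟨n', hn'm⟩, hQn', hnn'⟩ := exists_hyperbolic_partner (Q.comp (perpSub Q ![z, y]).subtype)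
    hsep (a := ⟨n, mem_perpSub.2 fun i => by fin_cases i <;> [exact hzn; exact hyn]⟩)
    (fun h => hn0 (congrArg Subtype.val h)) hQn
  replace hQn' : Q n' = 0 := hQn'
  replace hnn' : B n n' = 1 := by simpa [QuadraticMap.polar] using hnn'
  have hzn' : B z n' = 0 := mem_perpSub.1 hn'm 0
  have hyn' : B y n' = 0 := mem_perpSub.1 hn'm 1
  -- an Eichler element with the same image of the partner
  set h := (π x).1 with hh
  set v := mat Q h *ᵥ n' - n' with hv'
  have hpres : ∀ w, mat Q h *ᵥ w = w → B w v = 0 := fun w hw => by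
    rw [hv', QuadraticMap.polar_sub_right]
    nth_rewrite 1 [← hw]
    rw [polar_mulVec, sub_self]
  have hzv := hpres z hfixz
  have hyv := hpres y hfixy
  have hnv := hpres n hxn
  obtain ⟨P⟩ := exists_twoPairs H.two H.nondeg (by rw [H.dim]; norm_num)
  have hk : eichIso Q n v hQn hnv ∈ Cfsg.Omega F ⇑Q := by
    rw [TwoPairs.omega_eq_eichGroup H.nondeg (by rw [H.dim]; norm_num) P]
    exact eichIso_mem Q hQn hnv
  have hkmat : mat Q (eichIso Q n v hQn hnv) = eich Q n v := rfl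
  have hkfix : ∀ w, B n w = 0 → B v w = 0 → mat Q (eichIso Q n v hQn hnv) *ᵥ w = w := fun w h1 h3 => by
    rw [hkmat, eich_mulVec, h1, h3]; simp
  have hkn' : mat Q (eichIso Q n v hQn hnv) *ᵥ n' = mat Q h *ᵥ n' := by
    have e0 : Q v + B v n' = 0 := by
      have h1 : Q (mat Q h *ᵥ n') = Q n' := quad_mulVec Q h n'
      rw [show mat Q h *ᵥ n' = v + n' by rw [hv']; abel, QuadraticMap.map_add (⇑Q), hQn'] at h1
      linear_combination h1
    rw [hkmat, eich_mulVec, hnn', one_smul, mul_one,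
      show Q v = -B v n' by linear_combination e0, neg_smul, sub_neg_eq_add, sub_add_cancel, hv']
    abel
  obtain ⟨t, ht, ht1⟩ := exists_perp_value H.two H.nondeg ![z, y, n, v] ![z, y]
    (fun i => by fin_cases i <;> [exact Submodule.subset_span ⟨0, rfl⟩; exact Submodule.subset_span ⟨1, rfl⟩])
    (fun i i' h => by
      fin_cases i <;> fin_cases i' <;> simp_all [QuadraticMap.polar_comm (⇑Q) y z])
    (fun i => by fin_cases i <;> simp [hz, hy]) (by rw [H.dim]) 1
  have hzt : B z t = 0 := ht 0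
  have hyt : B y t = 0 := ht 1
  have hnt : B n t = 0 := ht 2
  have hvt : B v t = 0 := ht 3
  have hkz := hkfix z ((QuadraticMap.polar_comm _ _ _).trans hzn) ((QuadraticMap.polar_comm _ _ _).trans hzv)
  have hky := hkfix y ((QuadraticMap.polar_comm _ _ _).trans hyn) ((QuadraticMap.polar_comm _ _ _).trans hyv)
  have hkn := hkfix n (by rw [polar_self', hQn, mul_zero]) ((QuadraticMap.polar_comm _ _ _).trans hnv)
  have hkt := hkfix t hnt hvt
  obtain ⟨k', hk', hπk⟩ := H.exists_lift hz hy hzy (g := ⟨_, hk⟩)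
    (fun i => by fin_cases i <;> [exact hkz; exact hky])
  have hkk : ∀ w, mat Q (π k').1 *ᵥ w = mat Q (eichIso Q n v hQn hnv) *ᵥ w := fun w => by rw [hπk]
  have hb'e : b' = y + n := by rw [hn']; abel
  have hk1 : k' ∈ lift8 π ![z, b'] := by
    have h1 : k' ∈ lift8 π ![z, t] :=
      H.step hz hy hzy (r := t) (by rw [ht1]; exact one_ne_zero) hzt hyt hmem.1 hmem.2.2 hk'
        (by rw [hkk]; exact hkt)
    refine H.step hz ht1 hzt (r := b') (by rw [hb'1]; exact one_ne_zero) hzb' ?_ hmem.1 hmem.2.2 h1 ?_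
    · rw [hb'e, QuadraticMap.polar_add_right, QuadraticMap.polar_comm (⇑Q) t y, hyt,
        QuadraticMap.polar_comm (⇑Q) t n, hnt, add_zero]
    · rw [hkk, hb'e, Matrix.mulVec_add, hky, hkn]
  -- the remaining factor fixes the partner too
  set l := k'⁻¹ * x with hl'
  have hl : l ∈ lift8 π ![z, y] := mul_mem (inv_mem hk') hx
  have hkinv : ∀ w, mat Q (π k').1⁻¹ *ᵥ (mat Q (π k').1 *ᵥ w) = w := fun w => by
    rw [Matrix.mulVec_mulVec, ← mat_mul, inv_mul_cancel, mat_one, Matrix.one_mulVec]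
  have hlw : ∀ w, mat Q (π x).1 *ᵥ w = mat Q (π k').1 *ᵥ w → mat Q (π l).1 *ᵥ w = w := fun w hw => by
    rw [hl', map_mul, map_inv, Subgroup.coe_mul, Subgroup.coe_inv, mat_mul, ← Matrix.mulVec_mulVec,
      hw, hkinv]
  have hln : mat Q (π l).1 *ᵥ n = n := hlw n (by rw [hxn, hkk, hkn])
  have hln' : mat Q (π l).1 *ᵥ n' = n' := hlw n' (by rw [hkk, hkn'])
  have hly : mat Q (π l).1 *ᵥ y = y := lift_fix hl 1
  have hlz : mat Q (π l).1 *ᵥ z = z := lift_fix hl 0
  have hn'n : B n' n = 1 := (QuadraticMap.polar_comm _ _ _).trans hnn'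
  have hnn0 : B n n = 0 := by rw [polar_self', hQn, mul_zero]
  have hn'n' : B n' n' = 0 := by rw [polar_self', hQn', mul_zero]
  have hQw : Q (n + n') = 1 := by rw [QuadraticMap.map_add (⇑Q), hQn, hQn', hnn']; ring
  have hQr : Q (n - n') ≠ 0 := by
    rw [sub_eq_add_neg, QuadraticMap.map_add (⇑Q), QuadraticMap.map_neg,
      QuadraticMap.polar_neg_right, hQn, hQn', hnn']
    simp
  have hwy : B (n + n') y = 0 := by
    rw [QuadraticMap.polar_add_left, QuadraticMap.polar_comm (⇑Q) n y,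
      QuadraticMap.polar_comm (⇑Q) n' y, hyn, hyn', add_zero]
  have hQ1 : Q (y + n) = 1 := by rw [← hb'e, hb'1]
  have hQ2 : Q (y + n') = 1 := by rw [QuadraticMap.map_add (⇑Q), hy, hQn', hyn']; ring
  have h12 : B (y + n) (y + n') = 0 := by
    rw [QuadraticMap.polar_add_left, QuadraticMap.polar_add_right, QuadraticMap.polar_add_right,
      polar_self', hy, hyn', hnn', QuadraticMap.polar_comm (⇑Q) n y, hyn]
    linear_combination H.three
  have s1 : l ∈ lift8 π ![n + n', y] :=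
    H.step hz hy hzy (r := n + n') (by rw [hQw]; exact one_ne_zero)
      (by rw [QuadraticMap.polar_add_right, hzn, hzn', add_zero])
      ((QuadraticMap.polar_comm _ _ _).trans hwy) hmem.2.2 hmem.2.1 hl
      (by rw [Matrix.mulVec_add, hln, hln'])
  have hS : ∀ c d : F, c • (n + n') + d • (n - n') ∈
      Submodule.span F (Set.range ![n + n', y, n - n']) := fun c d =>
    Submodule.add_mem _ (Submodule.smul_mem _ _ hmem.1) (Submodule.smul_mem _ _ hmem.2.2)
  have hnin : n ∈ Submodule.span F (Set.range ![n + n', y, n - n']) := by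
    have h := hS (2⁻¹) (2⁻¹)
    rwa [← smul_add, show n + n' + (n - n') = (2 : F) • n by module, smul_smul,
      inv_mul_cancel₀ H.two, one_smul] at h
  have hn'in : n' ∈ Submodule.span F (Set.range ![n + n', y, n - n']) := by
    have h := hS (2⁻¹) (-2⁻¹)
    rwa [neg_smul, ← sub_eq_add_neg, ← smul_sub, show n + n' - (n - n') = (2 : F) • n' by module,
      smul_smul, inv_mul_cancel₀ H.two, one_smul] at h
  have s2 : l ∈ lift8 π ![y + n, y + n'] :=
    H.step hQw hy hwy (r := n - n') hQr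
      (by
        rw [QuadraticMap.polar_sub_right, QuadraticMap.polar_add_left,
          QuadraticMap.polar_add_left, hnn', hn'n, hnn0, hn'n']
        ring)
      (by rw [QuadraticMap.polar_sub_right, hyn, hyn', sub_zero])
      (Submodule.add_mem _ hmem.2.1 hnin) (Submodule.add_mem _ hmem.2.1 hn'in) s1
      (by rw [Matrix.mulVec_sub, hln, hln'])
  have s3 : l ∈ lift8 π ![z, y + n] :=
    H.step hQ1 hQ2 h12 (r := z) (by rw [hz]; exact one_ne_zero)
      (by rw [QuadraticMap.polar_comm, QuadraticMap.polar_add_right, hzy, hzn, add_zero])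
      (by rw [QuadraticMap.polar_comm, QuadraticMap.polar_add_right, hzy, hzn', add_zero])
      hmem.2.2 hmem.1 s2 hlz
  rw [← hb'e] at s3
  have := mul_mem hk1 s3
  rwa [hl', mul_inv_cancel_left] at this

end Eight

end Eight

section Bound

variable {F : Type u} [Field F] [Fintype F] {ι κ μ : Type} [Fintype ι] [DecidableEq ι] [Fintype κ]
  [DecidableEq κ] [Fintype μ] [DecidableEq μ] {Q : QuadraticForm F (ι → F)}
  {Q₇ : QuadraticForm F (κ → F)} {Q₆ : QuadraticForm F (μ → F)}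

/-- The bound in dimension eight over three elements. -/
theorem bound_eight_three (h2 : (2 : F) ≠ 0) (h3 : (3 : F) = 0)
    (hQ : (QuadraticMap.polarBilin Q).Nondegenerate) (hn : Fintype.card ι = 8)
    (e₇ : Emb Q Q₇) (hn7 : Fintype.card κ = 7) (z : ι → F) (hz : Q z = 1)
    (hzL : ∀ v, QuadraticMap.polar (⇑Q) z (e₇.L v) = 0)
    (hperp : ∀ x, (∀ v, QuadraticMap.polar (⇑Q) x (e₇.L v) = 0) → ∃ c : F, x = c • z)
    (y₇ : κ → F) (hy : Q₇ y₇ = 1) (e₆ : Emb Q Q₆)
    (h6z : ∀ v, QuadraticMap.polar (⇑Q) z (e₆.L v) = 0)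
    (h6y : ∀ v, QuadraticMap.polar (⇑Q) (e₇.L y₇) (e₆.L v) = 0)
    (hperp6 : ∀ x, (∀ v, QuadraticMap.polar (⇑Q) x (e₆.L v) = 0) →
      x ∈ Submodule.span F (Set.range ![z, e₇.L y₇]))
    (hperf : commutator ↥(Cfsg.Omega F ⇑Q₆) = ⊤) (N : ℕ)
    (hb : ∀ (E : Type u) [Group E] [Finite E] (π : E →* ↥(Cfsg.Omega F ⇑Q₆)),
      Function.Surjective π → π.ker ≤ Subgroup.center E → commutator E = ⊤ →
        Nat.card E ≤ N * Nat.card ↥(Cfsg.Omega F ⇑Q₆))
    (E : Type u) [Group E] [Finite E] (π : E →* ↥(Cfsg.Omega F ⇑Q))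
    (hs : Function.Surjective π) (hc : π.ker ≤ Subgroup.center E) (hE : commutator E = ⊤) :
    Nat.card E ≤ N * Nat.card ↥(Cfsg.Omega F ⇑Q) := by
  classical
  set y := e₇.L y₇ with hy'
  have hy1 : Q y = 1 := by rw [hy', e₇.quad, hy]
  have hzy : QuadraticMap.polar (⇑Q) z y = 0 := hzL y₇
  let f₆ : ↥(Cfsg.Omega F ⇑Q₆) →* ↥(Cfsg.Omega F ⇑Q) :=
    (e₆.hom.comp (Cfsg.Omega F ⇑Q₆).subtype).codRestrict _ fun g => e₆.hom_omega g.2
  have hf₆ : Function.Injective f₆ := fun a b h =>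
    Subtype.ext (e₆.hom_injective (congrArg Subtype.val h))
  have hr₆ : f₆.range = fixSub Q ![z, y] := by
    ext g
    constructor
    · rintro ⟨g', rfl⟩ i
      fin_cases i
      · exact e₆.hom_fix g'.1 h6z
      · exact e₆.hom_fix g'.1 h6y
    · intro hg
      obtain ⟨g', hg', h⟩ := e₆.exists_preimage h2 hQ g.2 fun x hx => fix_span hg (hperp6 x hx)
      exact ⟨⟨g', hg'⟩, Subtype.ext h⟩
  -- the kernel met by the lift of the pair stabiliser
  let M : Subgroup E := lift8 π ![z, y] ⊓ π.ker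
  have hMc : M ≤ Subgroup.center E := inf_le_right.trans hc
  haveI : M.Normal := ⟨fun a ha g => by
    rw [Subgroup.mem_center_iff.1 (hMc ha) g, mul_inv_cancel_right]; exact ha⟩
  have hMcard : Nat.card M ≤ N := by
    let P : Subgroup E := (fixSub Q ![z, y]).comap π
    let ψ : P →* ↥(Cfsg.Omega F ⇑Q₆) :=
      ((MonoidHom.ofInjective hf₆).symm.toMonoidHom).comp
        ((π.comp P.subtype).codRestrict f₆.range fun p => hr₆ ▸ p.2)
    have hfψ : ∀ p : P, f₆ (ψ p) = π p := fun p =>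
      congrArg Subtype.val ((MonoidHom.ofInjective hf₆).apply_symm_apply ⟨π p, hr₆ ▸ p.2⟩)
    have hψs : Function.Surjective ψ := fun g => by
      obtain ⟨p, hp⟩ := hs (f₆ g)
      exact ⟨⟨p, by rw [Subgroup.mem_comap, hp, ← hr₆]; exact ⟨g, rfl⟩⟩,
        hf₆ (by rw [hfψ]; exact hp)⟩
    have hψc : ψ.ker ≤ Subgroup.center P := by
      intro p hp
      have : π p.1 = 1 := by rw [← hfψ, MonoidHom.mem_ker.1 hp, map_one]
      exact Subgroup.mem_center_iff.2 fun q =>
        Subtype.ext (Subgroup.mem_center_iff.1 (hc this) q.1)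
    obtain ⟨hDs, hDp⟩ := derived_of_central ψ hψs hψc hperf
    let ψ' : ↥(commutator P) →* ↥(Cfsg.Omega F ⇑Q₆) := ψ.comp (commutator P).subtype
    have hcard := hb ↥(commutator P) ψ' hDs (fun x hx => Subgroup.mem_center_iff.2 fun y =>
      Subtype.ext (Subgroup.mem_center_iff.1 (hψc (x := x.1) hx) y.1)) hDp
    have h1 : Nat.card ψ'.ker * Nat.card ↥(Cfsg.Omega F ⇑Q₆) = Nat.card ↥(commutator P) := by
      rw [← Subgroup.card_top (G := ↥(Cfsg.Omega F ⇑Q₆)), ← MonoidHom.range_eq_top.2 hDs,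
        ← Subgroup.index_ker, Subgroup.card_mul_index]
    refine le_trans ?_ (Nat.le_of_mul_le_mul_right (h1.trans_le hcard) Nat.card_pos)
    refine Nat.card_le_card_of_surjective
      (fun x : ψ'.ker => (⟨x.1.1.1, ?_, ?_⟩ : M)) ?_
    · show x.1.1.1 ∈ ⁅P, P⁆
      rw [← Subgroup.map_subtype_commutator]
      exact ⟨x.1.1, x.1.2, rfl⟩
    · show π (x.1.1 : E) = 1
      rw [← hfψ x.1.1, show ψ x.1.1 = 1 from MonoidHom.mem_ker.1 x.2, map_one]
    · rintro ⟨w, hw, hk⟩
      have hw' : w ∈ (commutator P).map P.subtype := by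
        rw [Subgroup.map_subtype_commutator]; exact hw
      obtain ⟨p, hp, rfl⟩ := hw'
      exact ⟨⟨⟨p, hp⟩, hf₆ (by rw [map_one]; exact (hfψ p).trans hk)⟩, rfl⟩
  let π' : E ⧸ M →* ↥(Cfsg.Omega F ⇑Q) := QuotientGroup.lift M π inf_le_right
  have hmk : Function.Surjective (QuotientGroup.mk' M) := QuotientGroup.mk'_surjective M
  have hs' : Function.Surjective π' := fun g => by
    obtain ⟨x, rfl⟩ := hs g
    exact ⟨(x : E ⧸ M), rfl⟩
  have hc' : π'.ker ≤ Subgroup.center (E ⧸ M) := by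
    intro x hx
    obtain ⟨x, rfl⟩ := hmk x
    refine Subgroup.mem_center_iff.2 fun y => ?_
    obtain ⟨y, rfl⟩ := hmk y
    rw [← map_mul, ← map_mul, Subgroup.mem_center_iff.1 (hc hx) y]
  have hE' : commutator (E ⧸ M) = ⊤ := by
    rw [eq_top_iff, ← MonoidHom.range_eq_top.2 hmk, MonoidHom.range_eq_map, ← hE,
      commutator_def, commutator_def, Subgroup.map_commutator]
    exact Subgroup.commutator_mono le_top le_top
  have hinj₀ : ∀ x ∈ lift8 π' ![z, y], π' x = 1 → x = 1 := by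
    intro x hx hπ
    have hmap : lift8 π' ![z, y] = (lift8 π ![z, y]).map (QuotientGroup.mk' M) := by
      rw [lift8, lift8, Subgroup.map_commutator,
        ← Subgroup.map_comap_eq_self_of_surjective hmk ((fixSub Q ![z, y]).comap π'),
        Subgroup.comap_comap]
      rfl
    rw [hmap] at hx
    obtain ⟨d, hd, rfl⟩ := hx
    exact (QuotientGroup.eq_one_iff d).2 ⟨hd, hπ⟩
  have H : Eight π' := {
    two := h2, three := h3, nondeg := hQ, dim := hn, surj := hs', central := hc'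
    inj := fun a b ha hb hab x hx hπ => by
      obtain ⟨g₁, hg₁, e1, -⟩ := exists_omega_move h2 hQ (k := 0) (j := 0) ![] ![]
        (fun i => i.elim0) (fun i => i.elim0) (fun i => i.elim0) (by omega) (a := a) (b := z)
        (by rw [hz]; exact one_ne_zero) (ha.trans hz.symm) (fun i => i.elim0) (fun i => i.elim0)
      obtain ⟨g₂, hg₂, e2, e2'⟩ := exists_omega_move h2 hQ ![z] ![z]
        (fun i => Submodule.subset_span ⟨i, rfl⟩)
        (fun i i' h => absurd (Subsingleton.elim i i') h)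
        (fun i => by fin_cases i; simp [hz]) (by omega) (a := mat Q g₁ *ᵥ b) (b := y)
        (by rw [hy1]; exact one_ne_zero) ((quad_mulVec Q g₁ b).trans (hb.trans hy1.symm))
        (fun i => by fin_cases i; show QuadraticMap.polar (⇑Q) z _ = 0; rw [← e1, polar_mulVec, hab])
        (fun i => by fin_cases i; exact hzy)
      obtain ⟨c, hcπ⟩ := hs' (⟨g₂, hg₂⟩ * ⟨g₁, hg₁⟩)
      have hmove : ∀ i, mat Q (π' c).1 *ᵥ ![a, b] i = ![z, y] i := fun i => by
        rw [hcπ, Subgroup.coe_mul, mat_mul, ← Matrix.mulVec_mulVec]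
        fin_cases i
        · show mat Q g₂ *ᵥ (mat Q g₁ *ᵥ a) = z
          rw [e1]; exact e2' 0
        · exact e2
      have h := hinj₀ _ (Eight.lift_conj c hmove hx) (by rw [map_mul, map_mul, map_inv, hπ]; group)
      rwa [conj_eq_one_iff] at h }
  -- the stabiliser of `z`
  have hG1 : (Matrix.of fun i j : Fin 1 => QuadraticMap.polar (⇑Q) (![z] i) (![z] j)).det ≠ 0 := by
    simp [polar_self', hz, h2]
  set D := lift8 π' ![z] with hD'
  let f₇ : ↥(Cfsg.Omega F ⇑Q₇) →* ↥(Cfsg.Omega F ⇑Q) :=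
    (e₇.hom.comp (Cfsg.Omega F ⇑Q₇).subtype).codRestrict _ fun g => e₇.hom_omega g.2
  have hf₇ : Function.Injective f₇ := fun a b h =>
    Subtype.ext (e₇.hom_injective (congrArg Subtype.val h))
  have hr₇ : f₇.range = fixSub Q ![z] := by
    ext g
    constructor
    · rintro ⟨g', rfl⟩ i
      fin_cases i
      exact e₇.hom_fix g'.1 hzL
    · intro hg
      obtain ⟨g', hg', h⟩ := e₇.exists_preimage h2 hQ g.2 fun x hx => by
        obtain ⟨c, rfl⟩ := hperp x hx
        rw [Matrix.mulVec_smul, show mat Q g.1 *ᵥ z = z from hg 0]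
      exact ⟨⟨g', hg'⟩, Subtype.ext h⟩
  let ψ₇ : D →* ↥(Cfsg.Omega F ⇑Q₇) :=
    ((MonoidHom.ofInjective hf₇).symm.toMonoidHom).comp
      ((π'.comp D.subtype).codRestrict f₇.range fun p => hr₇ ▸ Eight.lift_fix (π := π') p.2)
  have hfψ₇ : ∀ p : D, f₇ (ψ₇ p) = π' p := fun p =>
    congrArg Subtype.val ((MonoidHom.ofInjective hf₇).apply_symm_apply
      ⟨π' p, hr₇ ▸ Eight.lift_fix (π := π') p.2⟩)
  have hψs₇ : Function.Surjective ψ₇ := fun g => by
    have : f₇ g ∈ D.map π' := by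
      rw [H.map_lift _ hG1 (by norm_num), ← hr₇]; exact ⟨g, rfl⟩
    obtain ⟨d, hd, hdg⟩ := this
    exact ⟨⟨d, hd⟩, hf₇ ((hfψ₇ ⟨d, hd⟩).trans hdg)⟩
  have hψc₇ : ψ₇.ker ≤ Subgroup.center D := by
    intro p hp
    have : π' p.1 = 1 := by rw [← hfψ₇, MonoidHom.mem_ker.1 hp, map_one]
    exact Subgroup.mem_center_iff.2 fun q =>
      Subtype.ext (Subgroup.mem_center_iff.1 (hc' this) q.1)
  have hDperf : commutator ↥D = ⊤ := by
    refine Subgroup.map_injective D.subtype_injective ?_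
    rw [Subgroup.map_subtype_commutator, ← MonoidHom.range_eq_map, Subgroup.range_subtype]
    refine le_antisymm (Subgroup.commutator_le_self _) ?_
    conv_lhs => rw [hD', lift8]
    rw [Subgroup.commutator_le]
    intro p hp q hq
    have hp' : π' p ∈ D.map π' := by rw [H.map_lift _ hG1 (by norm_num)]; exact hp
    have hq' : π' q ∈ D.map π' := by rw [H.map_lift _ hG1 (by norm_num)]; exact hq
    obtain ⟨p', hp'D, hpp⟩ := hp'
    obtain ⟨q', hq'D, hqq⟩ := hq'
    rw [comm_congr π' hc' hpp.symm hqq.symm]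
    exact Subgroup.commutator_mem_commutator hp'D hq'D
  have hsub : lift8 π' ![z, y] ≤ D := Eight.lift_mono fun g hg i => by
    fin_cases i; exact hg 0
  let K₇ : Subgroup D := (lift8 π' ![z, y]).subgroupOf D
  have hLfix : ∀ (p : D) (a : κ → F), mat Q₇ (ψ₇ p).1 *ᵥ a = a ↔
      mat Q (π' p).1 *ᵥ e₇.L a = e₇.L a := fun p a => by
    rw [← hfψ₇]
    show _ ↔ mat Q (e₇.hom (ψ₇ p).1) *ᵥ e₇.L a = e₇.L a
    rw [e₇.hom_L]
    refine ⟨fun h => by rw [h], fun h => ?_⟩
    have := congrArg e₇.P h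
    rwa [e₇.P_L, e₇.P_L] at this
  let y₀ : Sphere Q₇ := ⟨y₇, hy⟩
  have hinj₇ : ∀ x ∈ K₇, ψ₇ x = 1 → x = 1 := fun x hx h =>
    Subtype.ext (hinj₀ x.1 hx (by rw [← hfψ₇, h, map_one]))
  have himg₇ : K₇.map ψ₇ = MulAction.stabilizer _ y₀ := by
    refine le_antisymm ?_ ?_
    · rintro _ ⟨p, hp, rfl⟩
      exact (smul_eq_iff _ _ _).2 ((hLfix p y₇).2 (Eight.lift_fix (k := 2) hp 1))
    · intro g hg
      have hg' : f₇ g ∈ fixSub Q ![z, y] := fun i => by
        fin_cases i
        · exact e₇.hom_fix g.1 hzL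
        · show mat Q (e₇.hom g.1) *ᵥ e₇.L y₇ = e₇.L y₇
          rw [e₇.hom_L, show mat Q₇ g.1 *ᵥ y₇ = y₇ from (smul_eq_iff g y₀ y₀).1 hg]
      obtain ⟨d, hd, hdg⟩ := H.exists_lift hz hy1 hzy hg'
      exact ⟨⟨d, hsub hd⟩, hd, hf₇ ((hfψ₇ _).trans hdg)⟩
  have hmove₇ : ∀ (e : D) (a : Sphere Q₇), ψ₇ e • y₀ = a →
      ∀ i, mat Q (π' e.1).1 *ᵥ ![z, y] i = ![z, e₇.L a.1] i := fun e a ha i => by
    fin_cases i
    · exact Eight.lift_fix (k := 1) e.2 0
    · show mat Q (π' e.1).1 *ᵥ e₇.L y₇ = e₇.L a.1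
      rw [← hfψ₇]
      show mat Q (e₇.hom (ψ₇ e).1) *ᵥ e₇.L y₇ = e₇.L a.1
      rw [e₇.hom_L, show mat Q₇ (ψ₇ e).1 *ᵥ y₇ = a.1 from (smul_eq_iff _ _ _).1 ha]
  have hagree : Agree ψ₇ y₀ K₇ := by
    rintro a b x ⟨e, he, hx⟩ hxb
    have hxa : x.1 ∈ lift8 π' ![z, e₇.L a.1] := by
      have hx' : (e⁻¹ * x * e : D).1 ∈ lift8 π' ![z, y] := hx
      have := Eight.lift_conj e.1 (hmove₇ e a he) hx'
      simpa [mul_assoc] using this
    have hxb' : x.1 ∈ lift8 π' ![z, e₇.L b.1] :=
      H.agree_first hz (by rw [e₇.quad, a.2]) (by rw [e₇.quad, b.2]) (hzL _) (hzL _) hxa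
        ((hLfix x b.1).1 ((smul_eq_iff _ _ _).1 hxb))
    obtain ⟨g, hg, hgb, -⟩ := exists_omega_move h2 e₇.nd (k := 0) (j := 0) ![] ![]
      (fun i => i.elim0) (fun i => i.elim0) (fun i => i.elim0) (by omega) (a := y₇) (b := b.1)
      (by rw [b.2]; exact one_ne_zero) (hy.trans b.2.symm) (fun i => i.elim0) (fun i => i.elim0)
    obtain ⟨e', he'⟩ := hψs₇ ⟨g, hg⟩
    have he'b : ψ₇ e' • y₀ = b := (smul_eq_iff _ _ _).2 (by rw [he']; exact hgb)
    refine ⟨e', he'b, ?_⟩
    have hinv : ∀ i, mat Q (π' e'.1⁻¹).1 *ᵥ ![z, e₇.L b.1] i = ![z, y] i := fun i => by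
      rw [← hmove₇ e' b he'b i, Matrix.mulVec_mulVec, ← mat_mul, ← Subgroup.coe_mul, ← map_mul,
        inv_mul_cancel, map_one, Subgroup.coe_one, mat_one, Matrix.one_mulVec]
    show (e'⁻¹ * x * e' : D).1 ∈ lift8 π' ![z, y]
    simpa [mul_assoc] using Eight.lift_conj e'.1⁻¹ hinv hxb'
  have hinjD : Function.Injective ψ₇ :=
    (covering h2 e₇.nd (by omega) ψ₇ hψs₇ hψc₇ hDperf y₀ K₇ hinj₇ himg₇ (Or.inr hagree)).injective
  have hinj' : Function.Injective π' := by
    refine (covering h2 hQ (by omega) π' hs' hc' hE' ⟨z, hz⟩ D ?_ ?_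
      (Or.inl (Or.inl (by omega)))).injective
    · intro x hx hπ
      have : (⟨x, hx⟩ : D) = 1 := hinjD (hf₇ (by rw [map_one, map_one, hfψ₇]; exact hπ))
      exact congrArg Subtype.val this
    · rw [H.map_lift _ hG1 (by norm_num)]
      ext g
      refine ⟨fun h => (smul_eq_iff _ _ _).2 (h 0), fun h i => ?_⟩
      fin_cases i
      exact (smul_eq_iff g ⟨z, hz⟩ ⟨z, hz⟩).1 h
  calc Nat.card E = Nat.card (E ⧸ M) * Nat.card M :=
        Subgroup.card_eq_card_quotient_mul_card_subgroup M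
    _ ≤ Nat.card ↥(Cfsg.Omega F ⇑Q) * N :=
      Nat.mul_le_mul (Nat.card_le_card_of_injective π' hinj') hMcard
    _ = _ := mul_comm _ _

end Bound

end CfsgLib.MultOrth
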