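import Cfsg.Agent.MultOrth.EightTwoForm
import Cfsg.Agent.SpSixMult.Mult
import Cfsg.Agent.MultPSp.Central

/-!
# Perfect central extensions of `Ω⁻₈(2)` are trivial

Lifts of two commuting products of reflections with a common vector commute (three Siegel elements
over the three unit vectors of an anisotropic plane multiply to one), so the double cover of the
stabiliser `Sp₆(2)` of a unit vector splits. The lifts of two such stabilisers agree on their
intersection, by one root element.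
-/

set_option autoImplicit false
set_option linter.unusedSectionVars false
set_option linter.unusedSimpArgs false

namespace CfsgLib.MultOrth.EightTwo

open Matrix Module CfsgLib.Spinor CfsgLib.Forms CfsgLib.Forms4 CfsgLib.StdForms
open CfsgLib.SpSixMult (dec)
open scoped commutatorElement

/-- Three pairwise orthogonal distinct units. -/
def Tri (a b c : ℕ) : Bool :=
  UP (a, b) && UP (a, c) && UP (b, c) && !Nat.beq a b && !Nat.beq a c && !Nat.beq b c &&
    Nat.blt a 256 && Nat.blt b 256 && Nat.blt c 256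

theorem tri_orth {a b c : ℕ} (h : Tri a b c = true) :
    Orth (dv a) (dv b) ∧ Orth (dv a) (dv c) ∧ Orth (dv b) (dv c) := by
  simp only [Tri, Bool.and_eq_true, Bool.not_eq_true'] at h
  obtain ⟨⟨⟨⟨⟨⟨⟨⟨h1, h2⟩, h3⟩, n1⟩, n2⟩, n3⟩, la⟩, lb⟩, lc⟩ := h
  have la : a < 256 := Nat.le_of_ble_eq_true la
  have lb : b < 256 := Nat.le_of_ble_eq_true lb
  have lc : c < 256 := Nat.le_of_ble_eq_true lc
  exact ⟨orth_dv h1 la lb (Nat.ne_of_beq_eq_false n1), orth_dv h2 la lc (Nat.ne_of_beq_eq_false n2),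
    orth_dv h3 lb lc (Nat.ne_of_beq_eq_false n3)⟩

/-- A word for the root element. -/
def rho (p : ℕ) : List (ℕ × ℕ) := [(p, p ^^^ 2), (p, p ^^^ 4), (p, p ^^^ 6)]

/-- A word for a root element. -/
def rt (p t t' : ℕ) : List (ℕ × ℕ) := [(p, p ^^^ t), (p ^^^ t', p ^^^ t ^^^ t')]

section Extension

variable {E : Type} [Group E] [Finite E] (π : E →* G) (hs : Function.Surjective π)
  (hc : π.ker ≤ Subgroup.center E)

include hc in
theorem comm_center {x : E} (hx : π x = 1) (y : E) : y * x = x * y :=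
  Subgroup.mem_center_iff.1 (hc hx) y

include hc in
theorem comm_mul_of_central {a b r : E} (h1 : π ⁅a, r⁆ = 1) (h2 : π ⁅b, r⁆ = 1) :
    ⁅a * b, r⁆ = ⁅a, r⁆ * ⁅b, r⁆ := by
  rw [MultPSL.comm_mul_left, comm_center π hc h2 a, mul_inv_cancel_right,
    comm_center π hc h1 ⁅b, r⁆]

include hc in
theorem comm_mul_of_central' {a b r : E} (h2 : π ⁅r, b⁆ = 1) :
    ⁅r, a * b⁆ = ⁅r, a⁆ * ⁅r, b⁆ := by
  rw [MultPSL.comm_mul_right, comm_center π hc h2 a, mul_inv_cancel_right]

include hs hc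

/-- Lifts of two products of reflections with a common vector commute. -/
theorem zeta {a b c : ℕ} (h : Tri a b c = true) {x y : E} (hx : π x = word [(a, b)])
    (hy : π y = word [(a, c)]) : ⁅x, y⁆ = 1 := by
  obtain ⟨L, hL⟩ : ∃ L : ℕ → ℕ → E, ∀ u v, π (L u v) = word [(u, v)] :=
    ⟨fun u v => Function.surjInv hs (word [(u, v)]), fun u v => Function.surjInv_eq hs _⟩
  obtain ⟨Z, hZ⟩ : ∃ Z, ⁅L 64 65, L 64 66⁆ = Z := ⟨_, rfl⟩
  have hT0 : Tri 64 65 66 = true := by decide +kernel
  have hZ1 : π Z = 1 := by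
    rw [← hZ, map_commutatorElement, hL, hL, commutatorElement_eq_one_iff_commute]
    have : word ([(64, 65)] ++ [(64, 66)]) = word ([(64, 66)] ++ [(64, 65)]) :=
      word_ext (by decide +kernel)
    rw [word_append, word_append] at this
    exact this
  have inv : ∀ {a b c : ℕ}, Tri a b c = true → ∀ {x y : E}, π x = word [(a, b)] →
      π y = word [(a, c)] → ⁅x, y⁆ = Z := by
    intro a b c h x y hx hy
    obtain ⟨o1, o2, o3⟩ := tri_orth hT0
    obtain ⟨o1', o2', o3'⟩ := tri_orth h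
    obtain ⟨g, ga, gb, gc⟩ := exists_move_tri o1 o2 o3 o1' o2' o3'
    obtain ⟨e, rfl⟩ := hs g
    have hx' : π x = π (e * L 64 65 * e⁻¹) := by
      rw [map_mul, map_mul, map_inv, hL, word_single, conj_X _ o1.1 o1.2.1, ga, gb, hx, word_single]
    have hy' : π y = π (e * L 64 66 * e⁻¹) := by
      rw [map_mul, map_mul, map_inv, hL, word_single, conj_X _ o2.1 o2.2.1, ga, gc, hy, word_single]
    rw [comm_congr π hc hx' hy',
      show ⁅e * L 64 65 * e⁻¹, e * L 64 66 * e⁻¹⁆ = e * Z * e⁻¹ by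
        rw [← hZ]; simp only [commutatorElement_def]; group,
      comm_center π hc hZ1 e, mul_inv_cancel_right]
  rw [inv h hx hy]
  have hπ : ∀ {a b c : ℕ}, Tri a b c = true → π ⁅L a b, L a c⁆ = 1 := fun {a b c} h => by
    rw [inv h (hL a b) (hL a c), hZ1]
  -- the square
  have hsq : Z * Z = 1 := by
    have h2 : π (L 64 66 * L 64 66) = π 1 := by
      rw [map_mul, hL, map_one, ← word_append]
      exact (word_ext (L' := []) (by decide +kernel)).trans rfl
    rw [← hZ, ← comm_mul_of_central' π hc (hπ hT0), comm_congr π hc rfl h2,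
      commutatorElement_one_right]
  -- the root element
  obtain ⟨R, hR⟩ : ∃ R, π R = word (rho 64) := hs _
  have key : ∀ p : ℕ, (Tri p (p ^^^ 1) (p ^^^ 2) && Tri p (p ^^^ 1) (p ^^^ 4) &&
      Tri p (p ^^^ 1) (p ^^^ 6)) = true → word (rho p) = word (rho 64) →
      ⁅L p (p ^^^ 1), R⁆ = Z * Z * Z := by
    intro p hp hw
    simp only [Bool.and_eq_true] at hp
    obtain ⟨⟨h1, h2⟩, h3⟩ := hp
    have hR' : π R = π (L p (p ^^^ 2) * L p (p ^^^ 4) * L p (p ^^^ 6)) := by
      rw [hR, ← hw, map_mul, map_mul, hL, hL, hL, ← word_append, ← word_append]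
      rfl
    rw [comm_congr π hc rfl hR', comm_mul_of_central' π hc (hπ h3),
      comm_mul_of_central' π hc (hπ h2), inv h1 (hL _ _) (hL _ _),
      inv h2 (hL _ _) (hL _ _), inv h3 (hL _ _) (hL _ _)]
  have k1 := key 64 (by decide +kernel) rfl
  have k2 := key 128 (by decide +kernel) (word_ext (by decide +kernel))
  have k3 := key 192 (by decide +kernel) (word_ext (by decide +kernel))
  have h3 : π (L 192 (192 ^^^ 1)) = π (L 64 (64 ^^^ 1) * L 128 (128 ^^^ 1)) := by
    rw [map_mul, hL, hL, hL, ← word_append]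
    exact word_ext (by decide +kernel)
  have h1 : π ⁅L 64 (64 ^^^ 1), R⁆ = 1 := by rw [k1, map_mul, map_mul, hZ1, one_mul, one_mul]
  have h2 : π ⁅L 128 (128 ^^^ 1), R⁆ = 1 := by rw [k2, map_mul, map_mul, hZ1, one_mul, one_mul]
  rw [comm_congr π hc h3 rfl, comm_mul_of_central π hc h1 h2, k1, k2] at k3
  have hcube : Z * Z * Z = 1 := mul_eq_left.1 k3
  rwa [hsq, one_mul] at hcube

/-- The stabiliser of the first unit lifts to `E`. -/
theorem exists_K₀ : ∃ K₀ : Subgroup E, (∀ x ∈ K₀, π x = 1 → x = 1) ∧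
    K₀.map π = uStab 3 (1 : K) 1 := by
  have h1 : (1 : K) ≠ 0 := one_ne_zero
  let se : ↥(uStab 3 (1 : K) 1) ≃* Matrix.symplecticGroup (Fin 3) K := stabEquiv h1 le_rfl
  let φ : SpSixMult.E →* G :=
    ((uStab 3 (1 : K) 1).subtype.comp se.symm.toMonoidHom).comp SpSixMult.tau
  have hperf : commutator SpSixMult.E = ⊤ := by
    have hz : Subgroup.zpowers SpSixMult.z ≤ commutator SpSixMult.E :=
      Subgroup.zpowers_le.2 SpSixMult.z_mem_commutator
    have hmap : (commutator SpSixMult.E).map SpSixMult.tau = ⊤ := by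
      rw [commutator_def, Subgroup.map_commutator,
        Subgroup.map_top_of_surjective _ SpSixMult.tau_surjective, ← commutator_def,
        Forms4.commutator_Sp_eq_top (Or.inl le_rfl)]
    rw [eq_top_iff]
    intro g _
    obtain ⟨c, hc', he⟩ : SpSixMult.tau g ∈ (commutator SpSixMult.E).map SpSixMult.tau :=
      hmap ▸ Subgroup.mem_top _
    have : c⁻¹ * g ∈ SpSixMult.tau.ker := by
      rw [MonoidHom.mem_ker, map_mul, map_inv, he, inv_mul_cancel]
    rw [SpSixMult.card_all.2.1] at this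
    simpa using mul_mem hc' (hz this)
  have hcl : MultPSp.Closed SpSixMult.E := by
    intro Γ _ _ σ hσ hσc hΓ
    obtain ⟨f, hf⟩ := SpSixMult.no_stem.2 Γ σ ⟨hσ, hσc, by rw [hΓ]; exact le_top⟩
    rw [injective_iff_map_eq_one]
    intro x hx
    obtain ⟨i, hi⟩ := hf ⟨x, hx⟩
    have : Subsingleton (Multiplicative (ZMod 1)) := inferInstanceAs (Subsingleton (ZMod 1))
    rw [Subsingleton.elim i 1, map_one] at hi
    exact (congrArg Subtype.val hi).symm
  obtain ⟨f, hf⟩ := MultPSp.exists_lift hcl hperf π hs hc φ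
  have hlift : ∀ d, 1 ≤ d → d < 64 → UP (64, d ^^^ 64) = true →
      φ (SpSixMult.el (SpSixMult.tn d)) = word [(64, d ^^^ 64)] := by
    intro d d1 d2 hU
    obtain ⟨u1, u2, u3⟩ := UP_spec hU
    have hd : dv (d ^^^ 64) = hypVec (dec d) + (1 : K) • uvec 3 K := by
      rw [dv_xor, dv_hyp d2, dv_u, one_smul]
    obtain ⟨hfix, htr⟩ := toSp_X (w := dec d) (μ := 1) (hd ▸ u2)
    have e : SpSixMult.tau (SpSixMult.el (SpSixMult.tn d)) = se ⟨_, hfix⟩ := by
      rw [SpSixMult.tau_eq (SpSixMult.R_transv d d1 d2)]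
      exact htr.symm
    rw [word_single, X_symm u1 u2 u3, dv_u, hd]
    show (se.symm (SpSixMult.tau (SpSixMult.el (SpSixMult.tn d)))).1 = _
    rw [e, MulEquiv.symm_apply_apply]
  have hz : f SpSixMult.z = 1 := by
    have hcomm : SpSixMult.sys.same [SpSixMult.tn 1, SpSixMult.tn 2]
        (12 :: [SpSixMult.tn 2, SpSixMult.tn 1]) = true := by decide +kernel
    have h := CoverTab.Sys.same_grp SpSixMult.ok hcomm
    simp only [Schur.Pc.ev_cons, Schur.Pc.ev_nil, mul_one] at h
    have e : SpSixMult.z = ⁅SpSixMult.el (SpSixMult.tn 1), SpSixMult.el (SpSixMult.tn 2)⁆ := by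
      show SpSixMult.z = _
      rw [commutatorElement_def, h]
      group
    rw [e, map_commutatorElement]
    exact zeta π hs hc (a := 64) (b := 1 ^^^ 64) (c := 2 ^^^ 64) (by decide +kernel)
      (by rw [hf, hlift 1 le_rfl (by norm_num) (by decide +kernel)])
      (by rw [hf, hlift 2 (by norm_num) (by norm_num) (by decide +kernel)])
  refine ⟨f.range, ?_, ?_⟩
  · rintro _ ⟨g, rfl⟩ hg
    rw [hf] at hg
    have hg' : SpSixMult.tau g = 1 := by
      have := congrArg id hg
      simp only [φ, MonoidHom.comp_apply, id, MulEquiv.coe_toMonoidHom, Subgroup.coe_subtype,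
        OneMemClass.coe_eq_one, MulEquiv.map_eq_one_iff] at this
      exact this
    have : g ∈ Subgroup.zpowers SpSixMult.z := by rw [← SpSixMult.card_all.2.1]; exact hg'
    obtain ⟨k, rfl⟩ := this
    rw [map_zpow, hz, _root_.one_zpow]
  · rw [MonoidHom.map_range, show π.comp f = φ from MonoidHom.ext hf]
    refine le_antisymm ?_ fun g hg => ?_
    · rintro _ ⟨g, rfl⟩
      exact (se.symm (SpSixMult.tau g)).2
    · obtain ⟨e, he⟩ := SpSixMult.tau_surjective (se ⟨g, hg⟩)
      exact ⟨e, by simp [φ, he]⟩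

end Extension

section Agree

/-- The vector of the lift of a transvection in the intersection of two stabilisers. -/
def lv (d : ℕ) : ℕ := d ^^^ (if qn d then 0 else 64)

/-- Orthogonality to the first basis vector. -/
def perpN (d : ℕ) : Bool := Nat.blt d 64 && !d.testBit 3

/-- Outside the span of the first basis vector. -/
def outN (d : ℕ) : Bool := perpN d && Nat.blt 1 d

theorem perp_lt {d : ℕ} (h : perpN d = true) : d < 64 := by
  simp only [perpN, Bool.and_eq_true] at h
  exact Nat.le_of_ble_eq_true h.1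

/-- The checks. -/
def okLv : Bool :=
  (List.range 64).all fun x => !perpN x ||
    (UP (lv x, 64) && !bn (lv x) 65 && sameW [(lv x, 64), (lv x, 64)] [] &&
      ((List.range 64).all fun y => !(perpN y && bn x y) ||
        (perpN (x ^^^ y) && Nat.beq (actn (lv y, 64) (lv x)) (lv (x ^^^ y)) &&
          Nat.beq (actn (lv y, 64) 64) 64)))

/-- The connecting vectors. -/
def okConn : Bool :=
  (List.range 64).all fun x => !outN x ||
    (List.range 64).any fun w => outN w && outN (x ^^^ w) && bn x (x ^^^ w) &&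
      Nat.beq (x ^^^ (x ^^^ w)) w && outN (2 ^^^ w) && bn 2 (2 ^^^ w) &&
      Nat.beq (2 ^^^ (2 ^^^ w)) w

theorem okLv_true : okLv = true := by decide +kernel

theorem okConn_true : okConn = true := by decide +kernel

theorem lv_spec {x : ℕ} (hx : perpN x = true) :
    UP (lv x, 64) = true ∧ bn (lv x) 65 = false ∧ sameW [(lv x, 64), (lv x, 64)] [] = true ∧
      ∀ y, perpN y = true → bn x y = true → perpN (x ^^^ y) = true ∧
        actn (lv y, 64) (lv x) = lv (x ^^^ y) ∧ actn (lv y, 64) 64 = 64 := by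
  have h := okLv_true
  simp only [okLv, List.all_eq_true, List.mem_range, Bool.or_eq_true, Bool.not_eq_true',
    Bool.and_eq_true] at h
  rcases h x (perp_lt hx) with h | ⟨⟨⟨h1, h2⟩, h3⟩, h4⟩
  · rw [hx] at h; exact absurd h (by simp)
  refine ⟨h1, h2, h3, fun y hy hxy => ?_⟩
  rcases h4 y (perp_lt hy) with h | ⟨⟨e1, e2⟩, e3⟩
  · rw [hy, hxy] at h; exact absurd h (by simp)
  · exact ⟨e1, Nat.eq_of_beq_eq_true e2, Nat.eq_of_beq_eq_true e3⟩

variable (S : Subgroup G)

/-- The transvection elements. -/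
noncomputable def tv (x : ℕ) : G := word [(lv x, 64)]

/-- A subgroup with the root element and the commutators contains the transvections. -/
theorem transv_mem (hcomm : ∀ x y, perpN x = true → perpN y = true → ⁅tv y, tv x⁆ ∈ S)
    (hρ : word (rho 64) ∈ S) {x : ℕ} (hx : perpN x = true) : tv x ∈ S := by
  have hTT : ∀ x, perpN x = true → (tv x)⁻¹ = tv x := fun x hx =>
    word_inv (lv_spec hx).2.2.1
  have hstep : ∀ x y, perpN x = true → perpN y = true → bn x y = true →
      tv (x ^^^ y) * tv x ∈ S := by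
    intro x y hx hy hxy
    obtain ⟨hUx, -, -, hxy'⟩ := lv_spec hx
    obtain ⟨-, e1, e2⟩ := hxy' y hy hxy
    have hUy := (lv_spec hy).1
    obtain ⟨u1, u2, -⟩ := UP_spec hUx
    have hc : tv y * tv x * (tv y)⁻¹ = tv (x ^^^ y) := by
      rw [tv, tv, tv, word_single, word_single, word_single, conj_X _ u1 u2, actn_eq hUy,
        actn_eq hUy, e1, e2]
    have h := hcomm x y hx hy
    rwa [commutatorElement_def, hc, hTT x hx] at h
  have he1 : outN 2 = true := by decide +kernel
  have outp : ∀ x, outN x = true → perpN x = true := fun x hx => by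
    simp only [outN, Bool.and_eq_true] at hx; exact hx.1
  have heq : ∀ x, outN x = true → tv x * tv 2 ∈ S := by
    intro x hx
    have h := okConn_true
    simp only [okConn, List.all_eq_true, List.mem_range, Bool.or_eq_true, Bool.not_eq_true',
      List.any_eq_true, Bool.and_eq_true] at h
    rcases h x (perp_lt (outp x hx)) with h | ⟨w, -, ⟨⟨⟨⟨⟨hw, hxw⟩, b1⟩, c1⟩, hew⟩, b2⟩, c2⟩
    · rw [hx] at h; exact absurd h (by simp)
    have h1 := hstep x (x ^^^ w) (outp x hx) (outp _ hxw) b1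
    rw [Nat.eq_of_beq_eq_true c1] at h1
    have h2 := hstep 2 (2 ^^^ w) (outp 2 he1) (outp _ hew) b2
    rw [Nat.eq_of_beq_eq_true c2] at h2
    have := mul_mem (inv_mem h1) h2
    rwa [_root_.mul_inv_rev, hTT x (outp x hx), mul_assoc, inv_mul_cancel_left] at this
  have hr : word (rho 64) = tv 2 * (tv 4 * tv 6) := by
    rw [tv, tv, tv, ← word_append, ← word_append]
    exact word_ext (by decide +kernel)
  have h12 : tv 4 * tv 6 ∈ S := by
    have := mul_mem (heq 4 (by decide +kernel)) (inv_mem (heq 6 (by decide +kernel)))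
    rwa [_root_.mul_inv_rev, mul_assoc, mul_inv_cancel_left, hTT 6 (by decide +kernel)] at this
  have hT1 : tv 2 ∈ S := by
    rw [hr] at hρ
    have := mul_mem hρ (inv_mem h12)
    rwa [mul_inv_cancel_right] at this
  have hout : ∀ x, outN x = true → tv x ∈ S := fun x hx => by
    have := mul_mem (heq x hx) (inv_mem hT1)
    rwa [mul_inv_cancel_right] at this
  by_cases hO : outN x = true
  · exact hout x hO
  obtain rfl | rfl : x = 0 ∨ x = 1 := by
    simp only [outN, hx, Bool.true_and] at hO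
    by_contra hne
    exact hO (Nat.ble_eq_true_of_le (by omega))
  · have : tv 0 = 1 := (word_ext (L' := []) (by decide +kernel)).trans rfl
    rw [this]; exact one_mem S
  · have : tv 1 = tv 2 * (tv 4 * (tv 6 * (tv 3 * (tv 5 * tv 7)))) := by
      rw [tv, tv, tv, tv, tv, tv, tv, ← word_append, ← word_append, ← word_append, ← word_append,
        ← word_append]
      exact word_ext (by decide +kernel)
    rw [this]
    exact mul_mem (hout _ (by decide +kernel)) (mul_mem (hout _ (by decide +kernel))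
      (mul_mem (hout _ (by decide +kernel)) (mul_mem (hout _ (by decide +kernel))
        (mul_mem (hout _ (by decide +kernel)) (hout _ (by decide +kernel))))))

/-- The intersection of the two stabilisers is generated by these transvections. -/
theorem stab_le (hT : ∀ x, perpN x = true → tv x ∈ S) {g : G} (h1 : g ∈ uStab 3 (1 : K) 1)
    (h2 : mat Q₈ g.1 *ᵥ dv 65 = dv 65) : g ∈ S := by
  have hne : (1 : K) ≠ 0 := one_ne_zero
  have hA : toSp hne ⟨g, h1⟩ ∈ spStab (Pi.single (Sum.inl 0) (1 : K) : Fin 3 ⊕ Fin 3 → K) := by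
    obtain ⟨t, ht⟩ := apply_hyp hne h1 (dec 1)
    have hc : dv 65 = uvec 3 K + hypVec (dec 1) := by
      rw [← dv_u, ← dv_hyp (by norm_num : 1 < 64), ← dv_xor]
      rfl
    rw [hc, Matrix.mulVec_add, uStab_fix h1, ht] at h2
    have e : (Pi.single (Sum.inl 0) (1 : K) : Fin 3 ⊕ Fin 3 → K) = dec 1 := by decide +kernel
    rw [e]
    funext i
    have := congrFun (add_left_cancel h2) (.inl i)
    simp only [Pi.add_apply, hypVec, Sum.elim_inl, Pi.smul_apply, uvec, Pi.zero_apply, smul_zero,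
      add_zero] at this
    exact this
  let S' : Subgroup (Matrix.symplecticGroup (Fin 3) K) :=
    (S.subgroupOf (uStab 3 (1 : K) 1)).map (toSp hne)
  have hle : transvGroup {w : Fin 3 ⊕ Fin 3 → K | w (Sum.inr 0) = 0} ≤ S' := by
    unfold transvGroup
    rw [Subgroup.closure_le]
    rintro _ ⟨w, hw, c, rfl⟩
    rcases (show ∀ r : K, r = 0 ∨ r = 1 by decide) c with rfl | rfl
    · rw [show spTransv w (0 : K) = 1 from sp_ext fun x => by simp [spTransv_mulVec]]
      exact one_mem S'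
    · obtain ⟨d, hd, rfl⟩ := SpSixMult.dec_surjective w
      have hp : perpN d = true := by
        simp only [perpN, Bool.and_eq_true, Bool.not_eq_true']
        refine ⟨Nat.ble_eq_true_of_le hd, ?_⟩
        have h3 : SpSixMult.ind (d.testBit 3) = 0 := hw
        exact SpSixMult.ind_injective _ _ h3
      obtain ⟨u1, -, -⟩ := UP_spec (lv_spec hp).1
      obtain ⟨μ, hμ⟩ : ∃ μ : K, dv (lv d) = hypVec (dec d) + μ • uvec 3 K := by
        rw [lv, dv_xor, dv_hyp hd]
        cases qn d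
        · exact ⟨1, by simp [dv_u]⟩
        · exact ⟨0, by simp [dv_zero]⟩
      obtain ⟨hfix, htr⟩ := toSp_X (w := dec d) (μ := μ) (hμ ▸ u1)
      refine ⟨⟨_, hfix⟩, ?_, htr⟩
      show X (hypVec (dec d) + μ • uvec 3 K) (uvec 3 K) ∈ S
      have := hT d hp
      rwa [tv, word_single, dv_u, hμ] at this
  obtain ⟨g', hg', hge⟩ := hle (spStab_le_transvGroup (0 : Fin 3) rfl hA)
  rw [toSp_injective hne le_rfl hge] at hg'
  exact hg'

end Agree

/-- Finite perfect central extensions are trivial. -/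
theorem bound (E : Type) [Group E] [Finite E] (π : E →* G) (hs : Function.Surjective π)
    (hc : π.ker ≤ Subgroup.center E) (hE : commutator E = ⊤) :
    Nat.card E ≤ Nat.card G := by
  obtain ⟨K₀, hinj, himg⟩ := exists_K₀ π hs hc
  obtain ⟨z₀, hz₀⟩ : ∃ z : Sphere Q₈, z.1 = dv 64 := ⟨⟨_, (quad_dv 64).trans rfl⟩, rfl⟩
  obtain ⟨c₀, hc₀⟩ : ∃ z : Sphere Q₈, z.1 = dv 65 := ⟨⟨_, (quad_dv 65).trans rfl⟩, rfl⟩
  obtain ⟨y₀, hy₀⟩ : ∃ z : Sphere Q₈, z.1 = dv 128 := ⟨⟨_, (quad_dv 128).trans rfl⟩, rfl⟩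
  have hzu : z₀ = uPt 3 (1 : K) 1 := Subtype.ext (hz₀.trans dv_u)
  have himg' : K₀.map π = MulAction.stabilizer G z₀ := by rw [hzu]; exact himg
  have lift0 : ∀ {g : G}, g • z₀ = z₀ → ∃ k ∈ K₀, π k = g := fun {g} hg => by
    have : g ∈ K₀.map π := by rw [himg']; exact hg
    exact this
  have fix0 : ∀ {k : E}, k ∈ K₀ → π k • z₀ = z₀ := fun {k} hk => by
    have h : π k ∈ K₀.map π := ⟨k, hk, rfl⟩
    rw [himg'] at h; exact h
  have conj0 : ∀ {u : E}, π u • z₀ = z₀ → ∀ {x}, x ∈ K₀ → u * x * u⁻¹ ∈ K₀ := by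
    intro u hu x hx
    obtain ⟨k, hk, e⟩ := lift0 hu
    have hz : π (k⁻¹ * u) = 1 := by rw [map_mul, map_inv, e, inv_mul_cancel]
    have : u * x * u⁻¹ = k * x * k⁻¹ := by
      calc u * x * u⁻¹ = k * ((k⁻¹ * u) * x) * (k⁻¹ * u)⁻¹ * k⁻¹ := by group
        _ = k * (x * (k⁻¹ * u)) * (k⁻¹ * u)⁻¹ * k⁻¹ := by rw [← comm_center π hc hz x]
        _ = k * x * k⁻¹ := by group
    rw [this]
    exact mul_mem (mul_mem hk hx) (inv_mem hk)
  obtain ⟨ec, hec⟩ : ∃ e : E, π e • z₀ = c₀ := by
    obtain ⟨g, g1, -⟩ := exists_move_pair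
      (orth_dv (a := 64) (b := 65) (by decide +kernel) (by norm_num) (by norm_num) (by norm_num))
      (orth_dv (a := 65) (b := 64) (by decide +kernel) (by norm_num) (by norm_num) (by norm_num))
    obtain ⟨e, rfl⟩ := hs g
    exact ⟨e, (smul_eq_iff _ _ _).2 (by rw [hz₀, hc₀]; exact g1)⟩
  obtain ⟨ey, hey⟩ : ∃ e : E, π e • z₀ = y₀ := by
    obtain ⟨g, g1, -⟩ := exists_move_pair
      (orth_dv (a := 64) (b := 65) (by decide +kernel) (by norm_num) (by norm_num) (by norm_num))
      (orth_dv (a := 128) (b := 129) (by decide +kernel) (by norm_num) (by norm_num) (by norm_num))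
    obtain ⟨e, rfl⟩ := hs g
    exact ⟨e, (smul_eq_iff _ _ _).2 (by rw [hz₀, hy₀]; exact g1)⟩
  -- the three lifts
  let Ky : Subgroup E := K₀.map (MulAut.conj ey).toMonoidHom
  let Kc : Subgroup E := K₀.map (MulAut.conj ec).toMonoidHom
  have liftc : ∀ (e : E) (z : Sphere Q₈), π e • z₀ = z → ∀ {g : G}, g • z = z →
      ∃ k ∈ K₀.map (MulAut.conj e).toMonoidHom, π k = g := by
    intro e z he g hg
    obtain ⟨k, hk, hke⟩ := lift0 (g := (π e)⁻¹ * g * π e)
      (by rw [mul_smul, mul_smul, he, hg, ← he, inv_smul_smul])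
    exact ⟨e * k * e⁻¹, ⟨k, hk, rfl⟩, by rw [map_mul, map_mul, map_inv, hke]; group⟩
  have injc : ∀ (e : E), ∀ x ∈ K₀.map (MulAut.conj e).toMonoidHom, π x = 1 → x = 1 := by
    rintro e _ ⟨k, hk, rfl⟩ hx
    have : π k = 1 := by simpa [MulAut.conj_apply] using hx
    rw [hinj k hk this]
    simp
  have commMem : ∀ (A B : Subgroup E), ∀ h k : G, h ∈ A.map π ⊓ B.map π → k ∈ A.map π ⊓ B.map π →
      ⁅h, k⁆ ∈ (A ⊓ B).map π := by
    rintro A B _ _ ⟨⟨a, ha, rfl⟩, ⟨b, hb, hab⟩⟩ ⟨⟨a', ha', rfl⟩, ⟨b', hb', hab'⟩⟩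
    refine ⟨⁅a, a'⁆, ⟨?_, ?_⟩, map_commutatorElement π a a'⟩
    · rw [commutatorElement_def]
      exact A.mul_mem (A.mul_mem (A.mul_mem ha ha') (A.inv_mem ha)) (A.inv_mem ha')
    · rw [comm_congr π hc hab.symm hab'.symm, commutatorElement_def]
      exact B.mul_mem (B.mul_mem (B.mul_mem hb hb') (B.inv_mem hb)) (B.inv_mem hb')
  let S : Subgroup G := (K₀ ⊓ Kc).map π
  have mem0 : ∀ L, (okW L && Nat.beq (actW L 64) 64) = true → word L ∈ K₀.map π := fun L h => by
    rw [himg']; exact word_fix L z₀ 64 hz₀ h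
  have memy : ∀ L, (okW L && Nat.beq (actW L 128) 128) = true → word L ∈ Ky.map π := fun L h =>
    liftc ey y₀ hey (word_fix L y₀ 128 hy₀ h)
  have memc : ∀ L, (okW L && Nat.beq (actW L 65) 65) = true → word L ∈ Kc.map π := fun L h =>
    liftc ec c₀ hec (word_fix L c₀ 65 hc₀ h)
  have hρ : word (rho 64) ∈ S := by
    have e1 : ⁅word (rt 64 2 8), word (rt 64 4 1)⁆ = word (rho 64) := by
      rw [commutatorElement_def, word_inv (by decide +kernel), word_inv (by decide +kernel),
        ← word_append, ← word_append, ← word_append]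
      exact word_ext (by decide +kernel)
    have e2 : ⁅word (rt 65 2 137), word (rt 64 4 1)⁆ = word (rho 64) := by
      rw [commutatorElement_def, word_inv (by decide +kernel), word_inv (by decide +kernel),
        ← word_append, ← word_append, ← word_append]
      exact word_ext (by decide +kernel)
    obtain ⟨a, ⟨ha0, hay⟩, hae⟩ := commMem K₀ Ky (word (rt 64 2 8)) (word (rt 64 4 1))
      ⟨mem0 _ (by decide +kernel), memy _ (by decide +kernel)⟩
      ⟨mem0 _ (by decide +kernel), memy _ (by decide +kernel)⟩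
    obtain ⟨b, ⟨hby, hbc⟩, hbe⟩ := commMem Ky Kc (word (rt 65 2 137)) (word (rt 64 4 1))
      ⟨memy _ (by decide +kernel), memc _ (by decide +kernel)⟩
      ⟨memy _ (by decide +kernel), memc _ (by decide +kernel)⟩
    rw [e1] at hae
    rw [e2] at hbe
    have hab : a⁻¹ * b = 1 :=
      injc ey _ (mul_mem (inv_mem hay) hby) (by rw [map_mul, map_inv, hae, hbe, inv_mul_cancel])
    exact ⟨a, ⟨ha0, by rw [inv_mul_eq_one.1 hab]; exact hbc⟩, hae⟩
  have hfix : ∀ x, perpN x = true → tv x ∈ K₀.map π ⊓ Kc.map π := by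
    intro x hx
    obtain ⟨hU, hb, -⟩ := lv_spec hx
    have hU' := hU
    simp only [UP, Bool.and_eq_true, Bool.not_eq_true'] at hU'
    have hok : okW [(lv x, 64)] = true := by simp [okW, hU]
    refine ⟨mem0 _ ?_, memc _ ?_⟩
    · simp [hok, actW, actn, hU'.2, show bn 64 64 = false by decide +kernel]
    · simp [hok, actW, actn, hb, show bn 64 65 = false by decide +kernel]
  have hT : ∀ x, perpN x = true → tv x ∈ S := fun x hx =>
    transv_mem S (fun a b ha hb => commMem K₀ Kc _ _ (hfix b hb) (hfix a ha)) hρ hx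
  -- agreement on orthogonal pairs
  have hagree : ∀ a b : Sphere Q₈, QuadraticMap.polar (⇑Q₈) a.1 b.1 = 0 →
      ∀ x ∈ Covering.K π z₀ K₀ a, π x • b = b → x ∈ Covering.K π z₀ K₀ b := by
    intro a b hab x ⟨e₁, he₁, hx₁⟩ hxb
    by_cases hne : a = b
    · exact ⟨e₁, he₁.trans hne, hx₁⟩
    obtain ⟨g, g1, g2⟩ := exists_move_pair
      (orth_dv (a := 64) (b := 65) (by decide +kernel) (by norm_num) (by norm_num) (by norm_num))
      (⟨a.2, b.2, hab, fun e => hne (Subtype.ext e)⟩ : Orth a.1 b.1)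
    obtain ⟨e₂, rfl⟩ := hs g
    have ga : π e₂ • z₀ = a := (smul_eq_iff _ _ _).2 (by rw [hz₀]; exact g1)
    have gb : π e₂ • c₀ = b := (smul_eq_iff _ _ _).2 (by rw [hc₀]; exact g2)
    have hu : π (e₂⁻¹ * e₁) • z₀ = z₀ := by
      rw [map_mul, map_inv, mul_smul, he₁, ← ga, inv_smul_smul]
    have hy : e₂⁻¹ * x * e₂ ∈ K₀ := by
      convert conj0 hu hx₁ using 1
      group
    have hyc : π (e₂⁻¹ * x * e₂) • c₀ = c₀ := by
      rw [map_mul, map_mul, map_inv, mul_smul, mul_smul, gb, hxb, ← gb, inv_smul_smul]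
    have h0 : π (e₂⁻¹ * x * e₂) ∈ uStab 3 (1 : K) 1 := by
      have := fix0 hy
      rwa [hzu] at this
    obtain ⟨y, ⟨hy0, k, hk, hky⟩, hye⟩ : π (e₂⁻¹ * x * e₂) ∈ S :=
      stab_le S hT h0 (by rw [← hc₀]; exact (smul_eq_iff _ _ _).1 hyc)
    have hyy : y = e₂⁻¹ * x * e₂ := inv_mul_eq_one.1
      (hinj _ (mul_mem (inv_mem hy0) hy) (by simp only [map_mul, map_inv, hye]; group))
    refine ⟨e₂ * ec, by rw [map_mul, mul_smul, hec, gb], ?_⟩
    have : (e₂ * ec)⁻¹ * x * (e₂ * ec) = k := by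
      have hk' : ec * k * ec⁻¹ = e₂⁻¹ * x * e₂ := hky.trans hyy
      calc (e₂ * ec)⁻¹ * x * (e₂ * ec) = ec⁻¹ * (e₂⁻¹ * x * e₂) * ec := by group
        _ = k := by rw [← hk']; group
    rw [this]; exact hk
  exact Nat.card_le_card_of_injective π (covering_two nd dim8 (minusPairs 3 (by omega) 1 1) π hs hc hE
    z₀ K₀ hinj himg' fun a b h => Or.inr (hagree a b h)).injective

end CfsgLib.MultOrth.EightTwo
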