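import Cfsg.Agent.MultOrth.MinusEven
import Cfsg.Agent.SpSixMult.Natural

/-!
# The group `Ω⁻₈(2)`: products of two reflections and their words

Vectors are numbers below 256: the bits `0,…,5` are the hyperbolic coordinates, `6, 7` the plane.
-/

set_option autoImplicit false
set_option linter.unusedSectionVars false
set_option linter.unusedSimpArgs false

namespace CfsgLib.MultOrth.EightTwo

open Matrix Module CfsgLib.Spinor CfsgLib.Forms CfsgLib.Forms4 CfsgLib.StdForms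
open CfsgLib.SpSixMult (ind ind_xor ind_and dec)

/-- The field. -/
abbrev K : Type := ZMod 2

/-- The space. -/
abbrev V : Type := (Fin 3 ⊕ Fin 3) ⊕ Fin 2 → K

/-- The form. -/
noncomputable abbrev Q₈ : QuadraticForm K V := minusQ 3 K 1 1

/-- The group. -/
noncomputable abbrev G : Type := ↥(Cfsg.Omega K ⇑Q₈)

/-- The vector of a number. -/
def dv (c : ℕ) : V :=
  Sum.elim (Sum.elim (fun i => ind (c.testBit i.val)) (fun i => ind (c.testBit (3 + i.val))))
    (fun j => ind (c.testBit (6 + j.val)))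

/-- The form on numbers. -/
def qn (c : ℕ) : Bool :=
  (((c.testBit 0 && c.testBit 3) != (c.testBit 1 && c.testBit 4)) != (c.testBit 2 && c.testBit 5)) !=
    ((c.testBit 6 != (c.testBit 6 && c.testBit 7)) != c.testBit 7)

/-- The polar form on numbers. -/
def bn (c d : ℕ) : Bool :=
  ((((c.testBit 0 && d.testBit 3) != (d.testBit 0 && c.testBit 3)) !=
    ((c.testBit 1 && d.testBit 4) != (d.testBit 1 && c.testBit 4))) !=
    ((c.testBit 2 && d.testBit 5) != (d.testBit 2 && c.testBit 5))) !=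
    ((c.testBit 6 && d.testBit 7) != (d.testBit 6 && c.testBit 7))

theorem ind_sq : ∀ x : Bool, ind x * ind x = ind x := by decide

theorem quad_dv (c : ℕ) : Q₈ (dv c) = ind (qn c) := by
  rw [minusQ_apply]
  simp [Cfsg.quadFormMinus, qn, dv, ind_xor, ind_and, Fin.sum_univ_three, sq, ind_sq]
  ring

theorem polar_dv (c d : ℕ) : QuadraticMap.polar (⇑Q₈) (dv c) (dv d) = ind (bn c d) := by
  rw [polar_minus, show (2 : K) = 0 from rfl]
  simp [bn, dv, ind_xor, ind_and, Fin.sum_univ_three]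
  ring

theorem dv_xor (a b : ℕ) : dv (a ^^^ b) = dv a + dv b := by
  funext i
  rcases i with (i | i) | i <;> simp [dv, Nat.testBit_xor, ind_xor]

theorem dv_zero : dv 0 = 0 := by
  funext i
  rcases i with (i | i) | i <;> simp [dv, ind]

theorem dv_ite (b : Bool) (c : ℕ) : dv (if b then c else 0) = ind b • dv c := by
  cases b <;> simp [ind, dv_zero]

theorem dv_u : dv 64 = uvec 3 K := by
  funext i
  rcases i with (i | i) | i <;> fin_cases i <;> rfl

theorem testBit_high {c : ℕ} (h : c < 64) {i : ℕ} (hi : 6 ≤ i) : c.testBit i = false :=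
  Nat.testBit_eq_false_of_lt (lt_of_lt_of_le h (le_trans (by norm_num)
    (Nat.pow_le_pow_right (by norm_num) hi)))

theorem dv_hyp {c : ℕ} (h : c < 64) : dv c = hypVec (dec c) := by
  funext i
  rcases i with (i | i) | i
  · rfl
  · rfl
  · show ind (c.testBit (6 + i.val)) = 0
    rw [testBit_high h (by omega)]
    rfl

theorem dv_injective {a b : ℕ} (ha : a < 256) (hb : b < 256) (h : dv a = dv b) : a = b := by
  refine Nat.eq_of_testBit_eq fun i => ?_
  by_cases h3 : i < 3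
  · exact SpSixMult.ind_injective _ _ (congrFun h (.inl (.inl ⟨i, h3⟩)))
  by_cases h6 : i < 6
  · have := congrFun h (.inl (.inr ⟨i - 3, by omega⟩))
    simp only [dv, Sum.elim_inl, Sum.elim_inr, show 3 + (i - 3) = i by omega] at this
    exact SpSixMult.ind_injective _ _ this
  by_cases h8 : i < 8
  · have := congrFun h (.inr ⟨i - 6, by omega⟩)
    simp only [dv, Sum.elim_inr, show 6 + (i - 6) = i by omega] at this
    exact SpSixMult.ind_injective _ _ this
  have hp : 256 ≤ 2 ^ i := le_trans (by norm_num) (Nat.pow_le_pow_right (by norm_num) (not_lt.1 h8))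
  rw [Nat.testBit_eq_false_of_lt (lt_of_lt_of_le ha hp),
    Nat.testBit_eq_false_of_lt (lt_of_lt_of_le hb hp)]

theorem nd : (QuadraticMap.polarBilin Q₈).Nondegenerate :=
  minus_nondeg (k := 3) (b := (1 : K)) one_ne_zero

theorem dim8 : 8 ≤ Fintype.card ((Fin 3 ⊕ Fin 3) ⊕ Fin 2) := le_of_eq rfl

theorem eight_ne {u : V} (h : Q₈ u = 1) : Q₈ u ≠ 0 := by rw [h]; exact one_ne_zero

open Classical in
/-- The product of the reflections of two unit vectors. -/
noncomputable def X (u v : V) : G :=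
  if h : Q₈ u = 1 ∧ Q₈ v = 1 then ⟨_, even_mem_omega nd dim8 (eight_ne h.1) (eight_ne h.2)⟩ else 1

theorem mat_X {u v : V} (hu : Q₈ u = 1) (hv : Q₈ v = 1) :
    mat Q₈ (X u v).1 = Cfsg.reflectionMatrix (⇑Q₈) u * Cfsg.reflectionMatrix (⇑Q₈) v := by
  rw [X, dif_pos ⟨hu, hv⟩, mat_mul, mat_reflIso, mat_reflIso]

theorem ext_act {g h : G} (e : ∀ x, mat Q₈ g.1 *ᵥ x = mat Q₈ h.1 *ᵥ x) : g = h :=
  Subtype.ext (mat_ext Q₈ (Matrix.ext_iff_mulVec.2 e))

/-- Two orthogonal distinct unit vectors. -/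
def Orth (a b : V) : Prop :=
  Q₈ a = 1 ∧ Q₈ b = 1 ∧ QuadraticMap.polar (⇑Q₈) a b = 0 ∧ a ≠ b

theorem X_mulVec {u v : V} (hu : Q₈ u = 1) (hv : Q₈ v = 1)
    (huv : QuadraticMap.polar (⇑Q₈) u v = 0) (x : V) : mat Q₈ (X u v).1 *ᵥ x =
      x + QuadraticMap.polar (⇑Q₈) v x • v + QuadraticMap.polar (⇑Q₈) u x • u := by
  rw [genTwo_mulVec hu hv huv (mat_X hu hv)]
  funext i
  simp [CharTwo.sub_eq_add]

theorem X_symm {u v : V} (hu : Q₈ u = 1) (hv : Q₈ v = 1)
    (huv : QuadraticMap.polar (⇑Q₈) u v = 0) : X u v = X v u := by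
  refine ext_act fun x => ?_
  rw [X_mulVec hu hv huv, X_mulVec hv hu (by rw [QuadraticMap.polar_comm]; exact huv),
    add_right_comm]

theorem conj_X (g : G) {u v : V} (hu : Q₈ u = 1) (hv : Q₈ v = 1) :
    g * X u v * g⁻¹ = X (mat Q₈ g.1 *ᵥ u) (mat Q₈ g.1 *ᵥ v) := by
  refine Subtype.ext (mat_ext Q₈ ?_)
  show mat Q₈ (g.1 * (X u v).1 * g.1⁻¹) = _
  rw [mat_mul, mat_mul, mat_X hu hv, mat_X (by rw [quad_mulVec, hu]) (by rw [quad_mulVec, hv]),
    ← mul_assoc (mat Q₈ g.1), mat_mul_reflectionMatrix, mul_assoc _ (mat Q₈ g.1),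
    mat_mul_reflectionMatrix, ← mul_assoc, mul_assoc _ (mat Q₈ g.1), ← mat_mul, mul_inv_cancel,
    mat_one, mul_one]

/-- Two orthogonal units, as numbers. -/
def UP (p : ℕ × ℕ) : Bool := qn p.1 && qn p.2 && !bn p.1 p.2

theorem UP_spec {a b : ℕ} (h : UP (a, b) = true) :
    Q₈ (dv a) = 1 ∧ Q₈ (dv b) = 1 ∧ QuadraticMap.polar (⇑Q₈) (dv a) (dv b) = 0 := by
  simp only [UP, Bool.and_eq_true, Bool.not_eq_true'] at h
  rw [quad_dv, quad_dv, polar_dv, h.1.1, h.1.2, h.2]
  exact ⟨rfl, rfl, rfl⟩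

theorem orth_dv {a b : ℕ} (h : UP (a, b) = true) (ha : a < 256) (hb : b < 256) (hne : a ≠ b) :
    Orth (dv a) (dv b) := by
  obtain ⟨h1, h2, h3⟩ := UP_spec h
  exact ⟨h1, h2, h3, fun e => hne (dv_injective ha hb e)⟩

/-- The action of `X` on numbers. -/
def actn (p : ℕ × ℕ) (x : ℕ) : ℕ :=
  (x ^^^ (if bn p.2 x then p.2 else 0)) ^^^ (if bn p.1 x then p.1 else 0)

theorem actn_eq {p : ℕ × ℕ} (h : UP p = true) (x : ℕ) :
    mat Q₈ (X (dv p.1) (dv p.2)).1 *ᵥ dv x = dv (actn p x) := by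
  obtain ⟨h1, h2, h3⟩ := UP_spec (a := p.1) (b := p.2) h
  rw [X_mulVec h1 h2 h3, actn, dv_xor, dv_xor, dv_ite, dv_ite, polar_dv, polar_dv]

/-- The product of a word. -/
noncomputable def word (L : List (ℕ × ℕ)) : G := (L.map fun p => X (dv p.1) (dv p.2)).prod

/-- The action of a word. -/
def actW (L : List (ℕ × ℕ)) (x : ℕ) : ℕ := L.foldr actn x

/-- The letters of a word are orthogonal units. -/
def okW (L : List (ℕ × ℕ)) : Bool := L.all UP

/-- Two words agree on the basis. -/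
def sameW (L L' : List (ℕ × ℕ)) : Bool :=
  okW L && okW L' && (List.range 8).all fun i => Nat.beq (actW L (2 ^ i)) (actW L' (2 ^ i))

theorem word_act : ∀ (L : List (ℕ × ℕ)), okW L = true → ∀ x,
    mat Q₈ (word L).1 *ᵥ dv x = dv (actW L x)
  | [], _, x => by
    show mat Q₈ (1 : ↥(Cfsg.isometryGroup K ⇑Q₈)) *ᵥ dv x = dv x
    rw [mat_one, Matrix.one_mulVec]
  | p :: L, h, x => by
    simp only [okW, List.all_cons, Bool.and_eq_true] at h
    have e : word (p :: L) = X (dv p.1) (dv p.2) * word L := by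
      rw [word, List.map_cons, List.prod_cons, word]
    rw [e, Subgroup.coe_mul, mat_mul, ← Matrix.mulVec_mulVec, word_act L h.2 x, actn_eq h.1]
    rfl

theorem exists_basis (i : (Fin 3 ⊕ Fin 3) ⊕ Fin 2) : ∃ k < 8, dv (2 ^ k) = Pi.single i 1 := by
  rcases i with (i | i) | i <;> fin_cases i
  · exact ⟨0, by norm_num, by decide +kernel⟩
  · exact ⟨1, by norm_num, by decide +kernel⟩
  · exact ⟨2, by norm_num, by decide +kernel⟩
  · exact ⟨3, by norm_num, by decide +kernel⟩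
  · exact ⟨4, by norm_num, by decide +kernel⟩
  · exact ⟨5, by norm_num, by decide +kernel⟩
  · exact ⟨6, by norm_num, by decide +kernel⟩
  · exact ⟨7, by norm_num, by decide +kernel⟩

theorem word_ext {L L' : List (ℕ × ℕ)} (h : sameW L L' = true) : word L = word L' := by
  simp only [sameW, Bool.and_eq_true, List.all_eq_true, List.mem_range] at h
  obtain ⟨⟨h1, h2⟩, h3⟩ := h
  refine Subtype.ext (mat_ext Q₈ (Matrix.ext fun i j => ?_))
  obtain ⟨k, hk, e⟩ := exists_basis j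
  have := word_act L h1 (2 ^ k)
  rw [Nat.eq_of_beq_eq_true (h3 k hk), ← word_act L' h2, e] at this
  simpa [Matrix.mulVec_single_one] using congrFun this i

theorem word_append (L L' : List (ℕ × ℕ)) : word (L ++ L') = word L * word L' := by
  simp [word, List.prod_append]

theorem word_single (a b : ℕ) : word [(a, b)] = X (dv a) (dv b) := by simp [word]

theorem word_inv {L : List (ℕ × ℕ)} (h : sameW (L ++ L) [] = true) : (word L)⁻¹ = word L :=
  inv_eq_of_mul_eq_one_right (by rw [← word_append, word_ext h]; rfl)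

theorem word_fix (L : List (ℕ × ℕ)) (a : Sphere Q₈) (c : ℕ) (hc : a.1 = dv c)
    (h : (okW L && Nat.beq (actW L c) c) = true) : word L • a = a := by
  simp only [Bool.and_eq_true] at h
  refine (smul_eq_iff _ _ _).2 ?_
  rw [hc, word_act L h.1, Nat.eq_of_beq_eq_true h.2]

/-- Orthogonal distinct pairs are conjugate. -/
theorem exists_move_pair {a b a' b' : V} (h : Orth a b) (h' : Orth a' b') :
    ∃ g : G, mat Q₈ g.1 *ᵥ a = a' ∧ mat Q₈ g.1 *ᵥ b = b' := by
  obtain ⟨ha, hb, hab, hne⟩ := h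
  obtain ⟨ha', hb', hab', hne'⟩ := h'
  obtain ⟨d, hd, hd1, hdo⟩ := exists_unit_few nd ![a, a'] (by simp)
  obtain ⟨g, hg, hga, -⟩ := exists_move_two nd dim8 ![d] (by omega) ha ha'
    (fun i => by fin_cases i; exact (QuadraticMap.polar_comm _ _ _).trans (hd 0))
    (fun i => by fin_cases i; exact (QuadraticMap.polar_comm _ _ _).trans (hd 1))
    (not_mem_span_singleton ha hd1 fun e => hdo (e ▸ Submodule.subset_span ⟨0, rfl⟩))
    (not_mem_span_singleton ha' hd1 fun e => hdo (e ▸ Submodule.subset_span ⟨1, rfl⟩))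
    (orth_span fun i j => by fin_cases i; fin_cases j; exact polar_self_two _)
    ⟨d, Submodule.subset_span ⟨0, rfl⟩, hd1, hd 0, hd 1⟩
  have h1 : QuadraticMap.polar (⇑Q₈) a' (mat Q₈ g *ᵥ b) = 0 := by
    rw [← hga, polar_mulVec]; exact hab
  have h2 : a' ≠ mat Q₈ g *ᵥ b := fun e => hne (by
    rw [← hga] at e
    have := congrArg (fun z => mat Q₈ g⁻¹ *ᵥ z) e
    simpa [Matrix.mulVec_mulVec, ← mat_mul, mat_one] using this)
  have hb2 : Q₈ (mat Q₈ g *ᵥ b) = 1 := by rw [quad_mulVec]; exact hb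
  obtain ⟨f, hf, hfb, hfa⟩ := exists_move_two nd dim8 ![a'] (by omega) hb2 hb'
    (fun i => by fin_cases i; exact h1) (fun i => by fin_cases i; exact hab')
    (not_mem_span_singleton hb2 ha' h2.symm)
    (not_mem_span_singleton hb' ha' hne'.symm)
    (orth_span fun i j => by fin_cases i; fin_cases j; exact polar_self_two _)
    ⟨a', Submodule.subset_span ⟨0, rfl⟩, ha', (QuadraticMap.polar_comm _ _ _).trans h1,
      (QuadraticMap.polar_comm _ _ _).trans hab'⟩
  refine ⟨⟨f, hf⟩ * ⟨g, hg⟩, ?_, ?_⟩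
  · rw [Subgroup.coe_mul, mat_mul, ← Matrix.mulVec_mulVec, hga]; exact hfa 0
  · rw [Subgroup.coe_mul, mat_mul, ← Matrix.mulVec_mulVec]; exact hfb

/-- Orthogonal triples are conjugate. -/
theorem exists_move_tri {a b c a' b' c' : V} (hab : Orth a b) (hac : Orth a c) (hbc : Orth b c)
    (hab' : Orth a' b') (hac' : Orth a' c') (hbc' : Orth b' c') :
    ∃ g : G, mat Q₈ g.1 *ᵥ a = a' ∧ mat Q₈ g.1 *ᵥ b = b' ∧ mat Q₈ g.1 *ᵥ c = c' := by
  obtain ⟨g, ga, gb⟩ := exists_move_pair hab hab'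
  obtain ⟨d, hd⟩ : ∃ d, mat Q₈ g.1 *ᵥ c = d := ⟨_, rfl⟩
  have hd1 : Q₈ d = 1 := by rw [← hd, quad_mulVec]; exact hac.2.1
  have hinj : ∀ {x : V}, mat Q₈ g.1 *ᵥ x = d → x = c := fun {x} e => by
    have := congrArg (fun z => mat Q₈ g.1⁻¹ *ᵥ z) (e.trans hd.symm)
    simpa [Matrix.mulVec_mulVec, ← mat_mul, mat_one] using this
  have hspan : ∀ x : V, Q₈ x = 1 → x ≠ a' → x ≠ b' →
      x ∉ Submodule.span K (Set.range ![a', b']) := by
    intro x hx xa xb hm
    rw [Matrix.range_cons, Matrix.range_cons, Matrix.range_empty, Set.union_empty,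
      Set.singleton_union, Submodule.mem_span_pair] at hm
    obtain ⟨s, t, rfl⟩ := hm
    rcases (show ∀ r : K, r = 0 ∨ r = 1 by decide) s with rfl | rfl <;>
      rcases (show ∀ r : K, r = 0 ∨ r = 1 by decide) t with rfl | rfl
    · simp at hx
    · exact xb (by simp)
    · exact xa (by simp)
    · rw [one_smul, one_smul, polar_unit_add hab'.1 hab'.2.1, hab'.2.2.1] at hx
      exact zero_ne_one hx
  have e1 : QuadraticMap.polar (⇑Q₈) a' d = 0 := by rw [← ga, ← hd, polar_mulVec]; exact hac.2.2.1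
  have e2 : QuadraticMap.polar (⇑Q₈) b' d = 0 := by rw [← gb, ← hd, polar_mulVec]; exact hbc.2.2.1
  obtain ⟨f, hf, hfc, hfs⟩ := exists_move_two nd dim8 ![a', b'] le_rfl hd1 hac'.2.1
    (fun i => by fin_cases i <;> [exact e1; exact e2])
    (fun i => by fin_cases i <;> [exact hac'.2.2.1; exact hbc'.2.2.1])
    (hspan d hd1 (fun e => hac.2.2.2 (hinj (ga.trans e.symm)))
      (fun e => hbc.2.2.2 (hinj (gb.trans e.symm))))
    (hspan c' hac'.2.1 hac'.2.2.2.symm hbc'.2.2.2.symm)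
    (orth_span fun i j => by
      fin_cases i <;> fin_cases j <;>
        first
          | exact polar_self_two _
          | exact hab'.2.2.1
          | exact (QuadraticMap.polar_comm _ _ _).trans hab'.2.2.1)
    ⟨a', Submodule.subset_span ⟨0, rfl⟩, hab'.1, (QuadraticMap.polar_comm _ _ _).trans e1,
      (QuadraticMap.polar_comm _ _ _).trans hac'.2.2.1⟩
  refine ⟨⟨f, hf⟩ * g, ?_, ?_, ?_⟩ <;> rw [Subgroup.coe_mul, mat_mul, ← Matrix.mulVec_mulVec]
  · rw [ga]; exact hfs 0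
  · rw [gb]; exact hfs 1
  · rw [hd]; exact hfc

/-- The stabiliser element over a transvection. -/
theorem toSp_X {w : Fin 3 ⊕ Fin 3 → K} {μ : K} (hu : Q₈ (hypVec w + μ • uvec 3 K) = 1) :
    ∃ h : X (hypVec w + μ • uvec 3 K) (uvec 3 K) ∈ uStab 3 (1 : K) 1,
      toSp (one_ne_zero : (1 : K) ≠ 0) ⟨_, h⟩ = spTransv w 1 := by
  obtain ⟨a, hdef⟩ : ∃ a : V, hypVec w + μ • uvec 3 K = a := ⟨_, rfl⟩
  rw [hdef] at hu ⊢
  have hz : Q₈ (uvec 3 K) = 1 := quad_uvec
  have hzz : ∀ v : V, QuadraticMap.polar (⇑Q₈) (uvec 3 K) v = v (.inr 1) := fun v => by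
    rw [polar_uvec, one_mul]
  have haz : QuadraticMap.polar (⇑Q₈) a (uvec 3 K) = 0 := by
    rw [QuadraticMap.polar_comm, hzz, ← hdef]
    simp [hypVec, uvec]
  have hfix : X a (uvec 3 K) ∈ uStab 3 (1 : K) 1 := by
    refine (smul_eq_iff _ _ _).2 ?_
    show mat Q₈ (X a (uvec 3 K)).1 *ᵥ uvec 3 K = uvec 3 K
    rw [X_mulVec hu hz haz, polar_self_two, haz, zero_smul, zero_smul, add_zero, add_zero]
  refine ⟨hfix, sp_ext fun x => funext fun i => ?_⟩
  rw [toSp_apply, spTransv_mulVec]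
  obtain ⟨t, ht⟩ := apply_hyp one_ne_zero hfix x
  rw [X_mulVec hu hz haz] at ht
  have h := congrFun ht (.inl i)
  have hb : QuadraticMap.polar (⇑Q₈) a (hypVec x) = Cfsg.sympForm 3 K x w := by
    rw [← hdef, QuadraticMap.polar_add_left, QuadraticMap.polar_smul_left, polar_hypVec, hzz,
      sympForm_swap, CharTwo.neg_eq]
    simp [hypVec]
  rw [hb, hzz] at h
  have ea : a (.inl i) = w i := by rw [← hdef]; simp [hypVec, uvec]
  simp only [Pi.add_apply, Pi.smul_apply, hypVec, Sum.elim_inl, Sum.elim_inr, uvec, Pi.zero_apply,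
    smul_zero, zero_smul, add_zero, smul_eq_mul, mul_zero, zero_mul, ea] at h
  simpa [hypVec, uvec] using h.symm

end CfsgLib.MultOrth.EightTwo
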