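import Cfsg.Agent.MultOrth.PlusSmall

/-!
# The bound for perfect central extensions of `Ω⁺₂ₙ(q)`
-/

set_option autoImplicit false
set_option linter.unusedSectionVars false

namespace CfsgLib.MultOrth

open CfsgLib.ChevClassical CfsgLib.DnPres

variable {F : Type*} [Field F] [Fintype F]

theorem commutator_OG (k : ℕ) : commutator (OG (k + 4) F) = rootSub (fr (k + 4)) F := by
  refine commutator_O (fr (k + 4)) (fun p _ => ?_) (Or.inr ⟨fr_mate_ne, fun p q _ => ?_⟩)
  · obtain ⟨v, rfl⟩ := bi_surj p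
    obtain ⟨m, hm, -, -⟩ := exists_fresh3 v.1 v.1 v.1
    refine ⟨bi (m, false), fr_mate_ne _, ?_, ?_⟩
    · rw [ne_eq, bi_inj]; exact fun e => hm (by rw [← e])
    · rw [mate_bi, ne_eq, bi_inj]; exact fun e => hm (congrArg Prod.fst e)
  · obtain ⟨v, rfl⟩ := bi_surj p
    obtain ⟨w, rfl⟩ := bi_surj q
    obtain ⟨m, hm, hm', -⟩ := exists_fresh3 v.1 w.1 w.1
    refine ⟨bi (m, false), fr_mate_ne _, ?_, ?_, ?_, ?_⟩
    · rw [ne_eq, bi_inj]; exact fun e => hm (congrArg Prod.fst e)
    · rw [mate_bi, ne_eq, bi_inj]; exact fun e => hm (congrArg Prod.fst e)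
    · rw [ne_eq, bi_inj]; exact fun e => hm' (congrArg Prod.fst e)
    · rw [mate_bi, ne_eq, bi_inj]; exact fun e => hm' (congrArg Prod.fst e)

/-- For every finite perfect central extension of the commutator subgroup of `OG`. -/
theorem card_le_commutator_OG (k : ℕ) (h42 : k = 0 → Fintype.card F ≠ 2) {E : Type*} [Group E]
    [Finite E] (π : E →* ↥(commutator (OG (k + 4) F))) (hs : Function.Surjective π)
    (hc : π.ker ≤ Subgroup.center E) (hE : commutator E = ⊤) :
    Nat.card E ≤ 2 * Nat.card ↥(commutator (OG (k + 4) F)) ∧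
      ((2 : F) = 0 → Nat.card E ≤ Nat.card ↥(commutator (OG (k + 4) F))) := by
  let φ : E →* OG (k + 4) F := (commutator (OG (k + 4) F)).subtype.comp π
  have hker : φ.ker ≤ Subgroup.center E := fun x hx => hc (Subtype.ext hx)
  have hr : φ.range = rootSub (fr (k + 4)) F := by
    rw [MonoidHom.range_comp, MonoidHom.range_eq_top.2 hs, ← MonoidHom.range_eq_map,
      Subgroup.range_subtype, commutator_OG]
  obtain ⟨A, -⟩ := exists_plus h42 φ hker hr hE
  have hq := Fintype.one_lt_card (α := F)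
  have ho : A.Orth := by
    rcases (show Fintype.card F = 2 ∨ Fintype.card F = 3 ∨ 4 ≤ Fintype.card F by omega) with h | h | h
    · exact Plus.orth_of_two h (by rcases Nat.eq_zero_or_pos k with hk | hk
                                   · exact absurd h (h42 hk)
                                   · exact hk)
    · exact A.orth_of_three h
    · exact A.orth_of_large h
  have hd : A.Disj := by
    rcases (show Fintype.card F = 2 ∨ Fintype.card F = 3 ∨ 4 ≤ Fintype.card F by omega) with h | h | h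
    · exact fun hk => absurd h (h42 hk)
    · exact A.disj_of_three h
    · exact A.disj_of_large h
  have h := A.card_le ho hd
  obtain ⟨hz, hz'⟩ := A.card_zpowers_z ho
  rw [← commutator_OG] at h
  refine ⟨h.trans (Nat.mul_le_mul_right _ hz), fun h2 => ?_⟩
  rwa [hz' h2, one_mul] at h

/-- The bound for `Ω(quadFormPlus)`. -/
theorem card_le_omega_plus (n : ℕ) (hn : 4 ≤ n) (h42 : n = 4 → Fintype.card F ≠ 2) {E : Type*}
    [Group E] [Finite E] (π : E →* ↥(Cfsg.Omega F (Cfsg.quadFormPlus n F)))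
    (hs : Function.Surjective π) (hc : π.ker ≤ Subgroup.center E) (hE : commutator E = ⊤) :
    Nat.card E ≤ 2 * Nat.card ↥(Cfsg.Omega F (Cfsg.quadFormPlus n F)) ∧
      ((2 : F) = 0 → Nat.card E ≤ Nat.card ↥(Cfsg.Omega F (Cfsg.quadFormPlus n F))) := by
  obtain ⟨k, rfl⟩ : ∃ k, n = k + 4 := ⟨n - 4, by omega⟩
  have h : ∀ Q : (Fin (k + 4) ⊕ Fin (k + 4) → F) → F, (fr (k + 4)).Q F = Q →
      ∀ π : E →* ↥(Cfsg.Omega F Q), Function.Surjective π → π.ker ≤ Subgroup.center E →
        Nat.card E ≤ 2 * Nat.card ↥(Cfsg.Omega F Q) ∧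
          ((2 : F) = 0 → Nat.card E ≤ Nat.card ↥(Cfsg.Omega F Q)) := by
    rintro _ rfl π hs hc
    exact card_le_commutator_OG k (fun h => h42 (by omega)) π hs hc hE
  exact h _ fr_Q π hs hc

end CfsgLib.MultOrth
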