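import Cfsg.Agent.MultOrth.POmega
import Cfsg.Agent.MultOrth.PlusMain
import Cfsg.Agent.Forms.OrthNegOne

/-!
# The multipliers of `PΩ⁺₂ₗ(q)`
-/

set_option autoImplicit false
set_option linter.unusedSectionVars false

namespace CfsgLib.MultOrth

open Matrix CfsgLib.Spinor CfsgLib.Forms4 CfsgLib.StdForms CfsgLib.Forms

universe u

variable {F : Type u} [Field F] [Fintype F]

theorem odd2_plus (h2 : (2 : F) ≠ 0) (l : ℕ) (hl : 4 ≤ l) : Odd2 (plusQ l F) where
  two := h2
  nondeg := plusQ_nondegenerate l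
  dim := by simp; omega
  pairs := ⟨plusPairs l (by omega)⟩
  three := by
    refine ⟨Pi.single (.inl ⟨0, by omega⟩) 1 + Pi.single (.inr ⟨0, by omega⟩) 1,
      Pi.single (.inl ⟨1, by omega⟩) 1 + Pi.single (.inr ⟨1, by omega⟩) 1,
      Pi.single (.inl ⟨2, by omega⟩) 1 + Pi.single (.inr ⟨2, by omega⟩) 1, ?_, ?_, ?_, ?_, ?_, ?_⟩ <;>
      simp [plusQ_apply, Cfsg.quadFormPlus, polar_plus, Pi.single_apply]
  bound := fun E _ _ π hs hc hE => by
    have key : ∀ Q : (Fin l ⊕ Fin l → F) → F, Q = Cfsg.quadFormPlus l F →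
        ∀ π : E →* ↥(Cfsg.Omega F Q), Function.Surjective π → π.ker ≤ Subgroup.center E →
          Nat.card E ≤ 2 * Nat.card ↥(Cfsg.Omega F Q) := by
      rintro _ rfl π hs hc
      refine (card_le_omega_plus l hl (fun _ h => h2 ?_) π hs hc hE).1
      have h0 : ((2 : ℕ) : F) = 0 := by rw [← h, Nat.cast_card_eq_zero]
      exact_mod_cast h0
    exact key _ (coe_plusQ l) π hs hc

theorem choose_two_double (l : ℕ) : Odd ((2 * l).choose 2) ↔ Odd l := by
  have h : (2 * l).choose 2 = l * (2 * l - 1) := by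
    rw [Nat.choose_two_right, show 2 * l * (2 * l - 1) = 2 * (l * (2 * l - 1)) by ring,
      Nat.mul_div_cancel_left _ two_pos]
  rw [h, Nat.odd_mul]
  refine ⟨fun h => h.1, fun h => ⟨h, ?_⟩⟩
  obtain ⟨j, rfl⟩ := h
  exact ⟨2 * j, by omega⟩

theorem card_sum_fin (l : ℕ) : Fintype.card (Fin l ⊕ Fin l) = 2 * l := by simp; ring

/-- Even characteristic: the multiplier is trivial. -/
theorem plus_trivial (h2 : (2 : F) = 0) (l : ℕ) (hl : 4 ≤ l) (h42 : l = 4 → Fintype.card F ≠ 2)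
    {A : Type*} [CommGroup A] [Subsingleton A] :
    Cfsg.HasSchurMultiplier (Cfsg.POmega F (Cfsg.quadFormPlus l F)) A := by
  refine hasSchurMultiplier_trivial ?_ (fun E _ _ π hs hc hE =>
    (card_le_omega_plus l hl h42 π hs hc hE).2 h2) ?_
  · rw [← coe_plusQ]
    exact TwoPairs.commutator_omega (plusQ_nondegenerate l) (by simp; omega) (plusPairs l (by omega))
  · rw [← coe_plusQ]
    exact card_center_omega_one (plusQ_nondegenerate l) (by simp; omega) (plusPairs l (by omega))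
      fun _ _ _ => h2

theorem hasCyclic_plus_odd_rank {q : ℕ} (hF : Fintype.card F = q) (l : ℕ) (hl : 5 ≤ l)
    (hodd : Odd l) :
    Cfsg.HasCyclicSchurMultiplier (Cfsg.POmega F (Cfsg.quadFormPlus l F))
      (Nat.gcd 4 (q ^ l - 1)) := by
  have hq := Fintype.one_lt_card (α := F)
  by_cases h2 : (2 : F) = 0
  · have he := (two_eq_zero_iff_even hF).1 h2
    have hodd' : Odd (q ^ l - 1) :=
      Nat.Even.sub_odd (Nat.one_le_pow _ _ (by omega)) (Nat.even_pow.2 ⟨he, by omega⟩) odd_one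
    have hg : Nat.gcd 4 (q ^ l - 1) = 1 := by
      have := (Nat.coprime_two_left.2 hodd').pow_left 2
      simpa using this
    rw [hg]
    haveI : Subsingleton (Multiplicative (ZMod 1)) := inferInstanceAs (Subsingleton (ZMod 1))
    exact plus_trivial h2 l (by omega) (by omega)
  · have ho : Odd q := Nat.not_even_iff_odd.1 fun h => h2 ((two_eq_zero_iff_even hF).2 h)
    have H := odd2_plus h2 l (by omega)
    obtain ⟨h1, h3⟩ := gcd_four_of_mod (k := q ^ l) ho.pow
    have hm : q ^ l % 2 = 1 := Nat.odd_iff.1 ho.pow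
    have hiff := neg_one_mem_omega_plus hF ho l
    rw [← coe_plusQ]
    by_cases h : q ^ l % 4 = 1
    · obtain ⟨g, hg, hgv⟩ := hiff.2 h
      rw [(h1 h).1]
      exact H.mult_four hg hgv (by rw [card_sum_fin]; exact (choose_two_double l).2 hodd)
    · rw [(h3 (by omega)).1]
      exact H.mult_two (fun hx => h (hiff.1 hx))

theorem hasMult_plus_even_rank {q : ℕ} (hF : Fintype.card F = q) (l : ℕ) (hl : 4 ≤ l)
    (heven : Even l) (hexc : ¬ (l = 4 ∧ q = 2)) :
    Cfsg.HasSchurMultiplier (Cfsg.POmega F (Cfsg.quadFormPlus l F))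
      (Multiplicative (ZMod (Nat.gcd 2 (q ^ l - 1)) × ZMod (Nat.gcd 2 (q ^ l - 1)))) := by
  have hq := Fintype.one_lt_card (α := F)
  by_cases h2 : (2 : F) = 0
  · have he := (two_eq_zero_iff_even hF).1 h2
    have hodd' : Odd (q ^ l - 1) :=
      Nat.Even.sub_odd (Nat.one_le_pow _ _ (by omega)) (Nat.even_pow.2 ⟨he, by omega⟩) odd_one
    rw [show Nat.gcd 2 (q ^ l - 1) = 1 from Nat.coprime_two_left.2 hodd']
    haveI : Subsingleton (Multiplicative (ZMod 1 × ZMod 1)) :=
      inferInstanceAs (Subsingleton (ZMod 1 × ZMod 1))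
    exact plus_trivial h2 l hl (fun h hc => hexc ⟨h, by omega⟩)
  · have ho : Odd q := Nat.not_even_iff_odd.1 fun h => h2 ((two_eq_zero_iff_even hF).2 h)
    have H := odd2_plus h2 l hl
    obtain ⟨j, rfl⟩ := heven
    have h4 : q ^ (j + j) % 4 = 1 := by
      rw [← two_mul, pow_mul, Nat.pow_mod]
      have : q ^ 2 % 4 = 1 := by
        obtain ⟨i, rfl⟩ := ho
        rw [show (2 * i + 1) ^ 2 = 4 * (i * i + i) + 1 by ring]; omega
      simp [this]
    obtain ⟨g, hg, hgv⟩ := (neg_one_mem_omega_plus hF ho (j + j)).2 h4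
    have hg2 : Nat.gcd 2 (q ^ (j + j) - 1) = 2 := Nat.gcd_eq_left (by omega)
    rw [hg2, ← coe_plusQ]
    refine H.mult_klein hg hgv ?_
    rw [card_sum_fin, ← Nat.not_odd_iff_even, choose_two_double, Nat.not_odd_iff_even]
    exact ⟨j, rfl⟩

end CfsgLib.MultOrth
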