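import Cfsg.Agent.Forms4.SymplecticSimple

/-!
# The stabiliser of a nonzero vector in the symplectic group is perfect
-/

set_option autoImplicit false
set_option linter.unusedSectionVars false
set_option linter.unusedSimpArgs false

namespace CfsgLib.MultOrth

open Matrix CfsgLib.Forms CfsgLib.Forms4

variable {F : Type*} [Field F] {m : ℕ}

local notation "V" => Fin m ⊕ Fin m → F
local notation "Sp" => Matrix.symplecticGroup (Fin m) F

/-- The pointwise stabiliser of a vector in `Sp`. -/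
def spStab (e : Fin m ⊕ Fin m → F) : Subgroup (Matrix.symplecticGroup (Fin m) F) where
  carrier := {A | A.1 *ᵥ e = e}
  one_mem' := by simp
  mul_mem' := fun {A A'} hA hA' => by
    show (A * A').1 *ᵥ e = e
    rw [Submonoid.coe_mul, ← Matrix.mulVec_mulVec, hA', hA]
  inv_mem' := fun {A} hA => by
    show (A⁻¹).1 *ᵥ e = e
    conv_lhs => rw [← show A.1 *ᵥ e = e from hA]
    rw [Matrix.mulVec_mulVec, ← Submonoid.coe_mul, inv_mul_cancel, Submonoid.coe_one,
      Matrix.one_mulVec]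

theorem transv_mem_spStab {e w : Fin m ⊕ Fin m → F} (h : Cfsg.sympForm m F e w = 0) (c : F) :
    spTransv w c ∈ spStab e := by
  show (spTransv w c).1 *ᵥ e = e
  rw [spTransv_mulVec, h]
  simp

/-- Elements fixing a hyperbolic pair are products of transvections with centres orthogonal to its
first vector. -/
theorem mem_transvGroup_of_fix (j₀ : Fin m) (hj₀ : (j₀ : ℕ) = 0) (g : Sp)
    (h1 : g.1 *ᵥ Pi.single (Sum.inl j₀) 1 = Pi.single (Sum.inl j₀) 1)
    (h2 : g.1 *ᵥ Pi.single (Sum.inr j₀) 1 = Pi.single (Sum.inr j₀) 1) :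
    g ∈ transvGroup {w : V | w (Sum.inr j₀) = 0} := by
  suffices h : ∀ (d k : ℕ), k + d = m → 1 ≤ k → ∀ g : Sp,
      (∀ i : Fin m, (i : ℕ) < k →
        g.1 *ᵥ Pi.single (Sum.inl i) 1 = Pi.single (Sum.inl i) 1 ∧
        g.1 *ᵥ Pi.single (Sum.inr i) 1 = Pi.single (Sum.inr i) 1) →
      g ∈ transvGroup {w : V | w (Sum.inr j₀) = 0} by
    refine h (m - 1) 1 (by have := j₀.2; omega) le_rfl g fun i hi => ?_
    obtain rfl : i = j₀ := Fin.ext (by omega)
    exact ⟨h1, h2⟩
  intro d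
  induction d with
  | zero =>
    intro k hk _ g hg
    have h1 : g = 1 := by
      apply Subtype.ext
      ext a b
      have hb : g.1 *ᵥ Pi.single b 1 = Pi.single b 1 := by
        rcases b with i | i
        · exact (hg i (by have := i.2; omega)).1
        · exact (hg i (by have := i.2; omega)).2
      have := congrFun hb a
      simpa [Matrix.mulVec_single_one, Matrix.one_apply, Pi.single_apply] using this
    rw [h1]; exact one_mem _
  | succ d ih =>
    intro k hk hk1 g hg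
    obtain ⟨j, hj⟩ : ∃ j : Fin m, (j : ℕ) = k := ⟨⟨k, by omega⟩, rfl⟩
    let W : Submodule F V :=
      { carrier := {v | ∀ i : Fin m, (i : ℕ) < k → v (Sum.inl i) = 0 ∧ v (Sum.inr i) = 0}
        add_mem' := fun ha hb i hi => by simp [ha i hi, hb i hi]
        zero_mem' := fun i _ => by simp
        smul_mem' := fun c v hv i hi => by simp [hv i hi] }
    have hW : ∀ u ∈ W, u ≠ 0 → ∃ z ∈ W, Cfsg.sympForm m F u z ≠ 0 := by
      intro u hu hu0
      obtain ⟨b, hb⟩ : ∃ b, u b ≠ 0 := by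
        by_contra hall
        exact hu0 (funext fun b => not_not.1 fun hb => hall ⟨b, hb⟩)
      rcases b with i | i
      · have hik : ¬ (i : ℕ) < k := fun h => hb (hu i h).1
        refine ⟨Pi.single (Sum.inr i) 1, fun l hl => ?_, ?_⟩
        · have : l ≠ i := fun h => hik (h ▸ hl)
          simp [this]
        · rw [sympForm_single_inr]; exact neg_ne_zero.2 hb
      · have hik : ¬ (i : ℕ) < k := fun h => hb (hu i h).2
        refine ⟨Pi.single (Sum.inl i) 1, fun l hl => ?_, ?_⟩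
        · have : l ≠ i := fun h => hik (h ▸ hl)
          simp [this]
        · rw [sympForm_single_inl]; exact hb
    have hmem : ∀ x ∈ ({Pi.single (Sum.inr j) 1, Pi.single (Sum.inl j) 1} : Set V),
        x ∈ W ∧ g.1 *ᵥ x ∈ W := by
      intro x hx
      have hxW : x ∈ W := by
        intro i hi
        have : i ≠ j := fun h => by rw [h, hj] at hi; exact lt_irrefl k hi
        rcases hx with rfl | rfl <;> simp [this]
      refine ⟨hxW, fun i hi => ?_⟩
      have e1 := sympForm_map g x (Pi.single (Sum.inr i) 1)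
      have e2 := sympForm_map g x (Pi.single (Sum.inl i) 1)
      rw [(hg i hi).2, sympForm_single_inr, sympForm_single_inr, (hxW i hi).1] at e1
      rw [(hg i hi).1, sympForm_single_inl, sympForm_single_inl, (hxW i hi).2] at e2
      exact ⟨by simpa using e1, e2⟩
    have hpair : Cfsg.sympForm m F (Pi.single (Sum.inr j) 1) (Pi.single (Sum.inl j) 1) = 1 := by
      rw [sympForm_single_inl]; simp
    obtain ⟨A, hA, hA1, hA2⟩ := exists_mem_transvGroup_pair W hW (hmem _ (Or.inl rfl)).2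
      (hmem _ (Or.inr rfl)).2 (hmem _ (Or.inl rfl)).1 (hmem _ (Or.inr rfl)).1
      (by rw [sympForm_map, hpair]) hpair
    have hA' : A ∈ transvGroup {w : V | w (Sum.inr j₀) = 0} :=
      Subgroup.closure_mono (by
        rintro _ ⟨w, hw, c, rfl⟩
        exact ⟨w, (hw j₀ (by omega)).2, c, rfl⟩) hA
    have hAg : A * g ∈ transvGroup {w : V | w (Sum.inr j₀) = 0} := by
      apply ih (k + 1) (by omega) (by omega)
      intro i hi
      rcases Nat.lt_succ_iff_lt_or_eq.1 hi with h | h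
      · have hfix : ∀ x, g.1 *ᵥ x = x → (∀ w ∈ W, Cfsg.sympForm m F x w = 0) →
            (A * g).1 *ᵥ x = x := by
          intro x hx hxW
          rw [Submonoid.coe_mul, ← Matrix.mulVec_mulVec, hx, transvGroup_fix hA hxW]
        refine ⟨hfix _ (hg i h).1 fun w hw => ?_, hfix _ (hg i h).2 fun w hw => ?_⟩
        · rw [sympForm_swap, sympForm_single_inl, (hw i h).2, neg_zero]
        · rw [sympForm_swap, sympForm_single_inr, (hw i h).1]; simp
      · obtain rfl : i = j := Fin.ext (h.trans hj.symm)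
        refine ⟨?_, ?_⟩ <;> rw [Submonoid.coe_mul, ← Matrix.mulVec_mulVec]
        · exact hA2
        · exact hA1
    simpa using mul_mem (inv_mem hA') hAg

/-- The stabiliser of the first basis vector is generated by its transvections. -/
theorem spStab_le_transvGroup (j₀ : Fin m) (hj₀ : (j₀ : ℕ) = 0) :
    spStab (Pi.single (Sum.inl j₀) (1 : F)) ≤ transvGroup {w : V | w (Sum.inr j₀) = 0} := by
  intro A hA
  set e : V := Pi.single (Sum.inl j₀) 1 with he
  set f : V := Pi.single (Sum.inr j₀) 1 with hf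
  set P : Set V := {w | w (Sum.inr j₀) = 0} with hP
  have hAe : A.1 *ᵥ e = e := hA
  have heP : ∀ w, w ∈ P ↔ Cfsg.sympForm m F w e = 0 := fun w => by
    rw [he, sympForm_single_inl]; rfl
  have hfe : Cfsg.sympForm m F f e = 1 := by rw [hf, he, sympForm_single_inl]; simp
  have hf'e : Cfsg.sympForm m F (A.1 *ᵥ f) e = 1 := by
    nth_rewrite 1 [← hAe]
    rw [sympForm_map, hfe]
  have hstep : ∀ a b : V, Cfsg.sympForm m F a e = 1 → Cfsg.sympForm m F b e = 1 →
      Cfsg.sympForm m F a b ≠ 0 → ∃ T ∈ transvGroup P, T.1 *ᵥ a = b ∧ T.1 *ᵥ e = e := by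
    intro a b ha hb hab
    have hw : Cfsg.sympForm m F (b - a) e = 0 := by
      rw [← sympBilin_apply, map_sub, LinearMap.sub_apply, sympBilin_apply, sympBilin_apply, ha, hb,
        sub_self]
    refine ⟨_, mem_transvGroup ((heP _).2 hw) (Cfsg.sympForm m F a b)⁻¹,
      spTransv_sub_mulVec hab, ?_⟩
    rw [spTransv_mulVec, sympForm_swap (b - a) e, hw]
    simp
  obtain ⟨T, hT, hTf, hTe⟩ : ∃ T ∈ transvGroup P, T.1 *ᵥ f = A.1 *ᵥ f ∧ T.1 *ᵥ e = e := by
    by_cases hc : Cfsg.sympForm m F f (A.1 *ᵥ f) = 0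
    · have hmid : Cfsg.sympForm m F (f + e) e = 1 := by
        rw [sympForm_add_left, hfe, sympForm_self, add_zero]
      obtain ⟨T₁, hT₁, h11, h12⟩ := hstep f (f + e) hfe hmid (by
        rw [sympForm_add_right, sympForm_self, hfe, zero_add]; exact one_ne_zero)
      obtain ⟨T₂, hT₂, h21, h22⟩ := hstep (f + e) (A.1 *ᵥ f) hmid hf'e (by
        rw [sympForm_add_left, hc, zero_add, sympForm_swap, hf'e]
        exact neg_ne_zero.2 one_ne_zero)
      exact ⟨T₂ * T₁, mul_mem hT₂ hT₁,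
        by rw [Submonoid.coe_mul, ← Matrix.mulVec_mulVec, h11, h21],
        by rw [Submonoid.coe_mul, ← Matrix.mulVec_mulVec, h12, h22]⟩
    · exact hstep f (A.1 *ᵥ f) hfe hf'e hc
  have hrest : T⁻¹ * A ∈ transvGroup P := by
    have hTinv : ∀ x, T⁻¹.1 *ᵥ (T.1 *ᵥ x) = x := fun x => by
      rw [Matrix.mulVec_mulVec, ← Submonoid.coe_mul, inv_mul_cancel, Submonoid.coe_one,
        Matrix.one_mulVec]
    refine mem_transvGroup_of_fix j₀ hj₀ _ ?_ ?_
    · rw [Submonoid.coe_mul, ← Matrix.mulVec_mulVec, hAe]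
      conv_lhs => rw [← hTe]
      exact hTinv e
    · rw [Submonoid.coe_mul, ← Matrix.mulVec_mulVec, ← hTf]
      exact hTinv f
  simpa using mul_mem hT hrest

/-- The stabiliser of the first basis vector is perfect. -/
theorem perfect_spStab₀ (hm : 3 ≤ m) (ht : 4 ≤ m ∨ ∃ t : F, t ≠ 0 ∧ t ^ 2 ≠ 1) :
    commutator ↥(spStab (m := m) (Pi.single (Sum.inl ⟨0, by omega⟩) (1 : F))) = ⊤ := by
  classical
  set j₀ : Fin m := ⟨0, by omega⟩ with hj
  set e : V := Pi.single (Sum.inl j₀) 1 with he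
  set S := spStab e with hS
  have hort : ∀ w, Cfsg.sympForm m F w e = 0 ↔ w (Sum.inr j₀) = 0 := fun w => by
    rw [he, sympForm_single_inl]
  have hmemS : ∀ (w : V) (c : F), w (Sum.inr j₀) = 0 → spTransv w c ∈ S := fun w c hw =>
    transv_mem_spStab (by rw [sympForm_swap, (hort w).2 hw, neg_zero]) c
  let τ : ∀ (w : V), w (Sum.inr j₀) = 0 → F → Abelianization S := fun w hw c =>
    Abelianization.of (⟨spTransv w c, hmemS w c hw⟩ : S)
  have hadd : ∀ w hw a b, τ w hw (a + b) = τ w hw a * τ w hw b := fun w hw a b => by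
    simp only [τ, ← map_mul]
    exact congrArg _ (Subtype.ext
      ((transvHom w).map_mul (Multiplicative.ofAdd a) (Multiplicative.ofAdd b)))
  have hconj : ∀ (A : Sp) (hA : A ∈ S) w hw hw' c,
      τ w hw c = τ (A.1 *ᵥ w) hw' c := by
    intro A hA w hw hw' c
    have h : (⟨spTransv (A.1 *ᵥ w) c, hmemS _ c hw'⟩ : S) =
        ⟨A, hA⟩ * ⟨spTransv w c, hmemS w c hw⟩ * (⟨A, hA⟩ : S)⁻¹ :=
      Subtype.ext (conj_spTransv A w c).symm
    simp only [τ, h, map_mul, map_inv]
    rw [mul_inv_cancel_comm]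
  -- transitivity on the vectors of `e⊥` outside `F e`
  let Out : V → Prop := fun w => w (Sum.inr j₀) = 0 ∧ ∃ i, i ≠ Sum.inl j₀ ∧ w i ≠ 0
  have hout : ∀ u w, Out u → Out w → ∃ A ∈ S, A.1 *ᵥ u = w := by
    intro u w hu hw
    have step : ∀ a b : V, a (Sum.inr j₀) = 0 → b (Sum.inr j₀) = 0 →
        Cfsg.sympForm m F a b ≠ 0 → ∃ A ∈ S, A.1 *ᵥ a = b := fun a b ha hb hab =>
      ⟨_, hmemS _ _ (by simp [ha, hb]), spTransv_sub_mulVec hab⟩
    have hex : ∀ x, Out x → ∃ z : V, z (Sum.inr j₀) = 0 ∧ Cfsg.sympForm m F x z ≠ 0 := by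
      rintro x ⟨hx0, i, hi, hxi⟩
      rcases i with i | i
      · have hne : i ≠ j₀ := fun h => hi (by rw [h])
        refine ⟨Pi.single (Sum.inr i) 1, by simp [hne.symm], ?_⟩
        rw [sympForm_single_inr]; exact neg_ne_zero.2 hxi
      · refine ⟨Pi.single (Sum.inl i) 1, by simp, ?_⟩
        rw [sympForm_single_inl]; exact hxi
    obtain ⟨z₁, hz₁, h₁⟩ := hex u hu
    obtain ⟨z₂, hz₂, h₂⟩ := hex w hw
    obtain ⟨z, hz, hz1, hz2⟩ : ∃ z : V, z (Sum.inr j₀) = 0 ∧ Cfsg.sympForm m F u z ≠ 0 ∧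
        Cfsg.sympForm m F w z ≠ 0 := by
      by_cases c₁ : Cfsg.sympForm m F w z₁ = 0
      · by_cases c₂ : Cfsg.sympForm m F u z₂ = 0
        · refine ⟨z₁ + z₂, by simp [hz₁, hz₂], ?_, ?_⟩
          · rw [sympForm_add_right, c₂, add_zero]; exact h₁
          · rw [sympForm_add_right, c₁, zero_add]; exact h₂
        · exact ⟨z₂, hz₂, c₂, h₂⟩
      · exact ⟨z₁, hz₁, h₁, c₁⟩
    obtain ⟨A, hA, hAu⟩ := step u z hu.1 hz hz1
    obtain ⟨A', hA', hAz⟩ := step z w hz hw.1 (by
      rw [sympForm_swap]; exact neg_ne_zero.2 hz2)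
    exact ⟨A' * A, mul_mem hA' hA, by rw [Submonoid.coe_mul, ← Matrix.mulVec_mulVec, hAu, hAz]⟩
  have hclass : ∀ u w (hu : Out u) (hw : Out w) c, τ u hu.1 c = τ w hw.1 c := by
    intro u w hu hw c
    obtain ⟨A, hA, rfl⟩ := hout u w hu hw
    exact hconj A hA u hu.1 hw.1 c
  -- three pairwise orthogonal vectors
  have hrel : ∀ (u v z : V) (hu : u (Sum.inr j₀) = 0) (hv : v (Sum.inr j₀) = 0)
      (hz : z (Sum.inr j₀) = 0), Cfsg.sympForm m F u v = 0 → Cfsg.sympForm m F u z = 0 →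
      Cfsg.sympForm m F v z = 0 → ∀ c,
      τ (u + v + z) (by simp [hu, hv, hz]) c * τ u hu c * τ v hv c * τ z hz c =
        τ (u + v) (by simp [hu, hv]) c * τ (u + z) (by simp [hu, hz]) c *
          τ (v + z) (by simp [hv, hz]) c := by
    intro u v z hu hv hz huv huz hvz c
    simp only [τ, ← map_mul]
    exact congrArg _ (Subtype.ext (transv_relation_three huv huz hvz c))
  set u₁ : V := Pi.single (Sum.inl ⟨1, by omega⟩) 1 with hu₁
  set u₂ : V := Pi.single (Sum.inl ⟨2, by omega⟩) 1 with hu₂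
  have hj1 : (⟨1, by omega⟩ : Fin m) ≠ j₀ := by simp [hj, Fin.ext_iff]
  have hj2 : (⟨2, by omega⟩ : Fin m) ≠ j₀ := by simp [hj, Fin.ext_iff]
  have hOut : ∀ (w : V) (i : Fin m), i ≠ j₀ → w (Sum.inr j₀) = 0 → w (Sum.inl i) ≠ 0 → Out w :=
    fun w i hi h0 hwi => ⟨h0, Sum.inl i, fun h => hi (Sum.inl_injective h), hwi⟩
  have hO1 : Out u₁ := hOut _ ⟨1, by omega⟩ hj1 (by simp [hu₁]) (by simp [hu₁])
  have hO2 : Out u₂ := hOut _ ⟨2, by omega⟩ hj2 (by simp [hu₂]) (by simp [hu₂])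
  have hphi : ∀ c, τ u₁ hO1.1 c = 1 := by
    intro c
    rcases ht with hm4 | ⟨t, ht0, ht⟩
    · set u₃ : V := Pi.single (Sum.inl ⟨3, by omega⟩) 1 with hu₃
      have hj3 : (⟨3, by omega⟩ : Fin m) ≠ j₀ := by simp [hj, Fin.ext_iff]
      have hO3 : Out u₃ := hOut _ ⟨3, by omega⟩ hj3 (by simp [hu₃]) (by simp [hu₃])
      have h12 : Out (u₁ + u₂) := hOut _ ⟨1, by omega⟩ hj1 (by simp [hu₁, hu₂])
        (by simp [hu₁, hu₂])
      have h13 : Out (u₁ + u₃) := hOut _ ⟨1, by omega⟩ hj1 (by simp [hu₁, hu₃])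
        (by simp [hu₁, hu₃])
      have h23 : Out (u₂ + u₃) := hOut _ ⟨2, by omega⟩ hj2 (by simp [hu₂, hu₃])
        (by simp [hu₂, hu₃])
      have h123 : Out (u₁ + u₂ + u₃) := hOut _ ⟨1, by omega⟩ hj1 (by simp [hu₁, hu₂, hu₃])
        (by simp [hu₁, hu₂, hu₃])
      have h := hrel u₁ u₂ u₃ hO1.1 hO2.1 hO3.1 (by simp [hu₁, hu₂, sympForm_single_inl])
        (by simp [hu₁, hu₃, sympForm_single_inl]) (by simp [hu₂, hu₃, sympForm_single_inl]) c
      rw [hclass _ _ h123 hO1, hclass _ _ hO2 hO1, hclass _ _ hO3 hO1, hclass _ _ h12 hO1,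
        hclass _ _ h13 hO1, hclass _ _ h23 hO1] at h
      exact mul_eq_left.1 h
    · have hOt : Out (t • u₁) := hOut _ ⟨1, by omega⟩ hj1 (by simp [hu₁]) (by simp [hu₁, ht0])
      have key : ∀ d, τ u₁ hO1.1 (t ^ 2 * d) = τ u₁ hO1.1 d := fun d => by
        rw [← hclass _ _ hOt hO1 d]
        simp only [τ, spTransv_smul]
      have := key (c / (t ^ 2 - 1))
      have hc : t ^ 2 * (c / (t ^ 2 - 1)) = c / (t ^ 2 - 1) + c := by
        field_simp [sub_ne_zero.2 ht]
        ring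
      rw [hc, hadd u₁ hO1.1] at this
      exact mul_eq_left.1 this
  have hesingle : e (Sum.inr j₀) = 0 := by simp [he]
  have hOe : ∀ c, τ e hesingle c = 1 := by
    intro c
    have h12 : Out (u₁ + u₂) := hOut _ ⟨1, by omega⟩ hj1 (by simp [hu₁, hu₂]) (by simp [hu₁, hu₂])
    have h1e : Out (u₁ + e) := hOut _ ⟨1, by omega⟩ hj1 (by simp [hu₁, he])
      (by simp [hu₁, he, hj1])
    have h2e : Out (u₂ + e) := hOut _ ⟨2, by omega⟩ hj2 (by simp [hu₂, he])
      (by simp [hu₂, he, hj2])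
    have h12e : Out (u₁ + u₂ + e) := hOut _ ⟨1, by omega⟩ hj1 (by simp [hu₁, hu₂, he])
      (by simp [hu₁, hu₂, he, hj1])
    have h := hrel u₁ u₂ e hO1.1 hO2.1 hesingle (by simp [hu₁, hu₂, sympForm_single_inl])
      (by simp [hu₁, he, sympForm_single_inl]) (by simp [hu₂, he, sympForm_single_inl]) c
    rw [hclass _ _ h12e hO1, hclass _ _ hO2 hO1, hclass _ _ h12 hO1, hclass _ _ h1e hO1,
      hclass _ _ h2e hO1] at h
    simpa [hphi] using h
  have hall : ∀ (w : V) (hw : w (Sum.inr j₀) = 0) c, τ w hw c = 1 := by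
    intro w hw c
    by_cases hO : ∃ i, i ≠ Sum.inl j₀ ∧ w i ≠ 0
    · rw [hclass w u₁ ⟨hw, hO⟩ hO1, hphi]
    · push Not at hO
      have hwe : w = w (Sum.inl j₀) • e := funext fun i => by
        by_cases hi : i = Sum.inl j₀
        · subst hi; simp [he]
        · simp [he, hO i hi, hi]
      have : τ w hw c = τ e hesingle (w (Sum.inl j₀) ^ 2 * c) := by
        simp only [τ]
        congr 1
        apply Subtype.ext
        show spTransv w c = spTransv e _
        conv_lhs => rw [hwe]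
        rw [spTransv_smul]
      rw [this, hOe]
  rw [eq_top_iff]
  rintro ⟨A, hA⟩ -
  rw [← Abelianization.ker_of, MonoidHom.mem_ker]
  have hmem := spStab_le_transvGroup j₀ rfl hA
  unfold transvGroup at hmem
  have key : ∃ hA' : A ∈ S, Abelianization.of (⟨A, hA'⟩ : S) = 1 := by
    clear hA
    induction hmem using Subgroup.closure_induction with
    | mem T hT =>
      obtain ⟨w, hw, c, rfl⟩ := hT
      exact ⟨hmemS w c hw, hall w hw c⟩
    | one => exact ⟨one_mem S, map_one _⟩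
    | mul A A' _ _ h h' =>
      obtain ⟨a, ea⟩ := h
      obtain ⟨a', ea'⟩ := h' 
      exact ⟨mul_mem a a', by
        rw [show (⟨A * A', mul_mem a a'⟩ : S) = ⟨A, a⟩ * ⟨A', a'⟩ from rfl, map_mul, ea, ea', one_mul]⟩
    | inv A _ h =>
      obtain ⟨a, ea⟩ := h
      exact ⟨inv_mem a, by
        rw [show (⟨A⁻¹, inv_mem a⟩ : S) = (⟨A, a⟩ : S)⁻¹ from rfl, map_inv, ea, inv_one]⟩
  obtain ⟨_, h⟩ := key
  exact h

/-- The stabiliser of every nonzero vector is perfect. -/
theorem perfect_spStab (hm : 3 ≤ m) (ht : 4 ≤ m ∨ ∃ t : F, t ≠ 0 ∧ t ^ 2 ≠ 1)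
    {e : V} (he : e ≠ 0) : ⁅spStab e, spStab e⁆ = spStab e := by
  set e₀ : V := Pi.single (Sum.inl ⟨0, by omega⟩) 1 with he₀
  have h0 : ⁅spStab e₀, spStab e₀⁆ = spStab e₀ := by
    have := congrArg (Subgroup.map (spStab e₀).subtype) (perfect_spStab₀ (F := F) hm ht)
    rwa [Subgroup.map_subtype_commutator, ← MonoidHom.range_eq_map, Subgroup.range_subtype] at this
  obtain ⟨A, hA⟩ := exists_mulVec_eq (F := F) (v := e₀) (w := e)
    (fun h => by have := congrFun h (Sum.inl ⟨0, by omega⟩); simp [he₀] at this) he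
  have hmap : (spStab e₀).map (MulAut.conj A).toMonoidHom = spStab e := by
    ext g
    constructor
    · rintro ⟨g', hg', rfl⟩
      show (A * g' * A⁻¹).1 *ᵥ e = e
      rw [← hA, Matrix.mulVec_mulVec, ← Submonoid.coe_mul, inv_mul_cancel_right, Submonoid.coe_mul,
        ← Matrix.mulVec_mulVec, show g'.1 *ᵥ e₀ = e₀ from hg']
    · intro hg
      refine ⟨A⁻¹ * g * A, ?_, by simp [mul_assoc]⟩
      show (A⁻¹ * g * A).1 *ᵥ e₀ = e₀
      rw [Submonoid.coe_mul, ← Matrix.mulVec_mulVec, hA, Submonoid.coe_mul, ← Matrix.mulVec_mulVec,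
        show g.1 *ᵥ e = e from hg, ← hA, Matrix.mulVec_mulVec, ← Submonoid.coe_mul, inv_mul_cancel,
        Submonoid.coe_one, Matrix.one_mulVec]
  rw [← hmap, ← Subgroup.map_commutator, h0]

end CfsgLib.MultOrth
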