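import Cfsg.Agent.MultOrth.CharTwo
import Cfsg.Agent.MultOrth.SpStab
import Cfsg.Agent.MultOrth.PlusFinal
import Cfsg.Agent.MultPSp.Central

/-!
# Perfect central extensions of `Ω⁻₂ₗ(q)`, `q` even, are trivial

The stabiliser of a unit vector is `Sp₂ₗ₋₂(q)`, which is centrally closed.
-/

set_option autoImplicit false
set_option linter.unusedSectionVars false
set_option linter.unusedSimpArgs false

namespace CfsgLib.MultOrth

open Matrix Module CfsgLib.Spinor CfsgLib.Forms CfsgLib.Forms4 CfsgLib.StdForms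
open CfsgLib.AutPOmega (perp perp_perp)

universe u

variable {F : Type u} [Field F] [Fintype F] [CharP F 2] {k : ℕ} {a b : F}

/-- The index type of the minus form. -/
local notation "I⁻" => ((Fin k ⊕ Fin k) ⊕ Fin 2)

set_option quotPrecheck false in
/-- The minus form. -/
local notation "𝔔" => minusQ k F a b

/-- The distinguished unit vector. -/
def uvec (k : ℕ) (F : Type*) [Field F] : (Fin k ⊕ Fin k) ⊕ Fin 2 → F := Sum.elim 0 ![1, 0]

theorem quad_uvec : minusQ k F a b (uvec k F) = 1 := by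
  simp [minusQ_apply, Cfsg.quadFormMinus, uvec]

theorem polar_uvec (v : I⁻ → F) :
    QuadraticMap.polar (⇑(minusQ k F a b)) (uvec k F) v = a * v (.inr 1) := by
  simp [polar_minus, uvec, CharTwo.two_eq_zero]

/-- The embedding of the hyperbolic coordinates. -/
def hypVec (x : Fin k ⊕ Fin k → F) : (Fin k ⊕ Fin k) ⊕ Fin 2 → F := Sum.elim x 0

theorem polar_hypVec (x y : Fin k ⊕ Fin k → F) :
    QuadraticMap.polar (⇑(minusQ k F a b)) (hypVec x) (hypVec y) = Cfsg.sympForm k F x y := by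
  simp [polar_minus, hypVec, sympForm_eq_sum]
  rw [CharTwo.sub_eq_add, ← Finset.sum_add_distrib]
  exact Finset.sum_congr rfl fun i _ => by ring

theorem eq_hyp_add {v : I⁻ → F} (h : v (.inr 1) = 0) :
    v = hypVec (fun i => v (.inl i)) + v (.inr 0) • uvec k F := by
  funext j
  rcases j with j | j
  · simp [hypVec, uvec]
  · fin_cases j <;> simp [hypVec, uvec, h]

theorem quad_hyp_add (x : Fin k ⊕ Fin k → F) (t : F) :
    minusQ k F a b (hypVec x + t • uvec k F) = minusQ k F a b (hypVec x) + t * t := by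
  rw [QuadraticMap.map_add (⇑(minusQ k F a b)), QuadraticMap.map_smul, quad_uvec,
    QuadraticMap.polar_smul_right, QuadraticMap.polar_comm, polar_uvec]
  simp [hypVec]

variable (k a b) in
/-- The unit vector on the sphere. -/
noncomputable def uPt : Sphere (minusQ k F a b) := ⟨uvec k F, quad_uvec⟩

variable (k a b) in
/-- The stabiliser of the unit vector. -/
noncomputable def uStab : Subgroup ↥(Cfsg.Omega F ⇑(minusQ k F a b)) :=
  MulAction.stabilizer _ (uPt k a b)

theorem uStab_fix {g : ↥(Cfsg.Omega F ⇑(minusQ k F a b))} (hg : g ∈ uStab k a b) :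
    mat (minusQ k F a b) g.1 *ᵥ uvec k F = uvec k F :=
  (smul_eq_iff g (uPt k a b) (uPt k a b)).1 hg

variable (ha : a ≠ 0)
include ha

theorem last_eq {g : ↥(Cfsg.Omega F ⇑(minusQ k F a b))} (hg : g ∈ uStab k a b) (v : I⁻ → F) :
    (mat (minusQ k F a b) g.1 *ᵥ v) (.inr 1) = v (.inr 1) := by
  have h := polar_mulVec (minusQ k F a b) g.1 (uvec k F) v
  rw [uStab_fix hg, polar_uvec, polar_uvec] at h
  exact mul_left_cancel₀ ha h

theorem apply_hyp {g : ↥(Cfsg.Omega F ⇑(minusQ k F a b))} (hg : g ∈ uStab k a b)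
    (x : Fin k ⊕ Fin k → F) :
    ∃ t : F, mat (minusQ k F a b) g.1 *ᵥ hypVec x =
      hypVec ((mat (minusQ k F a b) g.1).toBlocks₁₁ *ᵥ x) + t • uvec k F := by
  refine ⟨(mat (minusQ k F a b) g.1 *ᵥ hypVec x) (.inr 0), ?_⟩
  conv_lhs => rw [eq_hyp_add (show (mat (minusQ k F a b) g.1 *ᵥ hypVec x) (.inr 1) = 0 by
    rw [last_eq ha hg]; rfl)]
  congr 2
  funext i
  simp [hypVec, Matrix.mulVec, dotProduct, Fintype.sum_sum_type, Matrix.toBlocks₁₁]

theorem toBlocks_mem {g : ↥(Cfsg.Omega F ⇑(minusQ k F a b))} (hg : g ∈ uStab k a b) :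
    (mat (minusQ k F a b) g.1).toBlocks₁₁ ∈ Matrix.symplecticGroup (Fin k) F := by
  refine mem_symplecticGroup_iff_form.2 fun x y => ?_
  obtain ⟨s, hs⟩ := apply_hyp ha hg x
  obtain ⟨t, ht⟩ := apply_hyp ha hg y
  have h := polar_mulVec (minusQ k F a b) g.1 (hypVec x) (hypVec y)
  rw [hs, ht, polar_hypVec] at h
  rw [← h]
  simp only [QuadraticMap.polar_add_left, QuadraticMap.polar_add_right,
    QuadraticMap.polar_smul_left, QuadraticMap.polar_smul_right, polar_hypVec, polar_uvec,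
    QuadraticMap.polar_comm (⇑(minusQ k F a b)) (hypVec _) (uvec k F)]
  simp [hypVec, uvec]

/-- The projection onto the symplectic group of `z⊥ / ⟨z⟩`. -/
noncomputable def toSp : ↥(uStab k a b) →* Matrix.symplecticGroup (Fin k) F :=
  MonoidHom.mk' (fun g => ⟨_, toBlocks_mem ha g.2⟩) fun g h => by
    apply Subtype.ext
    show (mat (minusQ k F a b) (g.1.1 * h.1.1)).toBlocks₁₁ =
      (mat (minusQ k F a b) g.1.1).toBlocks₁₁ * (mat (minusQ k F a b) h.1.1).toBlocks₁₁
    refine Matrix.ext_iff_mulVec.2 fun x => funext fun i => ?_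
    obtain ⟨s, hs⟩ := apply_hyp ha h.2 x
    obtain ⟨t, ht⟩ := apply_hyp ha g.2 ((mat (minusQ k F a b) h.1.1).toBlocks₁₁ *ᵥ x)
    obtain ⟨r, hr⟩ := apply_hyp ha (mul_mem g.2 h.2) x
    have e : mat (minusQ k F a b) (g.1.1 * h.1.1) *ᵥ hypVec x =
        mat (minusQ k F a b) g.1.1 *ᵥ (mat (minusQ k F a b) h.1.1 *ᵥ hypVec x) := by
      rw [mat_mul, ← Matrix.mulVec_mulVec]
    rw [hs, Matrix.mulVec_add, Matrix.mulVec_smul, uStab_fix g.2, ht] at e
    have e' := congrFun (e.symm.trans hr) (.inl i)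
    simp [hypVec, uvec] at e'
    exact e'.symm

theorem toSp_apply (g : ↥(uStab k a b)) (x : Fin k ⊕ Fin k → F) :
    (toSp ha g).1 *ᵥ x = (mat (minusQ k F a b) g.1.1).toBlocks₁₁ *ᵥ x := rfl

theorem minus_nondeg : (QuadraticMap.polarBilin (minusQ k F a b)).Nondegenerate :=
  minusQ_nondegenerate k (by
    have h4 : (4 : F) = 0 := by
      rw [show (4 : F) = ((2 : ℕ) : F) + ((2 : ℕ) : F) by norm_num, CharTwo.add_self_eq_zero]
    rw [h4, zero_mul, sub_zero]
    exact pow_ne_zero 2 ha)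

theorem refl_uvec (v : I⁻ → F) :
    mat (minusQ k F a b) (reflIso (minusQ k F a b) (uvec k F) (by rw [quad_uvec]; exact one_ne_zero)) *ᵥ v =
      v + (a * v (.inr 1)) • uvec k F := by
  rw [mat_reflIso, reflectionMatrix_mulVec, refl_apply, quad_uvec, inv_one, one_mul, polar_uvec]
  funext i
  simp [CharTwo.sub_eq_add]

variable (hk : 3 ≤ k)
include hk

theorem toSp_injective : Function.Injective (toSp (k := k) (a := a) (b := b) ha) := by
  rw [injective_iff_map_eq_one]
  intro g hg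
  have hQ := minus_nondeg (k := k) (b := b) ha
  have hz := uStab_fix g.2
  have hhyp : ∀ x, mat 𝔔 g.1.1 *ᵥ hypVec x = hypVec x := by
    intro x
    obtain ⟨t, ht⟩ := apply_hyp ha g.2 x
    rw [← toSp_apply ha g x, hg, Submonoid.coe_one, Matrix.one_mulVec] at ht
    have h := quad_mulVec 𝔔 g.1.1 (hypVec x)
    rw [ht, quad_hyp_add, add_eq_left, mul_self_eq_zero] at h
    rw [ht, h, zero_smul, add_zero]
  set w : I⁻ → F := Sum.elim 0 ![0, 1] with hw
  obtain ⟨t, ht⟩ : ∃ t, mat 𝔔 g.1.1 *ᵥ w = w + t • uvec k F := by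
    set u := mat 𝔔 g.1.1 *ᵥ w with hu
    have h1 : u (.inr 1) = 1 := by rw [hu, last_eq ha g.2]; simp [hw]
    have hl : ∀ i, u (.inl i) = 0 := by
      have hp : ∀ x, QuadraticMap.polar (⇑𝔔) (hypVec x) u = 0 := fun x => by
        rw [hu]
        nth_rewrite 1 [← hhyp x]
        rw [polar_mulVec]
        simp [polar_minus, hypVec, hw]
      intro i
      rcases i with i | i
      · simpa [polar_minus, hypVec, Pi.single_apply] using hp (Pi.single (.inr i) 1)
      · simpa [polar_minus, hypVec, Pi.single_apply] using hp (Pi.single (.inl i) 1)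
    refine ⟨u (.inr 0), funext fun j => ?_⟩
    rcases j with j | j
    · simp [hl, hw, uvec]
    · fin_cases j <;> simp [hw, uvec, h1]
  have hdec : ∀ v : I⁻ → F, v = hypVec (fun i => v (.inl i)) + v (.inr 0) • uvec k F + v (.inr 1) • w := by
    intro v
    funext j
    rcases j with j | j
    · simp [hypVec, uvec, hw]
    · fin_cases j <;> simp [hypVec, uvec, hw]
  have hact : ∀ v, mat 𝔔 g.1.1 *ᵥ v = v + (t * v (.inr 1)) • uvec k F := by
    intro v
    conv_lhs => rw [hdec v]
    rw [Matrix.mulVec_add, Matrix.mulVec_add, Matrix.mulVec_smul, Matrix.mulVec_smul, hhyp, hz, ht]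
    conv_rhs => arg 1; rw [hdec v]
    rw [mul_comm t]
    module
  have hQw : 𝔔 (mat 𝔔 g.1.1 *ᵥ w) = 𝔔 w := quad_mulVec 𝔔 _ _
  rw [ht, QuadraticMap.map_add (⇑𝔔), QuadraticMap.map_smul, quad_uvec,
    QuadraticMap.polar_smul_right, QuadraticMap.polar_comm, polar_uvec] at hQw
  simp [hw] at hQw
  have hroot : t * (t + a) = 0 := by linear_combination hQw
  rcases mul_eq_zero.1 hroot with h0 | h0
  · refine Subtype.ext (Subtype.ext (mat_ext 𝔔 (Matrix.ext_iff_mulVec.2 fun v => ?_)))
    show mat 𝔔 g.1.1 *ᵥ v = mat 𝔔 (1 : ↥(Cfsg.isometryGroup F ⇑𝔔)) *ᵥ v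
    rw [hact, h0, zero_mul, zero_smul, add_zero, mat_one, Matrix.one_mulVec]
  · exfalso
    have hu0 : 𝔔 (uvec k F) ≠ 0 := by rw [quad_uvec]; exact one_ne_zero
    have hexc : Nat.card F ≠ 2 ∨ Fintype.card I⁻ ≠ 4 := Or.inr (by simp; omega)
    have hgen := exists_isReflProd_charTwo hQ hexc
    have hg1 : g.1.1 = reflIso 𝔔 (uvec k F) hu0 := mat_ext 𝔔 (Matrix.ext_iff_mulVec.2 fun v => by
      rw [hact, refl_uvec ha, CharTwo.add_eq_zero.1 h0])
    have hmem := g.1.2
    rw [hg1, omega_eq_ker_charTwo hQ hgen hexc, MonoidHom.mem_ker, parityHom_reflIso] at hmem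
    exact absurd hmem (by decide)

theorem toSp_surjective : Function.Surjective (toSp (k := k) (a := a) (b := b) ha) := by
  classical
  have hQ := minus_nondeg (k := k) (b := b) ha
  have hu0 : 𝔔 (uvec k F) ≠ 0 := by rw [quad_uvec]; exact one_ne_zero
  have hall : transvGroup (Set.univ : Set (Fin k ⊕ Fin k → F)) ≤
      (toSp (k := k) (a := a) (b := b) ha).range := by
    unfold transvGroup
    rw [Subgroup.closure_le]
    rintro _ ⟨w, -, c, rfl⟩
    by_cases hc : c = 0
    · exact ⟨1, by rw [map_one, hc]; exact sp_ext fun x => by simp [spTransv_mulVec]⟩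
    obtain ⟨μ, hμ⟩ := exists_sq_eq (c⁻¹ - 𝔔 (hypVec w))
    set u := hypVec w + μ • uvec k F with hu
    have hQu : 𝔔 u = c⁻¹ := by rw [hu, quad_hyp_add, hμ]; ring
    have hu' : 𝔔 u ≠ 0 := by rw [hQu]; exact inv_ne_zero hc
    have hzu : QuadraticMap.polar (⇑𝔔) u (uvec k F) = 0 := by
      rw [QuadraticMap.polar_comm, polar_uvec]; simp [hu, hypVec, uvec]
    have hfix : (⟨_, even_mem_omega hQ (by simp; omega) hu' hu0⟩ : ↥(Cfsg.Omega F ⇑𝔔)) ∈ uStab k a b := by
      refine (smul_eq_iff _ _ _).2 ?_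
      show mat 𝔔 (reflIso 𝔔 u hu' * reflIso 𝔔 (uvec k F) hu0) *ᵥ uvec k F = uvec k F
      rw [mat_mul, ← Matrix.mulVec_mulVec, refl_fix hu0 (by rw [polar_uvec]; simp [uvec]),
        refl_fix hu' hzu]
    refine ⟨⟨_, hfix⟩, sp_ext fun x => funext fun i => ?_⟩
    rw [toSp_apply, spTransv_mulVec]
    obtain ⟨t, ht⟩ := apply_hyp ha hfix x
    change mat 𝔔 (reflIso 𝔔 u hu' * reflIso 𝔔 (uvec k F) hu0) *ᵥ hypVec x = _ at ht
    rw [mat_mul, ← Matrix.mulVec_mulVec, refl_uvec ha, show hypVec x (.inr 1) = 0 from rfl, mul_zero,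
      zero_smul, add_zero, mat_reflIso, reflectionMatrix_mulVec, refl_apply] at ht
    have hpol : QuadraticMap.polar (⇑𝔔) u (hypVec x) = Cfsg.sympForm k F x w := by
      rw [hu, QuadraticMap.polar_add_left, QuadraticMap.polar_smul_left, polar_uvec, polar_hypVec,
        sympForm_swap, CharTwo.neg_eq]
      simp [hypVec]
    rw [hpol, hQu, inv_inv] at ht
    have h := congrFun ht (.inl i)
    simp [hypVec, uvec, hu, CharTwo.sub_eq_add] at h
    rw [mat_mul, mat_reflIso, mat_reflIso]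
    simpa [hu, hypVec, uvec] using h.symm
  rw [← MonoidHom.range_eq_top, eq_top_iff, ← transvGroup_eq_top]
  exact hall

/-- The stabiliser of a unit vector is the symplectic group. -/
noncomputable def stabEquiv : ↥(uStab k a b) ≃* Matrix.symplecticGroup (Fin k) F :=
  MulEquiv.ofBijective (toSp ha) ⟨toSp_injective ha hk, toSp_surjective ha hk⟩

variable (ht : 4 ≤ k ∨ ∃ t : F, t ≠ 0 ∧ t ^ 2 ≠ 1)
include ht

theorem perfect_uStab : commutator ↥(uStab k a b) = ⊤ := by
  refine Subgroup.map_injective (f := (stabEquiv (b := b) ha hk).toMonoidHom) (stabEquiv ha hk).injective ?_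
  rw [commutator_def, Subgroup.map_commutator,
    Subgroup.map_top_of_surjective (stabEquiv (b := b) ha hk).toMonoidHom (stabEquiv (b := b) ha hk).surjective,
    ← commutator_def]
  exact Forms4.commutator_Sp_eq_top (Or.inl hk)

theorem perfect_pair_two (x y : Sphere (minusQ k F a b))
    (hxy : QuadraticMap.polar (⇑(minusQ k F a b)) x.1 y.1 = 0) :
    ⁅MulAction.stabilizer ↥(Cfsg.Omega F ⇑(minusQ k F a b)) x ⊓ MulAction.stabilizer _ y,
      MulAction.stabilizer ↥(Cfsg.Omega F ⇑(minusQ k F a b)) x ⊓ MulAction.stabilizer _ y⁆ =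
      MulAction.stabilizer ↥(Cfsg.Omega F ⇑(minusQ k F a b)) x ⊓ MulAction.stabilizer _ y := by
  set z₀ : Sphere 𝔔 := ⟨uvec k F, quad_uvec⟩ with hz₀
  have hQ := minus_nondeg (k := k) (b := b) ha
  have hn : 8 ≤ Fintype.card I⁻ := by simp; omega
  have hstd : ∀ c : Sphere 𝔔, QuadraticMap.polar (⇑𝔔) (uvec k F) c.1 = 0 →
      ⁅MulAction.stabilizer ↥(Cfsg.Omega F ⇑𝔔) z₀ ⊓ MulAction.stabilizer _ c,
        MulAction.stabilizer ↥(Cfsg.Omega F ⇑𝔔) z₀ ⊓ MulAction.stabilizer _ c⁆ =
        MulAction.stabilizer ↥(Cfsg.Omega F ⇑𝔔) z₀ ⊓ MulAction.stabilizer _ c := by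
    intro c hc
    have hperf : ⁅uStab k a b, uStab k a b⁆ = uStab k a b := by
      have := congrArg (Subgroup.map (uStab k a b).subtype) (perfect_uStab (b := b) ha hk ht)
      rwa [Subgroup.map_subtype_commutator, ← MonoidHom.range_eq_map, Subgroup.range_subtype] at this
    by_cases hcz : c = z₀
    · rw [hcz, inf_idem]; exact hperf
    have hlast : c.1 (.inr 1) = 0 := by
      rw [polar_uvec] at hc; exact (mul_eq_zero.1 hc).resolve_left ha
    set e : Fin k ⊕ Fin k → F := fun i => c.1 (.inl i) with he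
    have hdec : c.1 = hypVec e + c.1 (.inr 0) • uvec k F := eq_hyp_add hlast
    have he0 : e ≠ 0 := by
      intro h0
      apply hcz
      apply Subtype.ext
      have h := c.2
      have hz0 : hypVec (0 : Fin k ⊕ Fin k → F) = 0 := funext fun j => by rcases j with j | j <;> rfl
      rw [hdec, h0, hz0, zero_add] at h ⊢
      exact unit_unique quad_uvec h
    have hiff : ∀ g : ↥(uStab k a b), g.1 • c = c ↔ (toSp ha g) ∈ spStab e := by
      intro g
      obtain ⟨t, htt⟩ := apply_hyp ha g.2 e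
      have himg : mat 𝔔 g.1.1 *ᵥ c.1 = hypVec ((toSp ha g).1 *ᵥ e) + (t + c.1 (.inr 0)) • uvec k F := by
        conv_lhs => rw [hdec]
        rw [Matrix.mulVec_add, Matrix.mulVec_smul, htt, uStab_fix g.2, toSp_apply, add_smul,
          add_assoc]
      rw [smul_eq_iff]
      constructor
      · intro h
        rw [himg] at h
        show (toSp ha g).1 *ᵥ e = e
        funext i
        have := congrFun h (.inl i)
        simpa [hypVec, uvec] using this
      · intro h
        rw [show (toSp ha g).1 *ᵥ e = e from h] at himg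
        have hq := quad_mulVec 𝔔 g.1.1 c.1
        rw [himg, quad_hyp_add] at hq
        have hq2 : 𝔔 c.1 = 𝔔 (hypVec e) + c.1 (.inr 0) * c.1 (.inr 0) := by
          conv_lhs => rw [hdec]
          exact quad_hyp_add e _
        rw [hq2] at hq
        have : t = 0 := by
          have h2 : (2 : F) = 0 := CharTwo.two_eq_zero
          refine mul_self_eq_zero.1 ?_
          linear_combination hq - t * c.1 (.inr 0) * h2
        rw [himg, this, zero_add, ← hdec]
    have hmap : ((spStab e).comap (toSp ha)).map (uStab k a b).subtype =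
        MulAction.stabilizer ↥(Cfsg.Omega F ⇑𝔔) z₀ ⊓ MulAction.stabilizer _ c := by
      ext g
      constructor
      · rintro ⟨g', hg', rfl⟩
        exact ⟨g'.2, (hiff g').2 hg'⟩
      · rintro ⟨h1, h2⟩
        exact ⟨⟨g, h1⟩, (hiff ⟨g, h1⟩).1 h2, rfl⟩
    rw [← hmap, ← Subgroup.map_commutator]
    congr 1
    refine Subgroup.map_injective (f := toSp ha) (toSp_injective ha hk) ?_
    rw [Subgroup.map_commutator, Subgroup.map_comap_eq_self_of_surjective (toSp_surjective ha hk),
      perfect_spStab hk ht he0]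
  -- transport
  obtain ⟨d, hd, hd1, hdo⟩ := exists_unit_few hQ ![x.1, uvec k F] (by simp; omega)
  obtain ⟨g, hg, hgx, -⟩ := exists_move_two hQ hn ![d] (by omega) x.2 (quad_uvec (k := k) (a := a) (b := b))
    (fun i => by fin_cases i; exact (QuadraticMap.polar_comm _ _ _).trans (hd 0))
    (fun i => by fin_cases i; exact (QuadraticMap.polar_comm _ _ _).trans (hd 1))
    (not_mem_span_singleton x.2 hd1 fun e => hdo (e ▸ Submodule.subset_span ⟨0, rfl⟩))
    (not_mem_span_singleton quad_uvec hd1 fun e => hdo (e ▸ Submodule.subset_span ⟨1, rfl⟩))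
    (orth_span fun i j => by fin_cases i; fin_cases j; exact polar_self_two _)
    ⟨d, Submodule.subset_span ⟨0, rfl⟩, hd1, hd 0, hd 1⟩
  let γ : ↥(Cfsg.Omega F ⇑𝔔) := ⟨g, hg⟩
  have hγx : γ • x = z₀ := (smul_eq_iff _ _ _).2 hgx
  have hpol : QuadraticMap.polar (⇑𝔔) (uvec k F) (γ • y).1 = 0 := by
    show QuadraticMap.polar (⇑𝔔) (uvec k F) (mat 𝔔 g *ᵥ y.1) = 0
    rw [← hgx, polar_mulVec, hxy]
  have h := hstd (γ • y) hpol
  rw [← hγx, MulAction.stabilizer_smul_eq_stabilizer_map_conj,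
    MulAction.stabilizer_smul_eq_stabilizer_map_conj, ← Subgroup.map_inf _ _ _ (MulAut.conj γ).injective,
    ← Subgroup.map_commutator] at h
  exact Subgroup.map_injective (MulAut.conj γ).injective h

/-- Finite perfect central extensions are trivial. -/
theorem minus_bound_two (hcl : MultPSp.Closed (Matrix.symplecticGroup (Fin k) F))
    (E : Type u) [Group E] [Finite E] (π : E →* ↥(Cfsg.Omega F ⇑(minusQ k F a b)))
    (hs : Function.Surjective π) (hc : π.ker ≤ Subgroup.center E) (hE : commutator E = ⊤) :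
    Nat.card E ≤ Nat.card ↥(Cfsg.Omega F ⇑(minusQ k F a b)) := by
  have hQ := minus_nondeg (k := k) (b := b) ha
  set z₀ : Sphere 𝔔 := ⟨uvec k F, quad_uvec⟩
  let P : Subgroup E := (uStab k a b).comap π
  have hP : P.map π = uStab k a b := Subgroup.map_comap_eq_self_of_surjective hs _
  let ψ : P →* Matrix.symplecticGroup (Fin k) F :=
    (stabEquiv ha hk).toMonoidHom.comp ((π.comp P.subtype).codRestrict (uStab k a b) fun p => p.2)
  have hψs : Function.Surjective ψ := fun A => by
    obtain ⟨g, rfl⟩ := (stabEquiv (b := b) ha hk).surjective A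
    obtain ⟨p, hp⟩ := hs g.1
    refine ⟨⟨p, by rw [Subgroup.mem_comap, hp]; exact g.2⟩, ?_⟩
    show stabEquiv (b := b) ha hk _ = _
    exact congrArg (stabEquiv (b := b) ha hk) (Subtype.ext hp)
  have hψ1 : ∀ p : P, ψ p = 1 ↔ π p = 1 := fun p => by
    simp only [ψ, MonoidHom.comp_apply, MulEquiv.coe_toMonoidHom, MulEquiv.map_eq_one_iff]
    exact Subtype.ext_iff
  have hψc : ψ.ker ≤ Subgroup.center P := fun p hp => Subgroup.mem_center_iff.2 fun q =>
    Subtype.ext (Subgroup.mem_center_iff.1 (hc ((hψ1 p).1 hp)) q.1)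
  obtain ⟨hDs, hDp⟩ := derived_of_central ψ hψs hψc (Forms4.commutator_Sp_eq_top (Or.inl hk))
  have hDinj := hcl ↥(commutator P) (ψ.comp (commutator P).subtype) hDs (fun x hx =>
    Subgroup.mem_center_iff.2 fun y =>
      Subtype.ext (Subgroup.mem_center_iff.1 (hψc (x := x.1) hx) y.1)) hDp
  have hinj : Function.Injective π := by
    refine (covering_two hQ (by simp; omega) (minusPairs k (by omega) a b) π hs hc hE z₀
      ((commutator P).map P.subtype) ?_ ?_ fun x y h => Or.inl (perfect_pair_two ha hk ht x y h)).injective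
    · rintro _ ⟨p, hp, rfl⟩ h
      have := @hDinj ⟨p, hp⟩ 1 (by rw [map_one]; exact (hψ1 p).2 h)
      exact congrArg (fun z : ↥(commutator P) => (z.1 : E)) this
    · rw [Subgroup.map_map]
      refine le_antisymm ?_ ?_
      · rintro _ ⟨p, -, rfl⟩
        exact p.2
      · intro g hg
        obtain ⟨d, hd⟩ := hDs (stabEquiv ha hk ⟨g, hg⟩)
        exact ⟨d.1, d.2, congrArg Subtype.val ((stabEquiv ha hk).injective hd)⟩
  exact Nat.card_le_card_of_injective π hinj

end CfsgLib.MultOrth
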