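import Cfsg.Agent.MultOrth.MinusOdd
import Cfsg.Agent.MultOrth.MinusEven
import Cfsg.Agent.MultOrth.EightTwo
import Cfsg.Agent.MultPSp.Main
import Cfsg.Agent.MultPSp.GF2
import Cfsg.Agent.OPlusEightTwo.Field
import Cfsg.Agent.CoverTab.Transfer

/-!
# The multipliers of `PΩ⁻₂ₗ(q)`
-/

set_option autoImplicit false
set_option linter.unusedSectionVars false

namespace CfsgLib.MultOrth

open Matrix CfsgLib.Spinor CfsgLib.Forms4 CfsgLib.StdForms CfsgLib.Forms

universe u

/-- `PΩ⁻₈(2)` over the prime field. -/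
theorem minus_eight_two {A : Type*} [CommGroup A] [Subsingleton A] :
    Cfsg.HasSchurMultiplier (Cfsg.POmega (ZMod 2) (Cfsg.quadFormMinus 3 (ZMod 2) 1 1)) A := by
  rw [← coe_minusQ]
  exact hasSchurMultiplier_trivial
    (TwoPairs.commutator_omega EightTwo.nd (by simp) (minusPairs 3 (by omega) 1 1))
    (fun E _ _ π hs hc hE => EightTwo.bound E π hs hc hE)
    (card_center_omega_one EightTwo.nd (by simp) (minusPairs 3 (by omega) 1 1)
      fun _ _ _ => rfl)

variable {F : Type u} [Field F] [Fintype F]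

theorem quadFormMinus_map {K : Type*} [Field K] (e : K ≃+* F) (m : ℕ) (a b : K)
    (v : (Fin m ⊕ Fin m) ⊕ Fin 2 → K) :
    Cfsg.quadFormMinus m F (e a) (e b) (fun i => e (v i)) = e (Cfsg.quadFormMinus m K a b v) := by
  simp [Cfsg.quadFormMinus, map_sum, map_mul, map_add, map_pow]

/-- Even characteristic: the multiplier is trivial. -/
theorem minus_trivial (h2 : (2 : F) = 0) {q : ℕ} (hF : Fintype.card F = q) (k : ℕ) (hk : 3 ≤ k)
    {a b : F} (hab : ∀ z₁ z₂ : F, z₁ ^ 2 + a * z₁ * z₂ + b * z₂ ^ 2 = 0 → z₁ = 0 ∧ z₂ = 0)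
    {A : Type*} [CommGroup A] [Subsingleton A] :
    Cfsg.HasSchurMultiplier (Cfsg.POmega F (Cfsg.quadFormMinus k F a b)) A := by
  classical
  haveI : CharP F 2 := CharTwo.of_one_ne_zero_of_two_eq_zero one_ne_zero h2
  have ha : a ≠ 0 := by
    intro ha
    obtain ⟨s, hs⟩ := exists_sq_eq b
    have := hab s 1 (by rw [ha, ← hs]; linear_combination s * s * h2)
    exact one_ne_zero this.2
  have hq := Fintype.one_lt_card (α := F)
  by_cases hexc : k = 3 ∧ Fintype.card F = 2
  · obtain ⟨rfl, hq2⟩ := hexc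
    let e := ZMod.ringEquivOfPrime F Nat.prime_two hq2
    have hone : ∀ x : F, x ≠ 0 → x = 1 := fun x hx => by
      obtain ⟨y, rfl⟩ := e.surjective x
      rcases (show ∀ y : ZMod 2, y = 0 ∨ y = 1 by decide) y with rfl | rfl
      · exact absurd (map_zero e) hx
      · exact map_one e
    have hb : b ≠ 0 := by
      intro hb
      have := hab 0 1 (by rw [hb]; ring)
      exact one_ne_zero this.2
    rw [hone a ha, hone b hb]
    obtain ⟨i⟩ := OPlusEightTwo.pOmega_equiv e
      (QK := Cfsg.quadFormMinus 3 (ZMod 2) 1 1) (QF := Cfsg.quadFormMinus 3 F 1 1)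
      (fun v => by simpa using quadFormMinus_map e 3 1 1 v)
    exact CoverTab.hasSchurMultiplier_transfer i minus_eight_two
  obtain ⟨ht, hcl⟩ : (4 ≤ k ∨ ∃ t : F, t ≠ 0 ∧ t ^ 2 ≠ 1) ∧
      MultPSp.Closed (Matrix.symplecticGroup (Fin k) F) := by
    obtain ⟨j, rfl⟩ : ∃ j, k = j + 3 := ⟨k - 3, by omega⟩
    by_cases h3 : 3 ≤ Fintype.card F
    · refine ⟨Or.inr ?_, MultPSp.closed_big h3 j⟩
      obtain ⟨t, t0, t1⟩ := MultPSp.exists_ne_zero_one h3
      exact ⟨t, t0, fun h => t1 (by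
        rw [sq] at h
        rcases mul_self_eq_one_iff.1 h with h | h
        · exact h
        · rw [h, CharTwo.neg_eq])⟩
    · have hq2 : Fintype.card F = 2 := by omega
      have hj : 1 ≤ j := by
        by_contra h
        exact hexc ⟨by omega, hq2⟩
      exact ⟨Or.inl (by omega), MultPSp.closed_high (fun _ => by omega) fun E _ _ D _ ρ hρ =>
        MultPSp.exists_glued hq2 hj D hρ⟩
  have hQ := minus_nondeg (k := k) (b := b) ha
  rw [← coe_minusQ]
  exact hasSchurMultiplier_trivial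
    (TwoPairs.commutator_omega hQ (by simp; omega) (minusPairs k (by omega) a b))
    (fun E _ _ π hs hc hE => minus_bound_two ha hk ht hcl E π hs hc hE)
    (card_center_omega_one hQ (by simp; omega) (minusPairs k (by omega) a b) fun _ _ _ => h2)

/-- The multiplier of `PΩ⁻₂ₗ(q)`. -/
theorem hasCyclic_minus {q : ℕ} (hF : Fintype.card F = q) (l : ℕ) (hl : 4 ≤ l) {a b : F}
    (hab : ∀ z₁ z₂ : F, z₁ ^ 2 + a * z₁ * z₂ + b * z₂ ^ 2 = 0 → z₁ = 0 ∧ z₂ = 0) :
    Cfsg.HasCyclicSchurMultiplier (Cfsg.POmega F (Cfsg.quadFormMinus (l - 1) F a b))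
      (Nat.gcd 4 (q ^ l + 1)) := by
  by_cases h2 : (2 : F) = 0
  · have he := (two_eq_zero_iff_even hF).1 h2
    have hodd : Odd (q ^ l + 1) := (Nat.even_pow.2 ⟨he, by omega⟩).add_one
    have hg : Nat.gcd 4 (q ^ l + 1) = 1 := by
      have := (Nat.coprime_two_left.2 hodd).pow_left 2
      simpa using this
    rw [hg]
    haveI : Subsingleton (Multiplicative (ZMod 1)) := inferInstanceAs (Subsingleton (ZMod 1))
    exact minus_trivial h2 hF (l - 1) (by omega) hab
  · exact hasCyclic_minus_odd hF (Nat.not_even_iff_odd.1 fun h => h2 ((two_eq_zero_iff_even hF).2 h))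
      l hl hab

end CfsgLib.MultOrth
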