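import Cfsg.Agent.MultOrth.OddFinal
import Cfsg.Agent.MultOrth.EightThree
import Cfsg.Agent.AutPOmega.Congr

/-!
# The multipliers of `PΩ⁻₂ₗ(q)`, `q` odd
-/

set_option autoImplicit false
set_option linter.unusedSectionVars false
set_option linter.unusedSimpArgs false

namespace CfsgLib.MultOrth

open Matrix CfsgLib.Spinor CfsgLib.Forms4 CfsgLib.StdForms CfsgLib.Forms

universe u

variable {F : Type u} [Field F] [Fintype F]

/-- `-(a² - 4b)` for an anisotropic plane. -/
theorem disc_facts (h2 : (2 : F) ≠ 0) {a b : F}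
    (hab : ∀ z₁ z₂ : F, z₁ ^ 2 + a * z₁ * z₂ + b * z₂ ^ 2 = 0 → z₁ = 0 ∧ z₂ = 0) :
    (4 * b - a ^ 2 ≠ 0) ∧ ¬ IsSquare (-(4 * b - a ^ 2)) := by
  have hns : ¬ IsSquare (-(4 * b - a ^ 2)) := by
    rintro ⟨r, hr⟩
    refine one_ne_zero (α := F) (hab ((-a + r) / 2) 1 ?_).2
    field_simp
    linear_combination -hr
  exact ⟨fun h => hns (by rw [h, neg_zero]; exact ⟨0, (mul_zero 0).symm⟩), hns⟩

/-- The hyperplane orthogonal to the first anisotropic coordinate. -/
noncomputable def minusMap (k : ℕ) (a : F) :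
    (Unit ⊕ (Fin k ⊕ Fin k) → F) →ₗ[F] ((Fin k ⊕ Fin k) ⊕ Fin 2 → F) where
  toFun v := Sum.elim (fun i => v (.inr i)) ![-a * v (.inl ()), 2 * v (.inl ())]
  map_add' u v := by
    ext (i | i)
    · rfl
    · fin_cases i <;> simp <;> ring
  map_smul' c v := by
    ext (i | i)
    · rfl
    · fin_cases i <;> simp <;> ring

theorem minusMap_quad (k : ℕ) (a b : F) (v : Unit ⊕ (Fin k ⊕ Fin k) → F) :
    minusQ k F a b (minusMap k a v) =
      (4 * b - a ^ 2) * v (.inl ()) ^ 2 + ∑ i, v (.inr (.inl i)) * v (.inr (.inr i)) := by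
  simp [minusQ_apply, Cfsg.quadFormMinus, minusMap]
  ring

/-- The bound for `Ω⁻`, odd characteristic. -/
theorem minus_bound (h2 : (2 : F) ≠ 0) (k : ℕ) (hk : 3 ≤ k) {a b : F}
    (hab : ∀ z₁ z₂ : F, z₁ ^ 2 + a * z₁ * z₂ + b * z₂ ^ 2 = 0 → z₁ = 0 ∧ z₂ = 0)
    (E : Type u) [Group E] [Finite E] (π : E →* ↥(Cfsg.Omega F ⇑(minusQ k F a b)))
    (hs : Function.Surjective π) (hc : π.ker ≤ Subgroup.center E) (hE : commutator E = ⊤) :
    Nat.card E ≤ 2 * Nat.card ↥(Cfsg.Omega F ⇑(minusQ k F a b)) := by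
  classical
  obtain ⟨hd0, hns⟩ := disc_facts h2 hab
  set d := 4 * b - a ^ 2 with hd
  have hQ : (QuadraticMap.polarBilin (minusQ k F a b)).Nondegenerate :=
    minusQ_nondegenerate k (disc_ne_zero_of_anisotropic h2 hab)
  set Q' : QuadraticForm F (Unit ⊕ (Fin k ⊕ Fin k) → F) :=
    (minusQ k F a b).comp (minusMap k a) with hQ'
  have hQ'a : ∀ v, Q' v = d * v (.inl ()) ^ 2 + ∑ i, v (.inr (.inl i)) * v (.inr (.inr i)) :=
    minusMap_quad k a b
  -- similarity with the standard odd form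
  let c : Unit ⊕ (Fin k ⊕ Fin k) → F := Sum.elim 1 (Sum.elim (fun _ => d) 1)
  have hc0 : ∀ i, c i ≠ 0 := fun i => by
    rcases i with i | i | i <;> simp [c, hd0]
  let L : (Unit ⊕ (Fin k ⊕ Fin k) → F) ≃ₗ[F] (Unit ⊕ (Fin k ⊕ Fin k) → F) :=
    LinearEquiv.piCongrRight fun i => LinearEquiv.smulOfUnit (Units.mk0 (c i) (hc0 i))
  have hL : ∀ v, Q' (L v) = ((Units.mk0 d hd0 : Fˣ) : F) * oddQ k F v := fun v => by
    rw [hQ'a, oddQ_apply]
    simp [L, c, Cfsg.quadFormOdd, LinearEquiv.smulOfUnit, Units.smul_def, Finset.mul_sum, mul_add]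
    exact Finset.sum_congr rfl fun i _ => by ring
  have hnd : (QuadraticMap.polarBilin Q').Nondegenerate := by
    refine nondegenerate_of_sep _ fun x hx => ?_
    have hp : ∀ y, QuadraticMap.polar (⇑(oddQ k F)) (L.symm x) y = 0 := fun y => by
      have h := hx (L y)
      have e : QuadraticMap.polar (⇑Q') (L (L.symm x)) (L y) =
          d * QuadraticMap.polar (⇑(oddQ k F)) (L.symm x) y := by
        simp only [QuadraticMap.polar, ← map_add, hL, Units.val_mk0]
        ring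
      rw [L.apply_symm_apply, h] at e
      exact (mul_eq_zero.1 e.symm).resolve_left hd0
    exact L.symm.map_eq_zero_iff.1 (polar_nondeg_vec (oddQ_nondegenerate h2 k) hp)
  let e : Emb (minusQ k F a b) Q' := ⟨minusMap k a, fun v => rfl, hnd⟩
  set z : (Fin k ⊕ Fin k) ⊕ Fin 2 → F := Pi.single (.inr 0) 1 with hz'
  have hz : minusQ k F a b z = 1 := by
    simp [hz', minusQ_apply, Cfsg.quadFormMinus, Pi.single_apply]
  have hzL : ∀ v, QuadraticMap.polar (⇑(minusQ k F a b)) z (e.L v) = 0 := fun v => by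
    simp [hz', e, minusMap, polar_minus, Pi.single_apply]
    ring
  have hperp : ∀ x, (∀ v, QuadraticMap.polar (⇑(minusQ k F a b)) x (e.L v) = 0) →
      ∃ t : F, x = t • z := by
    intro x hx
    have h1 : x (.inr 1) = 0 := by
      have := hx (Pi.single (.inl ()) 1)
      simp [e, minusMap, polar_minus, Pi.single_apply] at this
      exact (mul_eq_zero.1 (show d * x (.inr 1) = 0 by rw [hd]; linear_combination this)).resolve_left hd0
    refine ⟨x (.inr 0), funext fun j => ?_⟩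
    rcases j with (i | i) | i
    · simpa [e, minusMap, polar_minus, hz', Pi.single_apply] using hx (Pi.single (.inr (.inr i)) 1)
    · simpa [e, minusMap, polar_minus, hz', Pi.single_apply] using hx (Pi.single (.inr (.inl i)) 1)
    · fin_cases i <;> simp [hz', h1]
  by_cases h33 : k = 3 ∧ Fintype.card F = 3
  · obtain ⟨rfl, hq⟩ := h33
    have h3 : (3 : F) = 0 := by
      have : ((3 : ℕ) : F) = 0 := by rw [← hq, Nat.cast_card_eq_zero]
      exact_mod_cast this
    have hd1 : d = 1 := by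
      have hdd : d * d = 1 := by
        have := FiniteField.pow_card_sub_one_eq_one d hd0
        rw [hq] at this
        simpa [pow_two] using this
      rcases mul_self_eq_one_iff.1 hdd with h | h
      · exact h
      · exact absurd ⟨1, by rw [h]; ring⟩ hns
    -- the orthogonal complement of the orthonormal pair
    let m : (Fin 3 ⊕ Fin 3 → F) →ₗ[F] ((Fin 3 ⊕ Fin 3) ⊕ Fin 2 → F) :=
      { toFun := fun v => Sum.elim
          (Sum.elim ![v (.inl 0), v (.inl 1), v (.inl 2) - v (.inr 2)]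
            ![v (.inr 0), v (.inr 1), -v (.inl 2) + v (.inr 2)])
          ![-a * (v (.inl 2) + v (.inr 2)), 2 * (v (.inl 2) + v (.inr 2))]
        map_add' := fun u v => by
          ext ((i | i) | i) <;> fin_cases i <;> simp <;> ring
        map_smul' := fun c v => by
          ext ((i | i) | i) <;> fin_cases i <;> simp <;> ring }
    let e₆ : Emb (minusQ 3 F a b) (plusQ 3 F) := ⟨m, fun v => by
      simp [m, minusQ_apply, plusQ_apply, Cfsg.quadFormMinus, Cfsg.quadFormPlus, Fin.sum_univ_three]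
      linear_combination ((v (.inl 2) + v (.inr 2)) ^ 2) * hd1 + ((v (.inl 2) + v (.inr 2)) ^ 2) * hd +
        v (.inl 2) * v (.inr 2) * h3, plusQ_nondegenerate 3⟩
    let y₇ : Unit ⊕ (Fin 3 ⊕ Fin 3) → F := Pi.single (.inr (.inl 2)) 1 + Pi.single (.inr (.inr 2)) 1
    have hy : Q' y₇ = 1 := by
      rw [hQ'a]
      simp [y₇, Pi.single_apply, Fin.sum_univ_three]
    refine bound_eight_three h2 h3 hQ (by simp) e (by simp) z hz hzL hperp y₇ hy e₆ ?_ ?_ ?_
      (TwoPairs.commutator_omega (plusQ_nondegenerate 3) (by simp) (plusPairs 3 (by norm_num))) 2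
      (card_le_omega_plusQ h2 3 le_rfl) E π hs hc hE
    · intro v
      simp [hz', e₆, m, polar_minus, Pi.single_apply]
      ring
    · intro v
      simp [y₇, e, e₆, m, minusMap, polar_minus, Pi.single_apply, Fin.sum_univ_three]
    · intro x hx
      have g0 := hx (Pi.single (.inr 0) 1)
      have g1 := hx (Pi.single (.inr 1) 1)
      have g3 := hx (Pi.single (.inl 0) 1)
      have g4 := hx (Pi.single (.inl 1) 1)
      have g5 := hx (Pi.single (.inl 2) 1)
      have g6 := hx (Pi.single (.inr 2) 1)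
      simp [e₆, m, polar_minus, Pi.single_apply, Fin.sum_univ_three] at g0 g1 g3 g4 g5 g6
      have hmid : x (.inl (.inl 2)) = x (.inl (.inr 2)) :=
        mul_left_cancel₀ h2 (by linear_combination g6 - g5)
      have hlast : x (.inr 1) = 0 :=
        mul_left_cancel₀ (mul_ne_zero h2 hd0) (by rw [hd]; linear_combination g5 + g6)
      rw [Matrix.range_cons, Matrix.range_cons, Matrix.range_empty, Set.union_empty,
        Set.singleton_union, Submodule.mem_span_pair]
      refine ⟨x (.inr 0), x (.inl (.inl 2)), funext fun j => ?_⟩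
      rcases j with (i | i) | i <;> fin_cases i <;>
        simp [hz', y₇, e, minusMap, Pi.single_apply, g0, g1, g3, g4, hmid, hlast]
  · refine bound_of_stabilizer h2 hQ (by simp; omega) (Or.inl (by simp; omega)) e z hz hzL hperp
      (TwoPairs.commutator_omega hnd (by simp; omega)
        (exists_twoPairs h2 hnd (by simp; omega)).some) 2 ?_ E π hs hc hE
    intro E' _ _ π' hs' hc' hE'
    let Φ := AutPOmega.omCongr hL
    have hcard : Nat.card ↥(Cfsg.Omega F ⇑Q') = Nat.card ↥(Cfsg.Omega F ⇑(oddQ k F)) :=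
      Nat.card_congr Φ.toEquiv
    rw [hcard]
    refine odd_bound h2 k hk h33 E' (Φ.toMonoidHom.comp π') (Φ.surjective.comp hs')
      (fun x hx => hc' ?_) hE'
    rw [MonoidHom.mem_ker, ← Φ.map_eq_one_iff]
    exact hx

theorem odd2_minus (h2 : (2 : F) ≠ 0) (k : ℕ) (hk : 3 ≤ k) {a b : F}
    (hab : ∀ z₁ z₂ : F, z₁ ^ 2 + a * z₁ * z₂ + b * z₂ ^ 2 = 0 → z₁ = 0 ∧ z₂ = 0) :
    Odd2 (minusQ k F a b) where
  two := h2
  nondeg := minusQ_nondegenerate k (disc_ne_zero_of_anisotropic h2 hab)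
  dim := by simp; omega
  pairs := ⟨minusPairs k (by omega) a b⟩
  three := by
    refine ⟨Pi.single (.inl (.inl ⟨0, by omega⟩)) 1 + Pi.single (.inl (.inr ⟨0, by omega⟩)) 1,
      Pi.single (.inl (.inl ⟨1, by omega⟩)) 1 + Pi.single (.inl (.inr ⟨1, by omega⟩)) 1,
      Pi.single (.inl (.inl ⟨2, by omega⟩)) 1 + Pi.single (.inl (.inr ⟨2, by omega⟩)) 1,
      ?_, ?_, ?_, ?_, ?_, ?_⟩ <;>
      simp [minusQ_apply, Cfsg.quadFormMinus, polar_minus, Pi.single_apply]
  bound := minus_bound h2 k hk hab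

theorem hasCyclic_minus_odd {q : ℕ} (hF : Fintype.card F = q) (hq : Odd q) (l : ℕ) (hl : 4 ≤ l)
    {a b : F} (hab : ∀ z₁ z₂ : F, z₁ ^ 2 + a * z₁ * z₂ + b * z₂ ^ 2 = 0 → z₁ = 0 ∧ z₂ = 0) :
    Cfsg.HasCyclicSchurMultiplier (Cfsg.POmega F (Cfsg.quadFormMinus (l - 1) F a b))
      (Nat.gcd 4 (q ^ l + 1)) := by
  obtain ⟨k, rfl⟩ : ∃ k, l = k + 1 := ⟨l - 1, by omega⟩
  rw [Nat.add_sub_cancel, ← coe_minusQ]
  have h2 := two_ne_zero_of_odd hF hq
  have H := odd2_minus h2 k (by omega) hab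
  have hiff := neg_one_mem_omega_minus hF hq k hab
  have hm : q ^ (k + 1) % 2 = 1 := Nat.odd_iff.1 hq.pow
  by_cases h : q ^ (k + 1) % 4 = 3
  · obtain ⟨g, hg, hgv⟩ := hiff.2 h
    have h4 : Nat.gcd 4 (q ^ (k + 1) + 1) = 4 :=
      Nat.gcd_eq_left (Nat.dvd_of_mod_eq_zero (by omega))
    rw [h4]
    refine H.mult_four hg hgv ?_
    have hcard : Fintype.card ((Fin k ⊕ Fin k) ⊕ Fin 2) = 2 * (k + 1) := by simp; ring
    rw [hcard, choose_two_double]
    by_contra hev
    rw [Nat.not_odd_iff_even] at hev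
    obtain ⟨j, hj⟩ := hev
    rw [hj, ← two_mul, pow_mul, Nat.pow_mod] at h
    obtain ⟨i, rfl⟩ := hq
    rw [show (2 * i + 1) ^ 2 = 4 * (i * i + i) + 1 by ring] at h
    simp [Nat.add_mod, Nat.mul_mod] at h
  · have h24 : Nat.gcd 4 (q ^ (k + 1) + 1) = 2 := by
      rw [Nat.gcd_rec, show (q ^ (k + 1) + 1) % 4 = 2 by omega]
      rfl
    rw [h24]
    exact H.mult_two fun hx => h (hiff.1 hx)

end CfsgLib.MultOrth
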