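import Cfsg.Agent.MultOrth.Lift
import Cfsg.Agent.Forms4.OmegaSixPlus

/-!
# Perfect central extensions of `Ω⁺₆(q)`, `q` odd
-/

set_option autoImplicit false
set_option linter.unusedSectionVars false
set_option linter.unusedSimpArgs false

namespace CfsgLib.MultOrth

open CfsgLib.Forms4 CfsgLib.StdForms CfsgLib.Spinor Matrix

universe u

variable {F : Type u} [Field F] [Fintype F]

/-- The bound for `Ω⁺₆`. -/
theorem card_le_omega_six (h2 : (2 : F) ≠ 0) {E : Type*} [Group E] [Finite E]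
    (π : E →* ↥(Cfsg.Omega F (Cfsg.quadFormPlus 3 F))) (hs : Function.Surjective π)
    (hc : π.ker ≤ Subgroup.center E) (hE : commutator E = ⊤) :
    Nat.card E ≤ 2 * Nat.card ↥(Cfsg.Omega F (Cfsg.quadFormPlus 3 F)) := by
  classical
  obtain ⟨φ, -, hφ⟩ := exists_isoHom (Cfsg.quadFormPlus 3 F) (altMat F) (altCoord F) altCoord_altMat
    (congrHom F) altMat_congr pfaffian_congr
  have hS : commutator (Matrix.SpecialLinearGroup (Fin 4) F) = ⊤ :=
    CfsgLib.Linear.commutator_SL_eq_top (by simp)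
  have hsc : ∀ g : φ.ker, g.1.1 0 0 * g.1.1 0 0 = 1 ∧
      Matrix.scalar (Fin 4) (g.1.1 0 0) = g.1.1 := fun g =>
    scalar_of_congr_fix fun x => (hφ g.1).1 g.2 x
  have hker : Nat.card φ.ker ≤ 2 := by
    have hinj : Function.Injective (fun g : φ.ker =>
        (⟨g.1.1 0 0, mul_self_eq_one_iff.1 (hsc g).1⟩ : ({1, -1} : Set F))) := fun g h e => by
      have e' : g.1.1 0 0 = h.1.1 0 0 := congrArg Subtype.val e
      exact Subtype.ext (Subtype.ext (by rw [← (hsc g).2, ← (hsc h).2, e']))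
    refine (Nat.card_le_card_of_injective _ hinj).trans ?_
    rw [Nat.card_coe_set_eq]
    exact (Set.ncard_insert_le _ _).trans (by simp)
  have hcard : Nat.card (Matrix.SpecialLinearGroup (Fin 4) F) =
      Nat.card φ.ker * Nat.card φ.range := by
    rw [← Subgroup.card_mul_index φ.ker, Subgroup.index_ker]
  have hrle : φ.range ≤ Cfsg.Omega F (Cfsg.quadFormPlus 3 F) := range_le_commutator φ hS
  have hO : 2 * Nat.card ↥(Cfsg.Omega F (Cfsg.quadFormPlus 3 F)) =
      Nat.card (Matrix.SpecialLinearGroup (Fin 4) F) := by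
    have hO := (Cfsg.Omega F (Cfsg.quadFormPlus 3 F)).index_mul_card
    have hi : (Cfsg.Omega F (Cfsg.quadFormPlus 3 F)).index = 4 := by
      rw [← coe_plusQ]
      exact CfsgLib.Forms.index_omega_odd h2 (plusQ_nondegenerate 3) (by simp)
    rw [hi, card_isometryGroup_quadFormPlus rfl 3 (by norm_num)] at hO
    simp [-Nat.card_eq_fintype_card, Finset.prod_range_succ] at hO
    rw [card_SL_four]
    linarith
  have hrange : φ.range = Cfsg.Omega F (Cfsg.quadFormPlus 3 F) := by
    refine Subgroup.eq_of_le_of_card_ge hrle (Nat.le_of_mul_le_mul_left ?_ (two_pos (α := ℕ)))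
    rw [hO, hcard]
    exact Nat.mul_le_mul_right _ hker
  let π₀ : E →* ↥(Cfsg.isometryGroup F (Cfsg.quadFormPlus 3 F)) :=
    (Cfsg.Omega F (Cfsg.quadFormPlus 3 F)).subtype.comp π
  have hr0 : π₀.range = φ.range := by
    rw [MonoidHom.range_comp, MonoidHom.range_eq_top.2 hs, ← MonoidHom.range_eq_map,
      Subgroup.range_subtype, hrange]
  obtain ⟨ρ, hρ⟩ := exists_sl_lift (n := 4) le_rfl
    (fun _ h => h2 (by
      have h0 : ((2 : ℕ) : F) = 0 := by rw [← h, Nat.cast_card_eq_zero]
      exact_mod_cast h0)) π₀ (fun x hx => hc (Subtype.ext hx)) φ (le_of_eq hr0.symm)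
  have hsurj : Function.Surjective (π.comp ρ) := fun g => by
    obtain ⟨A, hA⟩ : g.1 ∈ φ.range := by rw [hrange]; exact g.2
    exact ⟨A, Subtype.ext ((hρ A).trans hA)⟩
  have htop := SchurTheory.map_commutator_eq π hc ρ hsurj
  rw [hS, hE] at htop
  have hρs : Function.Surjective ρ := by
    rw [← MonoidHom.range_eq_top, MonoidHom.range_eq_map]; exact htop
  rw [hO]
  exact Nat.card_le_card_of_surjective ρ hρs

end CfsgLib.MultOrth
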