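import Cfsg.Agent.MultOrth.SphereBound
import Cfsg.Agent.MultOrth.PlusFinal
import Cfsg.Agent.MultOrth.PlusSix
import Cfsg.Agent.Forms.OrthDet

/-!
# The multipliers of `PΩ₂ₘ₊₁(q)`
-/

set_option autoImplicit false
set_option linter.unusedSectionVars false
set_option linter.unusedSimpArgs false

namespace CfsgLib.MultOrth

open Matrix CfsgLib.Spinor CfsgLib.Forms4 CfsgLib.StdForms CfsgLib.Forms

universe u

variable {F : Type u} [Field F] [Fintype F]

/-- The bound for `Ω⁺₂ₘ`, `m ≥ 3`, odd characteristic. -/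
theorem card_le_omega_plusQ (h2 : (2 : F) ≠ 0) (m : ℕ) (hm : 3 ≤ m) (E : Type u) [Group E]
    [Finite E] (π : E →* ↥(Cfsg.Omega F ⇑(plusQ m F))) (hs : Function.Surjective π)
    (hc : π.ker ≤ Subgroup.center E) (hE : commutator E = ⊤) :
    Nat.card E ≤ 2 * Nat.card ↥(Cfsg.Omega F ⇑(plusQ m F)) := by
  have key : ∀ Q : (Fin m ⊕ Fin m → F) → F, Q = Cfsg.quadFormPlus m F →
      ∀ π : E →* ↥(Cfsg.Omega F Q), Function.Surjective π → π.ker ≤ Subgroup.center E →
        Nat.card E ≤ 2 * Nat.card ↥(Cfsg.Omega F Q) := by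
    rintro _ rfl π hs hc
    rcases eq_or_lt_of_le hm with rfl | hm
    · exact card_le_omega_six h2 π hs hc hE
    · refine (card_le_omega_plus m hm (fun _ h => h2 ?_) π hs hc hE).1
      have h0 : ((2 : ℕ) : F) = 0 := by rw [← h, Nat.cast_card_eq_zero]
      exact_mod_cast h0
  exact key _ (coe_plusQ m) π hs hc

/-- A square different from `4` and `0`. -/
theorem exists_sq_ne_four (h2 : (2 : F) ≠ 0) (h3 : Fintype.card F ≠ 3) :
    ∃ s : F, s ≠ 0 ∧ s * s ≠ 4 := by
  classical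
  by_contra h
  push Not at h
  have hsub : (Finset.univ : Finset F) ⊆ {0, 2, -2} := fun s _ => by
    by_cases h0 : s = 0
    · simp [h0]
    · have : (s - 2) * (s + 2) = 0 := by linear_combination h s h0
      rcases mul_eq_zero.1 this with h' | h'
      · simp [sub_eq_zero.1 h']
      · simp [eq_neg_of_add_eq_zero_left h']
  have h3' : Fintype.card F ≤ 3 := (Finset.card_le_card hsub).trans Finset.card_le_three
  have hq := Fintype.one_lt_card (α := F)
  have : Fintype.card F ≠ 2 := fun h => h2 (by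
    have h0 : ((2 : ℕ) : F) = 0 := by rw [← h, Nat.cast_card_eq_zero]
    exact_mod_cast h0)
  omega

/-- The coordinates orthogonal to `x₀`. -/
noncomputable def oddEmb (h2 : (2 : F) ≠ 0) (m : ℕ) : Emb (oddQ m F) (plusQ m F) where
  L :=
    { toFun := fun v => Sum.elim 0 v
      map_add' := fun u v => by ext (i | i) <;> simp
      map_smul' := fun c v => by ext (i | i) <;> simp }
  quad v := by simp [oddQ_apply, plusQ_apply, Cfsg.quadFormOdd, Cfsg.quadFormPlus]
  nd := plusQ_nondegenerate m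

theorem odd_bound (h2 : (2 : F) ≠ 0) (m : ℕ) (hm : 3 ≤ m)
    (hexc : ¬(m = 3 ∧ Fintype.card F = 3)) (E : Type u) [Group E] [Finite E]
    (π : E →* ↥(Cfsg.Omega F ⇑(oddQ m F))) (hs : Function.Surjective π)
    (hc : π.ker ≤ Subgroup.center E) (hE : commutator E = ⊤) :
    Nat.card E ≤ 2 * Nat.card ↥(Cfsg.Omega F ⇑(oddQ m F)) := by
  classical
  refine bound_of_stabilizer h2 (oddQ_nondegenerate h2 m) (by simp; omega) ?_ (oddEmb h2 m)
    (Pi.single (.inl ()) 1) ?_ ?_ ?_ ?_ 2 (card_le_omega_plusQ h2 m hm) E π hs hc hE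
  · by_cases hm4 : 4 ≤ m
    · exact Or.inl (by simp; omega)
    · exact Or.inr (exists_sq_ne_four h2 fun h => hexc ⟨by omega, h⟩)
  · simp [oddQ_apply, Cfsg.quadFormOdd]
  · intro v
    simp [polar_odd, oddEmb]
  · intro x hx
    refine ⟨x (.inl ()), funext fun j => ?_⟩
    rcases j with ⟨⟩ | i | i
    · simp
    · simpa [polar_odd, oddEmb, Pi.single_apply] using hx (Pi.single (.inr i) 1)
    · simpa [polar_odd, oddEmb, Pi.single_apply] using hx (Pi.single (.inl i) 1)
  · exact TwoPairs.commutator_omega (plusQ_nondegenerate m) (by simp; omega) (plusPairs m (by omega))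

theorem odd2_odd (h2 : (2 : F) ≠ 0) (m : ℕ) (hm : 3 ≤ m)
    (hexc : ¬(m = 3 ∧ Fintype.card F = 3)) : Odd2 (oddQ m F) where
  two := h2
  nondeg := oddQ_nondegenerate h2 m
  dim := by simp; omega
  pairs := ⟨oddPairs m (by omega)⟩
  three := by
    refine ⟨Pi.single (.inr (.inl ⟨0, by omega⟩)) 1 + Pi.single (.inr (.inr ⟨0, by omega⟩)) 1,
      Pi.single (.inr (.inl ⟨1, by omega⟩)) 1 + Pi.single (.inr (.inr ⟨1, by omega⟩)) 1,
      Pi.single (.inr (.inl ⟨2, by omega⟩)) 1 + Pi.single (.inr (.inr ⟨2, by omega⟩)) 1,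
      ?_, ?_, ?_, ?_, ?_, ?_⟩ <;>
      simp [oddQ_apply, Cfsg.quadFormOdd, polar_odd, Pi.single_apply]
  bound := odd_bound h2 m hm hexc

theorem hasCyclic_odd {q : ℕ} (hF : Fintype.card F = q) (hq : Odd q) (m : ℕ) (hm : 3 ≤ m)
    (hexc : ¬(m = 3 ∧ q = 3)) :
    Cfsg.HasCyclicSchurMultiplier (Cfsg.POmega F (Cfsg.quadFormOdd m F)) 2 := by
  have h2 := two_ne_zero_of_odd hF hq
  rw [← coe_oddQ]
  refine (odd2_odd h2 m hm (hF ▸ hexc)).mult_two ?_
  rintro ⟨g, hg, hgv⟩
  have hdet : (mat (oddQ m F) g).det = 1 := by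
    have h := omega_le_special (Q := oddQ m F) hg
    exact congrArg Units.val (MonoidHom.mem_ker.1 h)
  rw [hgv, Matrix.det_neg, Matrix.det_one, mul_one] at hdet
  have hodd : Odd (Fintype.card (Unit ⊕ (Fin m ⊕ Fin m))) := ⟨m, by simp; ring⟩
  rw [hodd.neg_one_pow] at hdet
  exact h2 (by linear_combination -hdet)

end CfsgLib.MultOrth
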