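import Cfsg.Agent.MultOrth.Spin
import Cfsg.Agent.Forms4.POmegaOrders
import Mathlib.GroupTheory.SpecificGroups.KleinFour

/-!
# Multipliers of `PΩ(Q)` from the bound `|E| ≤ 2|Ω(Q)|`
-/

set_option autoImplicit false
set_option linter.unusedSectionVars false

namespace CfsgLib.MultOrth

open Matrix CfsgLib.Spinor CfsgLib.Forms4

universe u

variable {F : Type u} [Field F] [Fintype F] {J : Type} [Fintype J] [DecidableEq J]
  {Q : QuadraticForm F (J → F)}

/-- The hypotheses: a nondegenerate form with three orthogonal vectors of norm one, in odd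
characteristic, and the bound for perfect central extensions of `Ω`. -/
structure Odd2 (Q : QuadraticForm F (J → F)) : Prop where
  two : (2 : F) ≠ 0
  nondeg : (QuadraticMap.polarBilin Q).Nondegenerate
  dim : 5 ≤ Fintype.card J
  pairs : Nonempty (TwoPairs Q)
  three : ∃ a b c : J → F, Q a = 1 ∧ Q b = 1 ∧ Q c = 1 ∧ QuadraticMap.polar (⇑Q) a b = 0 ∧
    QuadraticMap.polar (⇑Q) a c = 0 ∧ QuadraticMap.polar (⇑Q) b c = 0
  bound : ∀ (E : Type u) [Group E] [Finite E] (π : E →* ↥(Cfsg.Omega F ⇑Q)),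
    Function.Surjective π → π.ker ≤ Subgroup.center E → commutator E = ⊤ →
      Nat.card E ≤ 2 * Nat.card ↥(Cfsg.Omega F ⇑Q)

namespace Odd2

variable (H : Odd2 Q)

/-- The projection onto `PΩ`. -/
def sig : Spin Q →* Cfsg.POmega F ⇑Q :=
  (QuotientGroup.mk' (Subgroup.center ↥(Cfsg.Omega F ⇑Q))).comp (proj Q H.two H.nondeg)

include H in
theorem perfect_omega : commutator ↥(Cfsg.Omega F ⇑Q) = ⊤ :=
  H.pairs.elim fun P => TwoPairs.commutator_omega H.nondeg H.dim P

include H in
theorem perfect_spin : commutator (Spin Q) = ⊤ := by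
  obtain ⟨a, b, c, ha, hb, hc, hab, hac, hbc⟩ := H.three
  exact commutator_spin Q H.two H.nondeg H.perfect_omega ha hb hc hab hac hbc

theorem sig_surjective : Function.Surjective H.sig :=
  (QuotientGroup.mk'_surjective _).comp (proj_surjective Q H.two H.nondeg)

theorem mem_ker_sig (x : Spin Q) :
    x ∈ H.sig.ker ↔ proj Q H.two H.nondeg x ∈ Subgroup.center ↥(Cfsg.Omega F ⇑Q) := by
  rw [MonoidHom.mem_ker, sig, MonoidHom.comp_apply, QuotientGroup.mk'_apply, QuotientGroup.eq_one_iff]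

theorem isStemExtension_sig : Cfsg.IsStemExtension H.sig := by
  refine ⟨H.sig_surjective, fun x hx => ?_, by rw [H.perfect_spin]; exact le_top⟩
  rw [mem_ker_sig] at hx
  refine Subgroup.mem_center_iff.2 fun y => ?_
  have e := hom_ext_of_perfect (proj Q H.two H.nondeg) (ker_proj_le_center Q H.two H.nondeg)
    H.perfect_spin (MulAut.conj x).toMonoidHom (MonoidHom.id _) (MonoidHom.ext fun z => by
      simp only [MonoidHom.comp_apply, MulEquiv.coe_toMonoidHom, MulAut.conj_apply, map_mul,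
        map_inv, MonoidHom.id_apply]
      rw [← Subgroup.mem_center_iff.1 hx _, mul_inv_cancel_right])
  have := DFunLike.congr_fun e y
  simp only [MulEquiv.coe_toMonoidHom, MulAut.conj_apply, MonoidHom.id_apply] at this
  exact (mul_inv_eq_iff_eq_mul.1 this).symm

theorem card_ker_sig :
    Nat.card H.sig.ker = 2 * Nat.card (Subgroup.center ↥(Cfsg.Omega F ⇑Q)) := by
  have h := Subgroup.card_mul_index H.sig.ker
  rw [Subgroup.index_ker, MonoidHom.range_eq_top.2 H.sig_surjective, Subgroup.card_top,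
    card_spin Q H.two H.nondeg,
    (Subgroup.center ↥(Cfsg.Omega F ⇑Q)).card_eq_card_quotient_mul_card_subgroup] at h
  refine Nat.eq_of_mul_eq_mul_right (Nat.card_pos (α := Cfsg.POmega F ⇑Q)) ?_
  rw [h]
  ring

include H in
theorem card_stem_le (Δ : Type u) [Group Δ] [Finite Δ] (τ : Δ →* Cfsg.POmega F ⇑Q)
    (hτ : Cfsg.IsStemExtension τ) : Nat.card Δ ≤ Nat.card (Spin Q) := by
  rw [card_spin Q H.two H.nondeg]
  exact card_stem_le_of_perfect (QuotientGroup.mk' (Subgroup.center ↥(Cfsg.Omega F ⇑Q)))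
    (QuotientGroup.mk'_surjective _) (by rw [QuotientGroup.ker_mk']) H.perfect_omega _ H.bound Δ τ hτ

include H in
/-- `-1 ∉ Ω`: the multiplier has order two. -/
theorem mult_two (hno : ¬∃ g : ↥(Cfsg.isometryGroup F ⇑Q), g ∈ Cfsg.Omega F ⇑Q ∧ mat Q g = -1) :
    Cfsg.HasCyclicSchurMultiplier (Cfsg.POmega F ⇑Q) 2 := by
  haveI := finite_spin Q H.two H.nondeg
  obtain ⟨P⟩ := H.pairs
  have hk : Nat.card H.sig.ker = 2 := by
    rw [H.card_ker_sig, card_center_omega_one H.nondeg H.dim P fun g hg hgv => absurd ⟨g, hg, hgv⟩ hno]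
  haveI : Fact (Nat.Prime 2) := ⟨Nat.prime_two⟩
  haveI : IsCyclic H.sig.ker := isCyclic_of_prime_card hk
  exact MultPSL.hasCyclicSchurMultiplier_of_bound H.sig H.isStemExtension_sig hk H.card_stem_le

theorem exists_lift {g : ↥(Cfsg.isometryGroup F ⇑Q)} (hg : g ∈ Cfsg.Omega F ⇑Q)
    (hgv : mat Q g = -1) :
    Nat.card H.sig.ker = 4 ∧ ∃ w : H.sig.ker,
      (∀ x : H.sig.ker, proj Q H.two H.nondeg x.1 = 1 ∨
        proj Q H.two H.nondeg x.1 = proj Q H.two H.nondeg w.1) ∧
      (Even ((Fintype.card J).choose 2) → w.1 * w.1 = 1) ∧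
      (Odd ((Fintype.card J).choose 2) → w.1 * w.1 = negOne Q) := by
  obtain ⟨P⟩ := H.pairs
  obtain ⟨w, hw, hsq⟩ := exists_lift_neg_one Q H.two H.nondeg hg hgv
  have hmem : w ∈ H.sig.ker := by
    rw [mem_ker_sig]
    refine (TwoPairs.mem_center_omega_iff H.nondeg H.dim P _).2 ⟨-1, by ring, ?_⟩
    rw [hw, hgv, neg_smul, one_smul]
  refine ⟨?_, ⟨w, hmem⟩, fun x => ?_, hsq⟩
  · rw [H.card_ker_sig, card_center_omega_two H.nondeg H.dim P H.two hg hgv]
  · obtain ⟨r, hr, hxr⟩ := (TwoPairs.mem_center_omega_iff H.nondeg H.dim P _).1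
      ((H.mem_ker_sig _).1 x.2)
    rcases mul_self_eq_one_iff.1 hr with rfl | rfl
    · exact Or.inl (Subtype.ext (mat_ext Q (by rw [hxr, one_smul, Subgroup.coe_one, mat_one])))
    · refine Or.inr (Subtype.ext (mat_ext Q ?_))
      rw [hxr, neg_smul, one_smul, hw, hgv]

include H in
/-- `-1 ∈ Ω` and an odd number of pairs: cyclic of order four. -/
theorem mult_four {g : ↥(Cfsg.isometryGroup F ⇑Q)} (hg : g ∈ Cfsg.Omega F ⇑Q)
    (hgv : mat Q g = -1) (hodd : Odd ((Fintype.card J).choose 2)) :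
    Cfsg.HasCyclicSchurMultiplier (Cfsg.POmega F ⇑Q) 4 := by
  haveI := finite_spin Q H.two H.nondeg
  obtain ⟨hk, w, -, -, hw⟩ := H.exists_lift hg hgv
  have ho : orderOf w = 2 ^ (1 + 1) := by
    refine orderOf_eq_prime_pow (fun e => negOne_ne_one Q H.two H.nondeg ?_) ?_
    · rw [← hw hodd, ← sq]; exact congrArg Subtype.val (by simpa using e)
    · apply Subtype.ext
      show w.1 ^ 2 ^ (1 + 1) = 1
      rw [show 2 ^ (1 + 1) = 2 * 2 from rfl, pow_mul, sq w.1, hw hodd, sq, negOne_mul_self]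
  haveI : IsCyclic H.sig.ker := isCyclic_of_orderOf_eq_card w (by rw [ho, hk]; rfl)
  exact MultPSL.hasCyclicSchurMultiplier_of_bound H.sig H.isStemExtension_sig hk H.card_stem_le

include H in
/-- `-1 ∈ Ω` and an even number of pairs: a four-group. -/
theorem mult_klein {g : ↥(Cfsg.isometryGroup F ⇑Q)} (hg : g ∈ Cfsg.Omega F ⇑Q)
    (hgv : mat Q g = -1) (heven : Even ((Fintype.card J).choose 2)) :
    Cfsg.HasSchurMultiplier (Cfsg.POmega F ⇑Q) (Multiplicative (ZMod 2 × ZMod 2)) := by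
  haveI := finite_spin Q H.two H.nondeg
  obtain ⟨hk, w, hall, hw, -⟩ := H.exists_lift hg hgv
  have hsq : ∀ x : H.sig.ker, x ^ 2 = 1 := by
    intro x
    have key : ∀ y : Spin Q, proj Q H.two H.nondeg y = 1 → y * y = 1 := fun y hy => by
      rcases mem_ker_proj Q H.two H.nondeg y hy with rfl | rfl
      · exact one_mul 1
      · exact negOne_mul_self Q
    apply Subtype.ext
    show x.1 ^ 2 = 1
    rw [sq]
    rcases hall x with h | h
    · exact key _ h
    · have hz : proj Q H.two H.nondeg (w.1⁻¹ * x.1) = 1 := by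
        rw [map_mul, map_inv, h, inv_mul_cancel]
      have hc : Commute w.1 (w.1⁻¹ * x.1) :=
        (Subgroup.mem_center_iff.1 (H.isStemExtension_sig.2.1 w.2) _).symm
      calc x.1 * x.1 = (w.1 * (w.1⁻¹ * x.1)) * (w.1 * (w.1⁻¹ * x.1)) := by
            rw [mul_inv_cancel_left]
        _ = w.1 * w.1 * ((w.1⁻¹ * x.1) * (w.1⁻¹ * x.1)) := by
            rw [mul_assoc, ← mul_assoc (w.1⁻¹ * x.1), ← hc.eq, mul_assoc, mul_assoc]
            group
        _ = 1 := by rw [hw heven, key _ hz, one_mul]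
  haveI : IsKleinFour H.sig.ker :=
    ⟨hk, by
      haveI : Nontrivial H.sig.ker := Finite.one_lt_card_iff_nontrivial.1 (by rw [hk]; norm_num)
      exact (Monoid.exponent_eq_prime_iff Nat.prime_two).2 fun x hx => orderOf_eq_prime (hsq x) hx⟩
  haveI : IsKleinFour (Multiplicative (ZMod 2 × ZMod 2)) := inferInstance
  obtain ⟨e⟩ := IsKleinFour.nonempty_mulEquiv (G₁ := H.sig.ker)
    (G₂ := Multiplicative (ZMod 2 × ZMod 2))
  exact hasSchurMultiplier_of_bound H.sig H.isStemExtension_sig e H.card_stem_le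

end Odd2

/-- Perfect `Ω` with trivial centre all of whose perfect central extensions are trivial. -/
theorem hasSchurMultiplier_trivial {Q : (J → F) → F} (hperf : commutator ↥(Cfsg.Omega F Q) = ⊤)
    (hb : ∀ (E : Type u) [Group E] [Finite E] (π : E →* ↥(Cfsg.Omega F Q)),
      Function.Surjective π → π.ker ≤ Subgroup.center E → commutator E = ⊤ →
        Nat.card E ≤ Nat.card ↥(Cfsg.Omega F Q))
    (hc : Nat.card (Subgroup.center ↥(Cfsg.Omega F Q)) = 1)
    {A : Type*} [CommGroup A] [Subsingleton A] :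
    Cfsg.HasSchurMultiplier (Cfsg.POmega F Q) A := by
  let σ : ↥(Cfsg.Omega F Q) →* Cfsg.POmega F Q := QuotientGroup.mk' _
  have hk : σ.ker = Subgroup.center _ := QuotientGroup.ker_mk' _
  haveI : Subsingleton σ.ker := by
    rw [hk]; exact (Nat.card_eq_one_iff_unique.1 hc).1
  letI : Unique σ.ker := uniqueOfSubsingleton 1
  letI : Unique A := uniqueOfSubsingleton 1
  exact hasSchurMultiplier_of_bound σ
    ⟨QuotientGroup.mk'_surjective _, by rw [hk], by rw [hperf]; exact le_top⟩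
    MulEquiv.ofUnique
    fun Δ _ _ τ hτ => card_stem_le_of_perfect σ (QuotientGroup.mk'_surjective _) (by rw [hk]) hperf _ hb Δ τ hτ

end CfsgLib.MultOrth
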