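import Cfsg.Agent.MultOrth.PlusBound

/-!
# The two exceptional pairings over fields with at most three elements

Over three elements they equal their inverses and have order dividing three; over two elements
the Hall-Witt identity with a fifth index kills the first one.
-/

set_option autoImplicit false
set_option linter.unusedSimpArgs false
set_option linter.unusedSectionVars false

namespace CfsgLib.MultOrth

open scoped commutatorElement
open Matrix CfsgLib.SL2Pres CfsgLib.SLnPres CfsgLib.ChevClassical CfsgLib.DnPres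
open CfsgLib.SpnPres (IsMon monOf isMon_monOf)
open CfsgLib.SteinbergSLn (conj_fst)

local notation "SL2" F:max => Matrix.SpecialLinearGroup (Fin 2) F

section Central

variable {E G : Type*} [Group E] [Group G] (φ : E →* G) (hc : φ.ker ≤ Subgroup.center E)

/-- The Hall-Witt step. -/
theorem assoc {A B C : E} (cAC : Commute A C) (cPQ : Commute ⁅A, B⁆ ⁅B, C⁆)
    (cR : Commute ⁅B, C⁆ ⁅⁅A, B⁆, C⁆) : ⁅⁅A, B⁆, C⁆ = ⁅A, ⁅B, C⁆⁆ := by
  set P := ⁅A, B⁆ with hP
  set Q := ⁅B, C⁆ with hQ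
  have h : A * Q * A⁻¹ = Q * ⁅P, C⁆ := by
    rw [← MulAut.conj_apply, hQ, map_commutatorElement, MulAut.conj_apply, MulAut.conj_apply,
      cAC.eq, mul_inv_cancel_right, show A * B * A⁻¹ = P * B by
        rw [hP, commutatorElement_def]; group, MultPSL.comm_mul_left, ← hQ, cPQ.eq,
      mul_inv_cancel_right]
  rw [commutatorElement_def A Q, h, cR.eq, mul_inv_cancel_right]

include hc

omit hc in
theorem comm_mul_mul (a b c d : E) : ⁅a * b, c * d⁆ =
    a * (⁅b, c⁆ * (c * ⁅b, d⁆ * c⁻¹)) * a⁻¹ * (⁅a, c⁆ * (c * ⁅a, d⁆ * c⁻¹)) := by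
  rw [MultPSL.comm_mul_left, MultPSL.comm_mul_right, MultPSL.comm_mul_right]

theorem comm_central {u v : E} (h : Commute (φ u) (φ v)) (g : E) : Commute g ⁅u, v⁆ :=
  Subgroup.mem_center_iff.1 (hc (by
    rw [MonoidHom.mem_ker, map_commutatorElement, commutatorElement_eq_one_iff_commute]; exact h)) g

theorem commute_conj {u v u' v' w : E} (h : Commute u' v') (hu : φ w * φ u * (φ w)⁻¹ = φ u')
    (hv : φ w * φ v * (φ w)⁻¹ = φ v') : Commute u v := by
  have h1 : Commute (w * u * w⁻¹) (w * v * w⁻¹) :=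
    commute_congr φ hc h (by rw [map_mul, map_mul, map_inv, hu]) (by rw [map_mul, map_mul, map_inv, hv])
  have := h1.map (MulAut.conj w⁻¹).toMonoidHom
  simp only [MulEquiv.coe_toMonoidHom, MulAut.conj_apply, inv_inv] at this
  convert this using 1 <;> group

/-- A pairing value moved to its inverse and of order dividing three is trivial. -/
theorem commute_of_swap {u v w : E} (him : Commute (φ u) (φ v))
    (hu : φ w * φ u * (φ w)⁻¹ = (φ v)⁻¹) (hv : φ w * φ v * (φ w)⁻¹ = (φ u)⁻¹)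
    (h3 : φ v * φ v * φ v = 1) : Commute u v := by
  set o := ⁅u, v⁆ with ho
  have hoc : ∀ g, Commute g o := comm_central φ hc him
  have e1 : o = ⁅v⁻¹, u⁻¹⁆ := by
    rw [← comm_congr φ hc (u := w * u * w⁻¹) (v := w * v * w⁻¹) (u' := v⁻¹) (v' := u⁻¹)
      (by rw [map_mul, map_mul, map_inv, hu, map_inv]) (by rw [map_mul, map_mul, map_inv, hv, map_inv])]
    have : MulAut.conj w ⁅u, v⁆ = ⁅u, v⁆ := by
      rw [MulAut.conj_apply, (hoc w).eq, mul_inv_cancel_right]
    rw [map_commutatorElement] at this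
    simpa only [MulAut.conj_apply] using this.symm
  have e2 : o * o = 1 := by
    have : ⁅v⁻¹, u⁻¹⁆ = o⁻¹ := by
      have : ⁅v⁻¹, u⁻¹⁆ = (v⁻¹ * u⁻¹) * o⁻¹ * (v⁻¹ * u⁻¹)⁻¹ := by
        rw [ho]; simp only [commutatorElement_def]; group
      rw [this, ((hoc _).inv_right).eq, mul_inv_cancel_right]
    nth_rewrite 1 [e1]
    rw [this, inv_mul_cancel]
  have e3 : o * o * o = 1 := by
    have hv3 : v * v * v ∈ Subgroup.center E := hc (by rw [MonoidHom.mem_ker, map_mul, map_mul, h3])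
    have h1 : ⁅u, v * v * v⁆ = 1 :=
      commutatorElement_eq_one_iff_commute.2 (Subgroup.mem_center_iff.1 hv3 u)
    rw [MultPSL.comm_mul_right, MultPSL.comm_mul_right, ← ho, (hoc v).eq, mul_inv_cancel_right,
      (hoc (v * v)).eq, mul_inv_cancel_right] at h1
    exact h1
  rw [← commutatorElement_eq_one_iff_commute, ← ho]
  rwa [e2, one_mul] at e3

end Central

variable {E F : Type*} [Group E] [Finite E] [Field F] [Fintype F] {k : ℕ}

theorem cube_xU (h3 : Fintype.card F = 3) (t : F) : (xU t * xU t * xU t : SL2 F) = 1 := by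
  have hchar : ((3 : ℕ) : F) = 0 := by rw [← h3, Nat.cast_card_eq_zero]
  rw [← xU_add, ← xU_add, show t + t + t = t * ((3 : ℕ) : F) by push_cast; ring, hchar, mul_zero,
    xU_zero]

namespace Plus

variable (A : Plus E F k)

theorem conjR {M : OG (k + 4) F} {f : Equiv.Perm (SI (k + 4))} {c : SI (k + 4) → Fˣ}
    (hM : Moves M f c) (hf : ∀ u, f (bar u) = bar (f u)) (hc : ∀ u, c (bar u) = (c u)⁻¹)
    (u v : SI (k + 4)) (t : F) :
    M * eR u v (xU t) * M⁻¹ = eR (f u) (f v) (xU ((c u * c v : Fˣ) * t)) := by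
  rw [hM.eR hf hc, cD_xU]

theorem conj_lev (i j : Fin (k + 4)) (hij : i ≠ j) (u v : SI (k + 4)) (t : F) :
    lev (eA i j wW) * eR u v (xU t) * (lev (eA i j wW))⁻¹ =
      eR (Equiv.swap i j u.1, u.2) (Equiv.swap i j v.1, v.2)
        (xU (((monC (eA_wW_mon' (F := F) i j hij) u * monC (eA_wW_mon' (F := F) i j hij) v : Fˣ) : F) * t)) :=
  conjR (lev_moves (eA_wW_mon' i j hij)) (monPerm_bar _) (monC_bar _) u v t

theorem conj_p (u v : SI (k + 4)) (t : F) :
    A.φ A.p * eR u v (xU t) * (A.φ A.p)⁻¹ =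
      eR (pPerm k u) (pPerm k v) (xU (((pC (k + 4) F u * pC (k + 4) F v : Fˣ) : F) * t)) := by
  rw [A.hp]; exact conjR (eR_wW_moves k) (pPerm_bar k) pC_bar u v t

theorem orth_of_three (h3 : Fintype.card F = 3) : A.Orth := by
  set u := A.ρ (tv 0 1 1)
  set v := A.σ (xU 1)
  let w₀ := A.ρ (eA 0 1 wW) * A.ρ (eA 0 2 wW)
  have hu : A.φ (w₀ * u * w₀⁻¹) = eR ((2 : Fin (k + 4)), false) (0, true) (xU (-1)) := by
    simp only [w₀, u, _root_.mul_inv_rev, map_mul, map_inv, A.hρ, ← eA_xU i01, lev_eA]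
    calc _ = lev (eA (0 : Fin (k + 4)) 1 (wW : SL2 F)) * (lev (eA (0 : Fin (k + 4)) 2 wW) * eR ((0 : Fin (k + 4)), false) (1, true) (xU 1) *
          (lev (eA (0 : Fin (k + 4)) 2 wW))⁻¹) * (lev (eA (0 : Fin (k + 4)) 1 wW))⁻¹ := by rw [lev_eA, lev_eA]; group
      _ = _ := by
        rw [conj_lev 0 2 i02, conj_lev 0 1 i01]
        simp [monC, cu, i01, i01.symm, i02, i02.symm, i12, i12.symm, Equiv.swap_apply_of_ne_of_ne]
  have hv : A.φ (w₀ * v * w₀⁻¹) = eR ((2 : Fin (k + 4)), false) (0, false) (xU (-1)) := by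
    simp only [w₀, v, _root_.mul_inv_rev, map_mul, map_inv, A.hρ, A.φ_σ]
    calc _ = lev (eA (0 : Fin (k + 4)) 1 (wW : SL2 F)) * (lev (eA (0 : Fin (k + 4)) 2 wW) * eR ((0 : Fin (k + 4)), false) (1, false) (xU 1) *
          (lev (eA (0 : Fin (k + 4)) 2 wW))⁻¹) * (lev (eA (0 : Fin (k + 4)) 1 wW))⁻¹ := by group
      _ = _ := by
        rw [conj_lev 0 2 i02, conj_lev 0 1 i01]
        simp [monC, cu, i01, i01.symm, i02, i02.symm, i12, i12.symm, Equiv.swap_apply_of_ne_of_ne]
  refine commute_conj A.φ A.central (w := w₀) ?_ (by rw [← map_inv, ← map_mul, ← map_mul])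
    (by rw [← map_inv, ← map_mul, ← map_mul])
  refine commute_of_swap A.φ A.central (w := A.p * A.ρ (eA 0 1 wW)) ?_ ?_ ?_ ?_
  · have := (A.images01 (xU 1) (xU 1)).map (MulAut.conj (A.φ w₀)).toMonoidHom
    rw [eA_xU i01] at this
    simpa only [MulEquiv.coe_toMonoidHom, MulAut.conj_apply, ← map_inv, ← map_mul] using this
  · rw [hu, hv, map_mul, A.hρ, ← map_inv (eR ((2 : Fin (k + 4)), false) (0, false)), ← xU_neg,
      neg_neg, show ∀ a b x : OG (k + 4) F, a * b * x * (a * b)⁻¹ = a * (b * x * b⁻¹) * a⁻¹ from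
        fun a b x => by group, conj_lev 0 1 i01, conj_p]
    simp [monC, cu, pC, pPerm_apply, i01, i01.symm, i02, i02.symm, i12, i12.symm,
      Equiv.swap_apply_of_ne_of_ne]
  · rw [hu, hv, map_mul, A.hρ, ← map_inv (eR ((2 : Fin (k + 4)), false) (0, true)), ← xU_neg,
      neg_neg, show ∀ a b x : OG (k + 4) F, a * b * x * (a * b)⁻¹ = a * (b * x * b⁻¹) * a⁻¹ from
        fun a b x => by group, conj_lev 0 1 i01, conj_p]
    simp [monC, cu, pC, pPerm_apply, i01, i01.symm, i02, i02.symm, i12, i12.symm,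
      Equiv.swap_apply_of_ne_of_ne]
  · rw [hv, ← map_mul, ← map_mul, cube_xU h3, map_one]

theorem disj_of_three (h3 : Fintype.card F = 3) : A.Disj := fun hk => by
  set u := A.ρ (tv 2 3 1)
  set v := A.σ (xU 1)
  let w₀ := A.ρ (eA 3 0 wW)
  have hu : A.φ (w₀ * u * w₀⁻¹) = eR ((2 : Fin (k + 4)), false) (0, true) (xU (-1)) := by
    simp only [w₀, u, map_mul, map_inv, A.hρ, ← eA_xU i23]
    rw [lev_eA 2 3, conj_lev 3 0 i03.symm]
    simp [monC, cu, i02, i02.symm, i03, i03.symm, i23, i23.symm, Equiv.swap_apply_of_ne_of_ne]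
  have hv : A.φ (w₀ * v * w₀⁻¹) = eR ((3 : Fin (k + 4)), false) (1, false) (xU 1) := by
    simp only [w₀, v, map_mul, map_inv, A.hρ, A.φ_σ]
    rw [conj_lev 3 0 i03.symm]
    simp [monC, cu, i01, i01.symm, i03, i03.symm, i13, i13.symm, Equiv.swap_apply_of_ne_of_ne]
  refine commute_conj A.φ A.central (w := w₀) ?_ (by rw [← map_inv, ← map_mul, ← map_mul])
    (by rw [← map_inv, ← map_mul, ← map_mul])
  refine commute_of_swap A.φ A.central (w := A.p * A.ρ (eA 2 3 wW)) ?_ ?_ ?_ ?_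
  · have := ((A.images_fix2 (fix2_tv23 (F := F) hk 1) (xU 1))).map (MulAut.conj (A.φ w₀)).toMonoidHom
    simpa only [MulEquiv.coe_toMonoidHom, MulAut.conj_apply, ← map_inv, ← map_mul] using this
  · rw [hu, hv, map_mul, A.hρ, ← map_inv (eR ((3 : Fin (k + 4)), false) (1, false)), ← xU_neg,
      show ∀ a b x : OG (k + 4) F, a * b * x * (a * b)⁻¹ = a * (b * x * b⁻¹) * a⁻¹ from
        fun a b x => by group, conj_lev 2 3 i23, conj_p]
    simp [monC, cu, pC, pPerm_apply, i01, i01.symm, i02, i02.symm, i03, i03.symm, i12, i12.symm,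
      i13, i13.symm, i23, i23.symm, Fin.ext_iff, Equiv.swap_apply_of_ne_of_ne]
  · rw [hu, hv, map_mul, A.hρ, ← map_inv (eR ((2 : Fin (k + 4)), false) (0, true)), ← xU_neg,
      neg_neg, show ∀ a b x : OG (k + 4) F, a * b * x * (a * b)⁻¹ = a * (b * x * b⁻¹) * a⁻¹ from
        fun a b x => by group, conj_lev 2 3 i23, conj_p]
    simp [monC, cu, pC, pPerm_apply, i01, i01.symm, i02, i02.symm, i03, i03.symm, i12, i12.symm,
      i13, i13.symm, i23, i23.symm, Fin.ext_iff, Equiv.swap_apply_of_ne_of_ne]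
  · rw [hv, ← map_mul, ← map_mul, cube_xU h3, map_one]

/-! ### Two elements -/

/-- `x` lifts the root element with indices `u`, `v`. -/
def Im (x : E) (u v : SI (k + 4)) : Prop := A.φ x = eR u v (xU 1)

/-- Permutations of signed indices induced by conjugation. -/
def Real (f : Equiv.Perm (SI (k + 4))) : Prop :=
  ∃ w : E, ∀ u v (g : SL2 F), A.φ w * eR u v g * (A.φ w)⁻¹ = eR (f u) (f v) g

theorem units_eq_one (h2 : Fintype.card F = 2) (a : Fˣ) : a = 1 :=
  Units.ext (by
    have := FiniteField.pow_card_sub_one_eq_one (a : F) a.ne_zero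
    rwa [h2, pow_one] at this)

variable {A}
variable (h2 : Fintype.card F = 2)
include h2

theorem eR_comm_two (u v : SI (k + 4)) (g : SL2 F) : eR u v g = eR v u g := by
  rw [eR_symm v u, units_eq_one h2 (-1), cD_one]

theorem Im.symm {x : E} {u v : SI (k + 4)} (h : A.Im x u v) : A.Im x v u :=
  h.trans (eR_comm_two h2 _ _ _)

theorem Im.levi {i j : Fin (k + 4)} (h : i ≠ j) : A.Im (A.ρ (tv i j 1)) (i, false) (j, true) := by
  rw [Im, A.hρ, ← eA_xU h, lev_eA]

theorem real_mon {M : Matrix.SpecialLinearGroup (Fin (k + 4)) F} {π : Equiv.Perm (Fin (k + 4))}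
    {c : Fin (k + 4) → F} (h : IsMon M π c) : A.Real (monPerm π) :=
  ⟨A.ρ M, fun u v g => by
    rw [A.hρ, (lev_moves h).eR (monPerm_bar _) (monC_bar _),
      units_eq_one h2 (monC h u * monC h v), cD_one]⟩

theorem real_refl {i j : Fin (k + 4)} (hij : i ≠ j) : A.Real (refl (i, false) (j, false)) := by
  obtain ⟨w, hw⟩ := real_mon (A := A) h2 (isMon_monOf (F := F) (perm2 i j) 2)
  have e : refl ((i, false) : SI (k + 4)) (j, false) =
      monPerm (perm2 i j) * pPerm k * (monPerm (perm2 i j))⁻¹ := by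
    rw [pPerm_refl, conj_refl _ (monPerm_bar _)]
    simp [monPerm_apply, perm2_zero hij, perm2_one]
  refine ⟨w * A.p * w⁻¹, fun u v g => ?_⟩
  have hwi : ∀ u v (g : SL2 F), (A.φ w)⁻¹ * eR u v g * A.φ w =
      eR ((monPerm (perm2 i j))⁻¹ u) ((monPerm (perm2 i j))⁻¹ v) g := fun u v g => by
    have := hw ((monPerm (perm2 i j))⁻¹ u) ((monPerm (perm2 i j))⁻¹ v) g
    simp only [Equiv.Perm.coe_inv, Equiv.apply_symm_apply] at this ⊢
    rw [← this]; group
  rw [e, map_mul, map_mul, map_inv, show ∀ a b x : OG (k + 4) F,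
    a * b * a⁻¹ * x * (a * b * a⁻¹)⁻¹ = a * (b * (a⁻¹ * x * a) * b⁻¹) * a⁻¹ from
      fun a b x => by group, hwi, A.hp, (eR_wW_moves k).eR (pPerm_bar k) pC_bar,
    units_eq_one h2 (pC (k + 4) F _ * pC (k + 4) F _), cD_one, hw]
  rfl

theorem Im.conj {f : Equiv.Perm (SI (k + 4))} {w : E}
    (hw : ∀ u v (g : SL2 F), A.φ w * eR u v g * (A.φ w)⁻¹ = eR (f u) (f v) g) {x : E}
    {u v : SI (k + 4)} (h : A.Im x u v) : A.Im (w * x * w⁻¹) (f u) (f v) := by
  rw [Im, map_mul, map_mul, map_inv, h, hw]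

/-- Lifts of two root elements which some monomial element moves into the Levi subgroup commute. -/
theorem commA {x y : E} {u v u' v' : SI (k + 4)} (hx : A.Im x u v) (hy : A.Im y u' v')
    {f : Equiv.Perm (SI (k + 4))} (hf : A.Real f) {i j a b : Fin (k + 4)} (hij : i ≠ j) (hab : a ≠ b)
    (hib : i ≠ b) (hja : j ≠ a) (e1 : f u = (i, false)) (e2 : f v = (j, true))
    (e3 : f u' = (a, false)) (e4 : f v' = (b, true)) : Commute x y := by
  obtain ⟨w, hw⟩ := hf
  refine commute_conj A.φ A.central (w := w)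
    (((stRel (F := F) (k := k)).comm i j a b hij hab hib hja 1 1).map A.ρ) ?_ ?_
  · rw [hx, hw, e1, e2, Im.levi (A := A) h2 hij]
  · rw [hy, hw, e3, e4, Im.levi (A := A) h2 hab]

theorem Im.rel {x y : E} {a b c m : Fin (k + 4)} (hab : a ≠ b) (hbc : b ≠ c) (hac : a ≠ c)
    (ham : a ≠ m) (hbm : b ≠ m) (hcm : c ≠ m) (hx : A.Im x (a, false) (b, true))
    (hy : A.Im y (b, false) (c, false)) : A.Im ⁅x, y⁆ (a, false) (c, false) := by
  obtain ⟨w, hw⟩ := real_refl (A := A) h2 hcm
  obtain ⟨e1, e2, e3, e4⟩ := refl_apply (show ((c, false) : SI (k + 4)).1 ≠ (m, false).1 from hcm)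
  have fa := refl_fix (show ((a, false) : SI (k + 4)).1 ≠ (c, false).1 from hac)
    (show ((a, false) : SI (k + 4)).1 ≠ (m, false).1 from ham)
  have fb := refl_fix (show ((b, true) : SI (k + 4)).1 ≠ (c, false).1 from hbc)
    (show ((b, true) : SI (k + 4)).1 ≠ (m, false).1 from hbm)
  have fb' := refl_fix (show ((b, false) : SI (k + 4)).1 ≠ (c, false).1 from hbc)
    (show ((b, false) : SI (k + 4)).1 ≠ (m, false).1 from hbm)
  simp only [bar, Bool.not_false] at e1 e2
  have hst : ⁅tv a b (1 : F), tv b m (1 : F)⁆ = tv a m (1 : F) := by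
    have := conj_fst (stRel (F := F) (k := k)) hab hbm ham (1 : F) 1
    rw [mul_one] at this
    rw [commutatorElement_def, this, mul_inv_cancel_right]
  have h : A.φ w * A.φ ⁅x, y⁆ * (A.φ w)⁻¹ = A.φ w * eR (a, false) (c, false) (xU 1) * (A.φ w)⁻¹ := by
    rw [hw, fa, e1]
    show MulAut.conj (A.φ w) (A.φ ⁅x, y⁆) = _
    rw [map_commutatorElement, map_commutatorElement, MulAut.conj_apply, MulAut.conj_apply, hx, hy,
      hw, hw, fa, fb, fb', e1, ← Im.levi (A := A) h2 hab, ← Im.levi (A := A) h2 hbm,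
      ← map_commutatorElement A.φ, ← map_commutatorElement A.ρ, hst, Im.levi (A := A) h2 ham]
  exact mul_left_cancel (mul_right_cancel h)

theorem orth_of_two (hk : 1 ≤ k) : A.Orth := by
  obtain ⟨four, h40, h41, h42, h43⟩ : ∃ m : Fin (k + 4), m ≠ 0 ∧ m ≠ 1 ∧ m ≠ 2 ∧ m ≠ 3 := by
    refine ⟨⟨4, by omega⟩, ?_, ?_, ?_, ?_⟩ <;>
      simp [Fin.ext_iff, Nat.mod_eq_of_lt (show 1 < k + 4 by omega),
        Nat.mod_eq_of_lt (show 2 < k + 4 by omega), Nat.mod_eq_of_lt (show 3 < k + 4 by omega)]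
  set u := A.ρ (tv 0 1 1) with hu'
  set v := A.σ (xU 1) with hv'
  have hu : A.Im u (0, false) (1, true) := Im.levi h2 i01
  have hv : A.Im v (0, false) (1, false) := A.φ_σ _
  set u₁ := A.ρ (tv 3 1 1) with hu₁'
  have hu₁ : A.Im u₁ (3, false) (1, true) := Im.levi h2 i13.symm
  obtain ⟨s, hs⟩ := real_mon (A := A) h2 (eA_wW_mon' (F := F) (0 : Fin (k + 4)) 3 i03)
  have s0 : ∀ b, monPerm (Equiv.swap (0 : Fin (k + 4)) 3) (0, b) = (3, b) := fun b => by
    simp [monPerm_apply]
  have s3 : ∀ b, monPerm (Equiv.swap (0 : Fin (k + 4)) 3) (3, b) = (0, b) := fun b => by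
    simp [monPerm_apply]
  have s1 : ∀ b, monPerm (Equiv.swap (0 : Fin (k + 4)) 3) (1, b) = (1, b) := fun b => by
    simp [monPerm_apply, Equiv.swap_apply_of_ne_of_ne i01.symm i13]
  have s2 : ∀ b, monPerm (Equiv.swap (0 : Fin (k + 4)) 3) (2, b) = (2, b) := fun b => by
    simp [monPerm_apply, Equiv.swap_apply_of_ne_of_ne i02.symm i23]
  set v₁ := s * v * s⁻¹ with hv₁'
  have hv₁ : A.Im v₁ (3, false) (1, false) := by
    have := Im.conj h2 hs hv; rwa [s0, s1] at this
  set r₁ := ⁅u, v₁⁆ with hr₁'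
  set r₂ := ⁅u₁, v⁆ with hr₂'
  have hr₁ : A.Im r₁ (0, false) (3, false) :=
    Im.rel h2 i01 i13 i03 h40.symm h41.symm h43.symm hu (hv₁.symm h2)
  have hr₂ : A.Im r₂ (3, false) (0, false) :=
    Im.rel h2 i13.symm i01.symm i03.symm h43.symm h41.symm h40.symm hu₁ (hv.symm h2)
  have himg : Commute (A.φ u) (A.φ v) := by
    have := A.images01 (xU 1) (xU 1); rwa [eA_xU i01] at this
  set o := ⁅u, v⁆ with ho
  have hoc : ∀ g, Commute g o := comm_central A.φ A.central himg
  have ho₁ : ⁅u₁, v₁⁆ = o := by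
    have e1 : A.φ u₁ = A.φ (s * u * s⁻¹) := by
      have := Im.conj h2 hs hu; rw [s0, s1] at this; rw [this, hu₁]
    rw [comm_congr A.φ A.central (u' := s * u * s⁻¹) (v' := v₁) e1 rfl, hv₁']
    show ⁅MulAut.conj s u, MulAut.conj s v⁆ = o
    rw [← map_commutatorElement, MulAut.conj_apply, ← ho, (hoc s).eq, mul_inv_cancel_right]
  -- commutations
  have cur : Commute u₁ r₁ := by
    obtain ⟨e1, e2, e3, e4⟩ := refl_apply (show ((0, false) : SI (k + 4)).1 ≠ (four, false).1 from h40.symm)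
    refine commA h2 hu₁ (hr₁.symm h2) (real_refl h2 h40.symm) (i := 3) (j := 1) (a := 3) (b := four)
      i13.symm h43.symm h43.symm i13 ?_ ?_ ?_ ?_
    · exact refl_fix i03.symm h43.symm
    · exact refl_fix i01.symm h41.symm
    · exact refl_fix i03.symm h43.symm
    · exact e1
  have cvr : Commute v₁ r₂ := by
    obtain ⟨e1, e2, e3, e4⟩ := refl_apply (show ((1, false) : SI (k + 4)).1 ≠ (0, false).1 from i01.symm)
    refine commA h2 hv₁ hr₂ (real_refl h2 i01.symm) (i := 3) (j := 0) (a := 3) (b := 1)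
      i03.symm i13.symm i13.symm i03 ?_ ?_ ?_ ?_
    · exact refl_fix i13.symm i03.symm
    · exact e1
    · exact refl_fix i13.symm i03.symm
    · exact e3
  -- conjugation by the transvection (3, 0)
  have key : r₁ * o * r₂ = 1 := by
    set c := A.ρ (tv 3 0 1) with hc'
    have e1 : A.φ (c * u * c⁻¹) = A.φ (u₁ * u) := by
      rw [hc', hu', hu₁', ← map_mul, ← map_inv, ← map_mul, ← map_mul,
        conj_fst (stRel (F := F) (k := k)) i03.symm i01 i13.symm (1 : F) 1, mul_one]
    have e2 : A.φ (c * v * c⁻¹) = A.φ (v₁ * v) := by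
      obtain ⟨w, hw⟩ := real_refl (A := A) h2 (show (1 : Fin (k + 4)) ≠ four from h41.symm)
      obtain ⟨a1, a2, a3, a4⟩ := refl_apply (show ((1, false) : SI (k + 4)).1 ≠ (four, false).1 from h41.symm)
      have f3 : refl (1, false) (four, false) ((3, false) : SI (k + 4)) = (3, false) :=
        refl_fix i13.symm h43.symm
      have f0 : ∀ b, refl (1, false) (four, false) ((0, b) : SI (k + 4)) = (0, b) := fun b =>
        refl_fix i01 h40.symm
      simp only [bar, Bool.not_false] at a1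
      have hc : A.Im c (3, false) (0, true) := Im.levi h2 i03.symm
      have h4 := conj_fst (stRel (F := F) (k := k)) i03.symm h40.symm h43.symm (1 : F) 1
      rw [mul_one] at h4
      have h : A.φ w * A.φ (c * v * c⁻¹) * (A.φ w)⁻¹ = A.φ w * A.φ (v₁ * v) * (A.φ w)⁻¹ := by
        show MulAut.conj (A.φ w) _ = MulAut.conj (A.φ w) _
        rw [map_mul A.φ, map_mul A.φ, map_inv A.φ, map_mul, map_mul, map_inv, map_mul A.φ, map_mul,
          MulAut.conj_apply, MulAut.conj_apply, MulAut.conj_apply, hc, hv, hv₁, hw, hw, hw, f3, f0,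
          f0, a1, ← Im.levi (A := A) h2 i03.symm, ← Im.levi (A := A) h2 h40.symm,
          ← Im.levi (A := A) h2 h43.symm, ← map_mul, ← map_inv, ← map_mul, ← map_mul, ← map_mul,
          ← map_inv, ← map_mul, h4, map_mul A.ρ]
      exact mul_left_cancel (mul_right_cancel h)
    have e3 : o = ⁅u₁ * u, v₁ * v⁆ := by
      rw [← comm_congr A.φ A.central e1 e2]
      show o = ⁅MulAut.conj c u, MulAut.conj c v⁆
      rw [← map_commutatorElement, MulAut.conj_apply, ← ho, (hoc c).eq, mul_inv_cancel_right]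
    rw [comm_mul_mul u₁ u v₁ v, ← ho, ← hr₁', ho₁,
      ← hr₂', (hoc v₁).eq, mul_inv_cancel_right, (cvr.eq : v₁ * r₂ = r₂ * v₁), mul_inv_cancel_right,
      show u₁ * (r₁ * o) = r₁ * o * u₁ from (cur.mul_right (hoc u₁)).eq, mul_inv_cancel_right] at e3
    have e4 : o * (r₁ * o * r₂) = o * 1 := by
      rw [mul_one]; nth_rewrite 3 [e3]
      rw [← mul_assoc, ← mul_assoc, ← (hoc r₁).eq]
      group
    exact mul_left_cancel e4
  -- the two decompositions
  have hw : r₁ * r₂ = 1 := by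
    set B := A.ρ (tv 2 1 1)
    set Q := ⁅B, v₁⁆ with hQ'
    have hB : A.Im B (2, false) (1, true) := Im.levi h2 i12.symm
    have hA : A.Im (A.ρ (tv 0 2 1)) (0, false) (2, true) := Im.levi h2 i02
    have hQ : A.Im Q (2, false) (3, false) :=
      Im.rel h2 i12.symm i13 i23 h42.symm h41.symm h43.symm hB (hv₁.symm h2)
    obtain ⟨a1, a2, a3, a4⟩ := refl_apply (show ((3, false) : SI (k + 4)).1 ≠ (four, false).1 from h43.symm)
    have hP : A.φ ⁅A.ρ (tv 0 2 1), B⁆ = A.φ u := by
      have := conj_fst (stRel (F := F) (k := k)) i02 i12.symm i01 (1 : F) 1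
      rw [mul_one] at this
      rw [hu', ← map_commutatorElement A.ρ, commutatorElement_def, this, mul_inv_cancel_right]
    have c1 : Commute (A.ρ (tv 0 2 1)) v₁ := by
      refine commA h2 hA (hv₁.symm h2) (real_refl h2 h43.symm) (i := 0) (j := 2) (a := 1) (b := four)
        i02 h41.symm h40.symm i12.symm (refl_fix i03 h40.symm) (refl_fix i23 h42.symm)
        (refl_fix i13 h41.symm) a1
    have c2 : Commute u Q := by
      refine commA h2 hu hQ (real_refl h2 h43.symm) (i := 0) (j := 1) (a := 2) (b := four)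
        i01 h42.symm h40.symm i12 (refl_fix i03 h40.symm) (refl_fix i13 h41.symm)
        (refl_fix i23 h42.symm) a1
    have c3 : Commute Q r₁ := by
      refine commA h2 hQ hr₁ (real_refl h2 h43.symm) (i := 2) (j := four) (a := 0) (b := four)
        h42.symm h40.symm h42.symm h40 (refl_fix i23 h42.symm) a1 (refl_fix i03 h40.symm) a1
    have ea : r₁ = ⁅A.ρ (tv 0 2 1), Q⁆ := by
      have e := assoc c1 (commute_congr A.φ A.central c2 hP rfl)
        (by rw [comm_congr A.φ A.central hP rfl]; exact c3)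
      rw [comm_congr A.φ A.central hP rfl] at e
      exact e
    set C := A.ρ (tv 3 2 1)
    have hC : A.Im C (3, false) (2, true) := Im.levi h2 i23.symm
    obtain ⟨B', hB'⟩ : ∃ B', A.Im B' (2, false) (1, false) := by
      obtain ⟨t, ht⟩ := real_mon (A := A) h2 (eA_wW_mon' (F := F) (0 : Fin (k + 4)) 2 i02)
      refine ⟨t * v * t⁻¹, ?_⟩
      have := Im.conj h2 ht hv
      simpa [monPerm_apply, Equiv.swap_apply_of_ne_of_ne i01.symm i12] using this
    set P := ⁅u, B'⁆ with hP'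
    have hP : A.Im P (0, false) (2, false) :=
      Im.rel h2 i01 i12 i02 h40.symm h41.symm h42.symm hu (hB'.symm h2)
    have hQ₁ : A.φ ⁅B', C⁆ = A.φ v₁ := by
      have h1 : A.Im ⁅C, B'⁆ (3, false) (1, false) :=
        Im.rel h2 i23.symm i12.symm i13.symm h43.symm h42.symm h41.symm hC hB'
      rw [← commutatorElement_inv, map_inv, h1, hv₁, ← map_inv, ← xU_neg]
      congr 2
      have h0 : ((2 : ℕ) : F) = 0 := by rw [← h2, Nat.cast_card_eq_zero]
      push_cast at h0
      linear_combination -h0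
    have d1 : Commute u C :=
      ((stRel (F := F) (k := k)).comm 0 1 3 2 i01 i23.symm i02 i13 1 1).map A.ρ
    obtain ⟨b1, b2, b3, b4⟩ := refl_apply (show ((2, false) : SI (k + 4)).1 ≠ (1, false).1 from i12.symm)
    have d2 : Commute P v₁ := by
      refine commA h2 hP hv₁ (real_refl h2 i12.symm) (i := 0) (j := 1) (a := 3) (b := 2)
        i01 i23.symm i02 i13 (refl_fix i02 i01) b1 (refl_fix i23.symm i13.symm) b3
    obtain ⟨d1', d2', d3', d4'⟩ := refl_apply (show ((1, false) : SI (k + 4)).1 ≠ (0, false).1 from i01.symm)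
    have hPC : A.Im ⁅C, P⁆ (3, false) (0, false) :=
      Im.rel h2 i23.symm i02.symm i03.symm h43.symm h42.symm h40.symm hC (hP.symm h2)
    have d3 : Commute v₁ ⁅P, C⁆ := by
      have : Commute v₁ ⁅C, P⁆ := by
        refine commA h2 hv₁ hPC (real_refl h2 i01.symm) (i := 3) (j := 0) (a := 3) (b := 1)
          i03.symm i13.symm i13.symm i03 (refl_fix i13.symm i03.symm) d1'
          (refl_fix i13.symm i03.symm) d3'
      simpa [commutatorElement_inv] using this.inv_right
    have eb : ⁅P, C⁆ = r₁ := by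
      have e := assoc d1 (commute_congr A.φ A.central d2 rfl hQ₁)
        (commute_congr A.φ A.central d3 hQ₁ rfl)
      rw [e]
      exact comm_congr A.φ A.central rfl hQ₁
    have e2 : r₂ = ⁅C, P⁆ := by
      have e : MulAut.conj s r₁ = r₂ := by
        rw [hr₁', map_commutatorElement, hr₂']
        refine comm_congr A.φ A.central ?_ ?_
        · rw [MulAut.conj_apply]
          have := Im.conj h2 hs hu; rw [s0, s1] at this; rw [this, hu₁]
        · rw [MulAut.conj_apply]
          have := Im.conj h2 hs hv₁; rw [s3, s1] at this; rw [this, hv]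
      rw [← e, ea, map_commutatorElement]
      refine comm_congr A.φ A.central ?_ ?_
      · rw [MulAut.conj_apply]
        have := Im.conj h2 hs hA; rw [s0, s2] at this; rw [this, hC]
      · rw [MulAut.conj_apply]
        have := Im.conj h2 hs hQ; rw [s2, s3] at this; rw [this, (hP.symm h2)]
    rw [← eb, e2, ← commutatorElement_inv C P, inv_mul_cancel]
  show Commute u v
  rw [← commutatorElement_eq_one_iff_commute, ← ho]
  rw [← (hoc r₁).symm.eq, mul_assoc, hw, mul_one] at key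
  exact key

end Plus

end CfsgLib.MultOrth
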