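import Cfsg.Agent.MultOrth.SphereSub
import Cfsg.Agent.MultOrth.Covering
import Cfsg.Agent.MultOrth.Assemble

/-!
# The bound for `Ω(Q)` from the bound for the stabiliser of a vector of norm one

Odd characteristic, dimension at least seven (and at least eight, or a field with more than
three elements).
-/

set_option autoImplicit false
set_option linter.unusedSectionVars false
set_option linter.unusedSimpArgs false

namespace CfsgLib.MultOrth

open Matrix Module CfsgLib.Spinor CfsgLib.Forms CfsgLib.Forms4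
open CfsgLib.AutPOmega (perp perp_perp)

universe u

section Sphere

variable {F : Type*} [Field F] [Fintype F] {ι : Type} [Fintype ι] [DecidableEq ι]
  {Q : QuadraticForm F (ι → F)}

set_option quotPrecheck false in
local notation "B" => QuadraticMap.polar (⇑Q)

variable (Q) in
/-- The vectors of norm one. -/
def Sphere : Type _ := {v : ι → F // Q v = 1}

instance : MulAction ↥(Cfsg.Omega F ⇑Q) (Sphere Q) where
  smul g v := ⟨mat Q g.1 *ᵥ v.1, (quad_mulVec Q g.1 v.1).trans v.2⟩
  one_smul v := Subtype.ext (Matrix.one_mulVec _)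
  mul_smul g h v := Subtype.ext (by
    show mat Q (g.1 * h.1) *ᵥ v.1 = mat Q g.1 *ᵥ (mat Q h.1 *ᵥ v.1)
    rw [mat_mul, Matrix.mulVec_mulVec])

theorem smul_eq_iff (g : ↥(Cfsg.Omega F ⇑Q)) (a b : Sphere Q) :
    g • a = b ↔ mat Q g.1 *ᵥ a.1 = b.1 := Subtype.ext_iff

theorem refl_fix {u x : ι → F} (hu : Q u ≠ 0) (h : B u x = 0) :
    mat Q (reflIso Q u hu) *ᵥ x = x := by
  rw [mat_reflIso, reflectionMatrix_mulVec, refl_apply, h, mul_zero, zero_smul, sub_zero]

theorem polar_span_eq_zero {k : ℕ} {s : Fin k → ι → F} {x y : ι → F}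
    (hy : y ∈ Submodule.span F (Set.range s)) (h : ∀ i, B (s i) x = 0) : B y x = 0 := by
  induction hy using Submodule.span_induction with
  | mem z hz => obtain ⟨i, rfl⟩ := hz; exact h i
  | zero => exact QuadraticMap.polar_zero_left (Q := Q) x
  | add a b _ _ ha hb => rw [QuadraticMap.polar_add_left, ha, hb, add_zero]
  | smul a z _ hz => rw [QuadraticMap.polar_smul_left, hz, smul_zero]

variable (h2 : (2 : F) ≠ 0) (hQ : (QuadraticMap.polarBilin Q).Nondegenerate)
include h2 hQ

/-- Moves in `Ω` fixing given vectors. -/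
theorem exists_omega_move {k j : ℕ} (s : Fin k → ι → F) (t : Fin j → ι → F)
    (ht : ∀ i, t i ∈ Submodule.span F (Set.range s)) (hto : ∀ i i', i ≠ i' → B (t i) (t i') = 0)
    (htn : ∀ i, Q (t i) ≠ 0) (hn : 2 * k + 3 ≤ Fintype.card ι + j) {a b : ι → F}
    (hb0 : Q b ≠ 0) (hab : Q a = Q b) (ha : ∀ i, B (s i) a = 0) (hb : ∀ i, B (s i) b = 0) :
    ∃ g ∈ Cfsg.Omega F ⇑Q, mat Q g *ᵥ a = b ∧ ∀ i, mat Q g *ᵥ s i = s i := by
  classical
  have hval : ∀ c : F, ∃ y, (∀ i, B (s i) y = 0) ∧ B b y = 0 ∧ Q y = c := by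
    intro c
    have hbt : ∀ i, B b (t i) = 0 := fun i => by
      rw [QuadraticMap.polar_comm]; exact polar_span_eq_zero (ht i) hb
    obtain ⟨y, hy, hy'⟩ := exists_perp_value h2 hQ (Fin.cons b s : Fin (k + 1) → ι → F)
      (Fin.cons b t : Fin (j + 1) → ι → F) (fun i => by
        refine Fin.cases ?_ (fun i => ?_) i
        · exact Submodule.subset_span ⟨0, rfl⟩
        · refine Submodule.span_mono ?_ (ht i)
          rintro _ ⟨x, rfl⟩
          exact ⟨x.succ, by simp⟩)
      (fun i i' h => by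
        revert h
        refine Fin.cases ?_ (fun i => ?_) i <;> refine Fin.cases ?_ (fun i' => ?_) i'
        · simp
        · intro _; simpa using hbt i'
        · intro _; simpa [QuadraticMap.polar_comm (⇑Q) (t i) b] using hbt i
        · simpa using fun h => hto i i' h)
      (fun i => Fin.cases (by simpa using hb0) (fun i => by simpa using htn i) i) (by omega) c
    exact ⟨y, fun i => by simpa using hy i.succ, by simpa using hy 0, hy'⟩
  obtain ⟨α, hα⟩ := FiniteField.exists_nonsquare (F := F) (fun h => h2 (by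
    haveI := ringChar.eq_iff.1 h; exact CharTwo.two_eq_zero))
  have hα0 : α ≠ 0 := fun h => hα (h ▸ ⟨0, by simp⟩)
  obtain ⟨u, hu, hub, hu1⟩ := hval 1
  obtain ⟨w, hw, hwb, hwα⟩ := hval α
  have hu0 : Q u ≠ 0 := by rw [hu1]; exact one_ne_zero
  have hw0 : Q w ≠ 0 := by rw [hwα]; exact hα0
  let Moves : ↥(Cfsg.isometryGroup F ⇑Q) → Prop :=
    fun g => mat Q g *ᵥ a = b ∧ ∀ i, mat Q g *ᵥ s i = s i
  have hstep : ∀ x (hx : Q x ≠ 0), (∀ i, B (s i) x = 0) → B b x = 0 → ∀ g, Moves g →
      Moves (reflIso Q x hx * g) := by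
    intro x hx hxs hxb g hg
    refine ⟨?_, fun i => ?_⟩
    · rw [mat_mul, ← Matrix.mulVec_mulVec, hg.1,
        refl_fix hx (by rw [QuadraticMap.polar_comm]; exact hxb)]
    · rw [mat_mul, ← Matrix.mulVec_mulVec, hg.2,
        refl_fix hx (by rw [QuadraticMap.polar_comm]; exact hxs i)]
  obtain ⟨g₀, ⟨vs₀, hvs₀⟩, hga, hfix⟩ := exists_move (Q := Q) h2 hb0 hab
  have h0 : Moves g₀ := ⟨hga, fun i => hfix _
    (by rw [QuadraticMap.polar_comm]; exact ha i) (by rw [QuadraticMap.polar_comm]; exact hb i)⟩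
  obtain ⟨g₁, vs₁, hvs₁, he, h1⟩ : ∃ g vs, IsReflProd Q g vs ∧ Even vs.length ∧ Moves g := by
    by_cases he : Even vs₀.length
    · exact ⟨g₀, vs₀, hvs₀, he, h0⟩
    · refine ⟨_, _, (IsReflProd.reflIso u hu0).mul hvs₀, ?_, hstep u hu0 hu hub g₀ h0⟩
      rw [List.length_append, List.length_singleton, Nat.add_comm, Nat.even_add_one]
      exact he
  by_cases hsq : IsSquare (vs₁.map (fun v => Q v)).prod
  · exact ⟨g₁, (mem_omega_iff h2 hQ hvs₁).2 ⟨he, hsq⟩, h1⟩
  · refine ⟨_, (mem_omega_iff h2 hQ ((IsReflProd.reflIso u hu0).mul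
      ((IsReflProd.reflIso w hw0).mul hvs₁))).2 ⟨?_, ?_⟩,
      hstep u hu0 hu hub _ (hstep w hw0 hw hwb g₁ h1)⟩
    · simp only [List.length_append, List.length_singleton, Nat.even_add, Nat.not_even_one,
        false_iff, not_not, he]
    · simp only [List.map_append, List.map_singleton, List.prod_append, List.prod_singleton, hu1,
        hwα, one_mul]
      have hp := prod_quad_ne_zero hvs₁.1
      rw [← quadraticChar_one_iff_isSquare (mul_ne_zero hα0 hp), map_mul,
        quadraticChar_neg_one_iff_not_isSquare.2 hα,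
        quadraticChar_neg_one_iff_not_isSquare.2 hsq]
      norm_num

/-- A nondegenerate form of dimension at least five has two orthogonal hyperbolic pairs. -/
theorem exists_twoPairs (hn : 5 ≤ Fintype.card ι) : Nonempty (TwoPairs Q) := by
  have hsep : ∀ x, (∀ y, B x y = 0) → x = 0 := fun x hx => polar_nondeg_vec hQ hx
  obtain ⟨e, he0, he⟩ := exists_quad_isotropic h2 Q hsep (by rw [finrank_fintype_fun_eq_card]; omega)
  obtain ⟨f, hf, hef⟩ := exists_hyperbolic_partner Q hsep he0 he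
  have hG : (Matrix.of fun i j : Fin 2 => B (![e, f] i) (![e, f] j)).det ≠ 0 := by
    simp [Matrix.det_fin_two, polar_self', he, hf, hef, QuadraticMap.polar_comm (⇑Q) f e]
  have hs' := sep_perpSub Q hsep _ hG
  have hd := le_finrank_perpSub Q ![e, f]
  rw [finrank_fintype_fun_eq_card] at hd
  obtain ⟨a, ha0, ha⟩ := exists_quad_isotropic h2 _ hs' (by omega)
  obtain ⟨b, hb, hab⟩ := exists_hyperbolic_partner _ hs' ha0 ha
  exact ⟨{
    e := e, f := f, a := a, b := b, qe := he, qf := hf, qa := ha, qb := hb, ef := hef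
    ab := by simpa [QuadraticMap.polar] using hab
    ea := mem_perpSub.1 a.2 0
    eb := mem_perpSub.1 b.2 0
    fa := mem_perpSub.1 a.2 1
    fb := mem_perpSub.1 b.2 1 }⟩

omit h2 hQ in
/-- Spanning a nondegenerate plane. -/
def GoodPair (a b : Sphere Q) : Prop := B a.1 b.1 * B a.1 b.1 ≠ 4

omit h2 hQ in
/-- Orthogonality. -/
def OrthPair (a b : Sphere Q) : Prop := B a.1 b.1 = 0

omit h2 hQ in
/-- The pointwise stabiliser of a list of vectors in `Ω`. -/
def fixSub (Q : QuadraticForm F (ι → F)) {k : ℕ} (s : Fin k → ι → F) :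
    Subgroup ↥(Cfsg.Omega F ⇑Q) where
  carrier := {g | ∀ i, mat Q g.1 *ᵥ s i = s i}
  one_mem' := fun i => Matrix.one_mulVec _
  mul_mem' := fun {g h} hg hh i => by
    show mat Q (g.1 * h.1) *ᵥ s i = s i
    rw [mat_mul, ← Matrix.mulVec_mulVec, hh i, hg i]
  inv_mem' := fun {g} hg i => by
    conv_lhs => rw [← hg i]
    rw [Matrix.mulVec_mulVec, ← mat_mul, ← Subgroup.coe_mul, inv_mul_cancel]
    exact Matrix.one_mulVec _

omit h2 hQ in
theorem mem_fixSub {k : ℕ} {s : Fin k → ι → F} {g : ↥(Cfsg.Omega F ⇑Q)} :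
    g ∈ fixSub Q s ↔ ∀ i, mat Q g.1 *ᵥ s i = s i := Iff.rfl

omit h2 hQ in
/-- A pointwise stabiliser fixes the span. -/
theorem fix_span {k : ℕ} {s : Fin k → ι → F} {g : ↥(Cfsg.Omega F ⇑Q)} (hg : g ∈ fixSub Q s)
    {x : ι → F} (hx : x ∈ Submodule.span F (Set.range s)) : mat Q g.1 *ᵥ x = x := by
  induction hx using Submodule.span_induction with
  | mem z hz => obtain ⟨i, rfl⟩ := hz; exact hg i
  | zero => exact Matrix.mulVec_zero _
  | add u v _ _ hu hv => rw [Matrix.mulVec_add, hu, hv]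
  | smul c u _ hu => rw [Matrix.mulVec_smul, hu]

/-- Pointwise stabilisers of nondegenerate subspaces of codimension at least five are perfect. -/
theorem perfect_fix {k : ℕ} (s : Fin k → ι → F)
    (hG : (Matrix.of fun i j => B (s i) (s j)).det ≠ 0) (hn : k + 5 ≤ Fintype.card ι) :
    ⁅fixSub Q s, fixSub Q s⁆ = fixSub Q s := by
  set W := perpSub Q s with hW
  have hsep : ∀ x, (∀ y, B x y = 0) → x = 0 := fun x hx => polar_nondeg_vec hQ hx
  have hd := le_finrank_perpSub Q s
  rw [finrank_fintype_fun_eq_card, ← hW] at hd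
  let L : (Fin (finrank F W) → F) →ₗ[F] (ι → F) :=
    W.subtype ∘ₗ (Module.finBasis F W).equivFun.symm.toLinearMap
  let Q' : QuadraticForm F (Fin (finrank F W) → F) := Q.comp L
  have hnd : (QuadraticMap.polarBilin Q').Nondegenerate := by
    refine (LinearMap.IsRefl.nondegenerate_iff_separatingLeft fun x y h => by
      simpa [QuadraticMap.polar_comm] using h).2 ?_
    intro x hx
    have h0 := sep_perpSub Q hsep _ hG ((Module.finBasis F W).equivFun.symm x) fun y => by
      have := hx ((Module.finBasis F W).equivFun y)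
      simpa [Q', L, QuadraticMap.polar, map_add] using this
    exact (Module.finBasis F W).equivFun.symm.map_eq_zero_iff.1 h0
  let e : Emb Q Q' := ⟨L, fun v => rfl, hnd⟩
  obtain ⟨P⟩ := exists_twoPairs h2 hnd (by rw [Fintype.card_fin]; omega)
  let f : ↥(Cfsg.Omega F ⇑Q') →* ↥(Cfsg.Omega F ⇑Q) :=
    (e.hom.comp (Cfsg.Omega F ⇑Q').subtype).codRestrict _ fun g => e.hom_omega g.2
  have hLW : ∀ v, L v ∈ W := fun v => ((Module.finBasis F W).equivFun.symm v).2
  have hrange : f.range = fixSub Q s := by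
    ext g
    constructor
    · rintro ⟨g', rfl⟩
      exact fun i => e.hom_fix g'.1 fun v => mem_perpSub.1 (hLW v) i
    · intro hg
      obtain ⟨g', hg', h⟩ := e.exists_preimage h2 hQ g.2 fun x hx => by
        refine fix_span hg ?_
        rw [← perp_perp hQ (Submodule.span F (Set.range s))]
        intro w hw
        have hwW : w ∈ W := mem_perpSub.2 fun i => hw _ (Submodule.subset_span ⟨i, rfl⟩)
        have := hx ((Module.finBasis F W).equivFun ⟨w, hwW⟩)
        rw [QuadraticMap.polar_comm] at this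
        simpa [L, e] using this
      exact ⟨⟨g', hg'⟩, Subtype.ext h⟩
  rw [← hrange, MonoidHom.range_eq_map, ← Subgroup.map_commutator, ← commutator_def,
    TwoPairs.commutator_omega hnd (by rw [Fintype.card_fin]; omega) P]

omit h2 hQ in
theorem stabilizer_inf (a b : Sphere Q) :
    MulAction.stabilizer ↥(Cfsg.Omega F ⇑Q) a ⊓ MulAction.stabilizer _ b = fixSub Q ![a.1, b.1] := by
  ext g
  simp [Subgroup.mem_inf, mem_fixSub, smul_eq_iff, Fin.forall_fin_two]

/-- Good pairs have perfect stabilisers. -/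
theorem perfect_pair (hn : 7 ≤ Fintype.card ι) (a b : Sphere Q) (hab : GoodPair a b) :
    ⁅MulAction.stabilizer ↥(Cfsg.Omega F ⇑Q) a ⊓ MulAction.stabilizer _ b,
      MulAction.stabilizer ↥(Cfsg.Omega F ⇑Q) a ⊓ MulAction.stabilizer _ b⁆ =
      MulAction.stabilizer ↥(Cfsg.Omega F ⇑Q) a ⊓ MulAction.stabilizer _ b := by
  rw [stabilizer_inf]
  refine perfect_fix h2 hQ _ ?_ (by omega)
  simp [Matrix.det_fin_two, polar_self', a.2, b.2, QuadraticMap.polar_comm (⇑Q) b.1 a.1]
  intro h
  exact hab (by linear_combination -h)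

omit h2 hQ in
/-- The generators: products of two orthogonal reflections of norm one. -/
def Gen (Q : QuadraticForm F (ι → F)) : Set ↥(Cfsg.Omega F ⇑Q) :=
  {g | ∃ a b : ι → F, Q a = 1 ∧ Q b = 1 ∧ QuadraticMap.polar (⇑Q) a b = 0 ∧
    mat Q g.1 = Cfsg.reflectionMatrix (⇑Q) a * Cfsg.reflectionMatrix (⇑Q) b}

omit h2 hQ in
theorem gen_mulVec {g : ↥(Cfsg.Omega F ⇑Q)} {a b : ι → F} (ha : Q a = 1) (hb : Q b = 1)
    (hab : B a b = 0)
    (hg : mat Q g.1 = Cfsg.reflectionMatrix (⇑Q) a * Cfsg.reflectionMatrix (⇑Q) b) (y : ι → F) :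
    mat Q g.1 *ᵥ y = y - B b y • b - B a y • a := by
  rw [hg, ← Matrix.mulVec_mulVec, reflectionMatrix_mulVec, reflectionMatrix_mulVec, refl_apply,
    refl_apply, ha, hb, QuadraticMap.polar_sub_right, QuadraticMap.polar_smul_right, hab]
  simp

omit hQ in
theorem gen_fix_perp {g : ↥(Cfsg.Omega F ⇑Q)} {a b : ι → F} (ha : Q a = 1) (hb : Q b = 1)
    (hab : B a b = 0)
    (hg : mat Q g.1 = Cfsg.reflectionMatrix (⇑Q) a * Cfsg.reflectionMatrix (⇑Q) b) {y : ι → F}
    (hy : mat Q g.1 *ᵥ y = y) : B a y = 0 ∧ B b y = 0 := by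
  rw [gen_mulVec ha hb hab hg] at hy
  have h1 := congrArg (fun x => B a x) hy
  have h3 := congrArg (fun x => B b x) hy
  simp only [QuadraticMap.polar_sub_right, QuadraticMap.polar_smul_right, polar_self', ha, hb,
    QuadraticMap.polar_comm (⇑Q) b a, hab, smul_eq_mul] at h1 h3
  exact ⟨mul_left_cancel₀ h2 (by linear_combination -h1),
    mul_left_cancel₀ h2 (by linear_combination -h3)⟩

theorem closure_gen (hn : 7 ≤ Fintype.card ι) : Subgroup.closure (Gen Q) = ⊤ := by
  set N := (Subgroup.closure (Gen Q)).map (Cfsg.Omega F ⇑Q).subtype with hN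
  have hconj : ∀ n ∈ N, ∀ g ∈ Cfsg.Omega F ⇑Q, g * n * g⁻¹ ∈ N := by
    rintro _ ⟨n, hn, rfl⟩ g hg
    refine ⟨⟨g, hg⟩ * n * ⟨g, hg⟩⁻¹, ?_, rfl⟩
    induction hn using Subgroup.closure_induction with
    | mem x hx =>
      obtain ⟨a, b, ha, hb, hab, hx⟩ := hx
      refine Subgroup.subset_closure ⟨mat Q g *ᵥ a, mat Q g *ᵥ b, by rw [quad_mulVec, ha],
        by rw [quad_mulVec, hb], by rw [polar_mulVec, hab], ?_⟩
      show mat Q (g * x.1 * g⁻¹) = _
      rw [mat_mul, mat_mul, hx, ← mul_assoc (mat Q g), mat_mul_reflectionMatrix, mul_assoc _ (mat Q g),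
        mat_mul_reflectionMatrix, ← mul_assoc, mul_assoc _ (mat Q g), ← mat_mul, mul_inv_cancel,
        mat_one, mul_one]
    | one => simp
    | mul x y _ _ hx hy => simpa [mul_assoc] using mul_mem hx hy
    | inv x _ hx => simpa [mul_assoc] using inv_mem hx
  obtain ⟨P⟩ := exists_twoPairs h2 hQ (by omega)
  rcases TwoPairs.scalar_or_omega_le hQ (by omega) P N hconj with h | h
  · exfalso
    obtain ⟨a, -, ha⟩ := exists_perp_value h2 hQ ![] ![] (fun i => i.elim0)
      (fun i => i.elim0) (fun i => i.elim0) (by omega) 1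
    have ha0 : Q a ≠ 0 := by rw [ha]; exact one_ne_zero
    obtain ⟨b, hab, hb⟩ := exists_perp_value h2 hQ ![a] ![a]
      (fun i => Submodule.subset_span ⟨i, rfl⟩) (fun i i' h => absurd (Subsingleton.elim i i') h)
      (fun i => by fin_cases i; exact ha0) (by omega) 1
    have hab : B a b = 0 := hab 0
    have hb0 : Q b ≠ 0 := by rw [hb]; exact one_ne_zero
    have hmem : reflIso Q a ha0 * reflIso Q b hb0 ∈ Cfsg.Omega F ⇑Q :=
      (mem_omega_iff h2 hQ ((IsReflProd.reflIso a ha0).mul (IsReflProd.reflIso b hb0))).2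
        ⟨even_two, by simp [ha, hb]⟩
    obtain ⟨y, hy, hy1⟩ := exists_perp_value h2 hQ ![a, b] ![a, b]
      (fun i => Submodule.subset_span ⟨i, rfl⟩)
      (fun i i' h => by
        fin_cases i <;> fin_cases i' <;>
          simp_all [QuadraticMap.polar_comm (⇑Q) b a])
      (fun i => by fin_cases i <;> [exact ha0; exact hb0]) (by omega) 1
    obtain ⟨r, -, hr⟩ := h _ ⟨⟨_, hmem⟩, Subgroup.subset_closure ⟨a, b, ha, hb, hab, rfl⟩, rfl⟩
    have e : mat Q (⟨_, hmem⟩ : ↥(Cfsg.Omega F ⇑Q)).1 =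
        Cfsg.reflectionMatrix (⇑Q) a * Cfsg.reflectionMatrix (⇑Q) b := rfl
    have h1 := gen_mulVec ha hb hab e y
    have h3 := gen_mulVec ha hb hab e a
    change mat Q (reflIso Q a ha0 * reflIso Q b hb0) *ᵥ _ = _ at h1 h3
    have hay : B a y = 0 := hy 0
    have hby : B b y = 0 := hy 1
    change mat Q (reflIso Q a ha0 * reflIso Q b hb0) = r • 1 at hr
    rw [hr, Matrix.smul_mulVec, Matrix.one_mulVec, hay, hby] at h1
    rw [hr, Matrix.smul_mulVec, Matrix.one_mulVec, QuadraticMap.polar_comm (⇑Q) b a, hab,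
      polar_self', ha] at h3
    have e1 := congrArg (fun x => B y x) h1
    have e3 := congrArg (fun x => B a x) h3
    simp [QuadraticMap.polar_sub_right, QuadraticMap.polar_smul_right, polar_self', hy1, ha] at e1 e3
    have r1 : r = 1 := mul_right_cancel₀ h2 (by linear_combination e1)
    rw [r1] at e3
    exact h2 (mul_right_cancel₀ h2 (by linear_combination e3))
  · rw [eq_top_iff]
    intro g _
    obtain ⟨n, hn, e⟩ := h g.2
    rwa [← Subtype.ext e]

/-- Transitivity of the stabiliser of two points on their common neighbours. -/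
theorem move_two (hn : 7 ≤ Fintype.card ι) (a b y y' : Sphere Q) (ya : OrthPair y a)
    (yb : OrthPair y b) (ya' : OrthPair y' a) (yb' : OrthPair y' b) :
    ∃ h : ↥(Cfsg.Omega F ⇑Q), h • y = y ∧ h • y' = y' ∧ h • a = b := by
  obtain ⟨g, hg, h, hfix⟩ := exists_omega_move h2 hQ ![y.1, y'.1] ![y.1]
    (fun i => Submodule.subset_span ⟨0, by fin_cases i; rfl⟩)
    (fun i i' h => absurd (Subsingleton.elim i i') h)
    (fun i => by fin_cases i; simp [y.2]) (by omega) (a := a.1) (b := b.1)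
    (by rw [b.2]; exact one_ne_zero) (a.2.trans b.2.symm)
    (fun i => by fin_cases i <;> assumption) (fun i => by fin_cases i <;> assumption)
  exact ⟨⟨g, hg⟩, (smul_eq_iff _ _ _).2 (hfix 0), (smul_eq_iff _ _ _).2 (hfix 1),
    (smul_eq_iff _ _ _).2 h⟩

omit h2 hQ in
/-- The lifts agree on all pairs. -/
def Agree {E : Type*} [Group E] (π : E →* ↥(Cfsg.Omega F ⇑Q)) (z₀ : Sphere Q) (K₀ : Subgroup E) :
    Prop :=
  ∀ a b, ∀ x ∈ Covering.K π z₀ K₀ a, π x • b = b → x ∈ Covering.K π z₀ K₀ b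

omit h2 hQ in
/-- Pairs on which the lifts agree. -/
def GoodAgree {E : Type*} [Group E] (π : E →* ↥(Cfsg.Omega F ⇑Q)) (z₀ : Sphere Q)
    (K₀ : Subgroup E) (a b : Sphere Q) : Prop :=
  GoodPair a b ∨ Agree π z₀ K₀

/-- The hypotheses of the transport argument hold on the sphere. -/
theorem covering (hn : 7 ≤ Fintype.card ι)
    {E : Type*} [Group E] (π : E →* ↥(Cfsg.Omega F ⇑Q)) (hs : Function.Surjective π)
    (hc : π.ker ≤ Subgroup.center E) (hE : commutator E = ⊤) (z₀ : Sphere Q) (K₀ : Subgroup E)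
    (inj : ∀ x ∈ K₀, π x = 1 → x = 1) (img : K₀.map π = MulAction.stabilizer _ z₀)
    (h8 : (8 ≤ Fintype.card ι ∨ ∃ s : F, s ≠ 0 ∧ s * s ≠ 4) ∨ Agree π z₀ K₀) :
    Covering π (OrthPair (Q := Q)) (GoodAgree π z₀ K₀) (Gen Q) z₀ K₀ where
  surj := hs
  central := hc
  perfect := hE
  inj := inj
  img := img
  trans z := by
    obtain ⟨g, hg, h, -⟩ := exists_omega_move h2 hQ (k := 0) (j := 0) ![] ![] (fun i => i.elim0)
      (fun i => i.elim0) (fun i => i.elim0) (by omega) (a := z₀.1) (b := z.1)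
      (by rw [z.2]; exact one_ne_zero) (z₀.2.trans z.2.symm) (fun i => i.elim0) (fun i => i.elim0)
    exact ⟨⟨g, hg⟩, (smul_eq_iff _ _ _).2 h⟩
  invar g a b h := (polar_mulVec Q g.1 a.1 b.1).trans h
  good_of a b h := by
    refine Or.inl ?_
    show B a.1 b.1 * B a.1 b.1 ≠ 4
    rw [h, zero_mul, show (4 : F) = 2 * 2 by norm_num]
    exact (mul_ne_zero h2 h2).symm
  perfect_good a b h := h.imp (perfect_pair h2 hQ hn a b) fun hA => hA a b
  triple a b c := by
    obtain ⟨y, hy, hy1⟩ := exists_perp_value h2 hQ ![a.1, b.1, c.1] ![a.1]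
      (fun i => Submodule.subset_span ⟨0, by fin_cases i; rfl⟩)
      (fun i i' h => absurd (Subsingleton.elim i i') h)
      (fun i => by fin_cases i; simp [a.2]) (by omega) 1
    exact ⟨⟨y, hy1⟩, (QuadraticMap.polar_comm _ _ _).trans (hy 0),
      (QuadraticMap.polar_comm _ _ _).trans (hy 1), (QuadraticMap.polar_comm _ _ _).trans (hy 2)⟩
  move a b y ya yb := by
    obtain ⟨h, h1, -, h3⟩ := move_two h2 hQ hn a b y y ya yb ya yb
    exact ⟨h, h1, h3⟩
  chain a b y y' ya yb ya' yb' := by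
    suffices hs : ∃ y₁, OrthPair y₁ a ∧ OrthPair y₁ b ∧ GoodAgree π z₀ K₀ y y₁ ∧
        GoodAgree π z₀ K₀ y₁ y' by
      obtain ⟨y₁, p1, p3, p4, p5⟩ := hs
      exact ⟨y₁, p1, p3, p4, p5, move_two h2 hQ hn a b y y₁ ya yb p1 p3,
        move_two h2 hQ hn a b y₁ y' p1 p3 ya' yb'⟩
    rcases h8 with h8 | hA
    swap
    · obtain ⟨v, hv, hv1⟩ := exists_perp_value h2 hQ ![a.1, b.1] ![a.1]
        (fun i => Submodule.subset_span ⟨0, by fin_cases i; rfl⟩)
        (fun i i' h => absurd (Subsingleton.elim i i') h)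
        (fun i => by fin_cases i; simp [a.2]) (by omega) 1
      exact ⟨⟨v, hv1⟩, (QuadraticMap.polar_comm _ _ _).trans (hv 0),
        (QuadraticMap.polar_comm _ _ _).trans (hv 1), Or.inr hA, Or.inr hA⟩
    suffices h : ∃ y₁, OrthPair y₁ a ∧ OrthPair y₁ b ∧ GoodPair y y₁ ∧ GoodPair y₁ y' by
      obtain ⟨y₁, h1, h3, h4, h5⟩ := h
      exact ⟨y₁, h1, h3, Or.inl h4, Or.inl h5⟩
    have h40 : (4 : F) ≠ 0 := by
      rw [show (4 : F) = 2 * 2 by norm_num]; exact mul_ne_zero h2 h2
    have horth : B y.1 a.1 = 0 := ya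
    by_cases hf : ∀ v, B y.1 v = 0 → B a.1 v = 0 → B b.1 v = 0 → B y'.1 v = 0
    · -- the fourth condition is automatic
      obtain ⟨v, hv, hv1⟩ := exists_perp_value h2 hQ ![y.1, a.1, b.1] ![y.1, a.1]
        (fun i => by fin_cases i <;> [exact Submodule.subset_span ⟨0, rfl⟩; exact Submodule.subset_span ⟨1, rfl⟩])
        (fun i i' h => by
          fin_cases i <;> fin_cases i' <;> simp_all [QuadraticMap.polar_comm (⇑Q) a.1 y.1])
        (fun i => by fin_cases i <;> simp [y.2, a.2]) (by omega) 1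
      have e0 : B y.1 v = 0 := hv 0
      have e1 : B a.1 v = 0 := hv 1
      have e2 : B b.1 v = 0 := hv 2
      refine ⟨⟨v, hv1⟩, (QuadraticMap.polar_comm _ _ _).trans e1,
        (QuadraticMap.polar_comm _ _ _).trans e2, ?_, ?_⟩
      · show B y.1 v * B y.1 v ≠ 4
        rw [e0, zero_mul]; exact h40.symm
      · show B v y'.1 * B v y'.1 ≠ 4
        rw [QuadraticMap.polar_comm, hf v e0 e1 e2, zero_mul]; exact h40.symm
    have hfour : ∀ (j : ℕ) (t : Fin j → ι → F),
        (∀ i, t i ∈ Submodule.span F (Set.range ![y.1, a.1, b.1, y'.1])) →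
        (∀ i i', i ≠ i' → B (t i) (t i') = 0) → (∀ i, Q (t i) ≠ 0) →
        10 ≤ Fintype.card ι + j →
        ∃ y₁, OrthPair y₁ a ∧ OrthPair y₁ b ∧ GoodPair y y₁ ∧ GoodPair y₁ y' := by
      intro j t ht hto htn hj
      obtain ⟨v, hv, hv1⟩ := exists_perp_value h2 hQ ![y.1, a.1, b.1, y'.1] t ht hto htn
        (by omega) 1
      have e0 : B y.1 v = 0 := hv 0
      have e3 : B y'.1 v = 0 := hv 3
      refine ⟨⟨v, hv1⟩, (QuadraticMap.polar_comm _ _ _).trans (hv 1),
        (QuadraticMap.polar_comm _ _ _).trans (hv 2), ?_, ?_⟩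
      · show B y.1 v * B y.1 v ≠ 4
        rw [e0, zero_mul]; exact h40.symm
      · show B v y'.1 * B v y'.1 ≠ 4
        rw [QuadraticMap.polar_comm, e3, zero_mul]; exact h40.symm
    have hmem0 : y.1 ∈ Submodule.span F (Set.range ![y.1, a.1, b.1, y'.1]) :=
      Submodule.subset_span ⟨0, rfl⟩
    have hmem1 : a.1 ∈ Submodule.span F (Set.range ![y.1, a.1, b.1, y'.1]) :=
      Submodule.subset_span ⟨1, rfl⟩
    by_cases hn8 : 8 ≤ Fintype.card ι
    · refine hfour 2 ![y.1, a.1] (fun i => by fin_cases i <;> assumption) (fun i i' h => ?_)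
        (fun i => by fin_cases i <;> simp [y.2, a.2]) (by omega)
      fin_cases i <;> fin_cases i' <;> simp_all [QuadraticMap.polar_comm (⇑Q) a.1 y.1]
    obtain ⟨s, hs0, hs4⟩ := h8.resolve_left hn8
    by_cases hg : B y.1 y'.1 * B y.1 y'.1 = 4
    · -- a degenerate pair
      push Not at hf
      obtain ⟨u, uy, ua, ub, uy'⟩ := hf
      obtain ⟨ε, hε, hε1⟩ : ∃ ε : F, B y.1 y'.1 = 2 * ε ∧ ε * ε = 1 := by
        refine ⟨B y.1 y'.1 / 2, by field_simp, ?_⟩
        field_simp
        linear_combination hg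
      set n := y'.1 - ε • y.1 with hn'
      have hny : B y.1 n = 0 := by
        rw [hn', QuadraticMap.polar_sub_right, QuadraticMap.polar_smul_right, polar_self', y.2, hε,
          smul_eq_mul]
        ring
      have hna : B a.1 n = 0 := by
        rw [hn', QuadraticMap.polar_sub_right, QuadraticMap.polar_smul_right,
          QuadraticMap.polar_comm (⇑Q) a.1 y'.1, QuadraticMap.polar_comm (⇑Q) a.1 y.1, ya', ya]
        simp
      have hnb : B b.1 n = 0 := by
        rw [hn', QuadraticMap.polar_sub_right, QuadraticMap.polar_smul_right,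
          QuadraticMap.polar_comm (⇑Q) b.1 y'.1, QuadraticMap.polar_comm (⇑Q) b.1 y.1, yb', yb]
        simp
      have hQn : Q n = 0 := by
        rw [hn', sub_eq_add_neg, QuadraticMap.map_add (⇑Q), QuadraticMap.map_neg,
          QuadraticMap.map_smul, QuadraticMap.polar_neg_right, QuadraticMap.polar_smul_right,
          QuadraticMap.polar_comm (⇑Q) y'.1 y.1, hε, y.2, y'.2]
        simp only [smul_eq_mul]
        linear_combination -hε1
      set f := B y'.1 u with hf'
      obtain ⟨u', hu'⟩ : ∃ u', u' = (s / f) • u := ⟨_, rfl⟩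
      have hnu : B n u' = s := by
        rw [hn', hu', QuadraticMap.polar_smul_right, QuadraticMap.polar_sub_left,
          QuadraticMap.polar_smul_left, uy, smul_zero, sub_zero, ← hf', smul_eq_mul,
          div_mul_cancel₀ _ uy']
      obtain ⟨v, hv'⟩ : ∃ v, v = u' + ((1 - Q u') / s) • n := ⟨_, rfl⟩
      have hv1 : Q v = 1 := by
        rw [hv', QuadraticMap.map_add (⇑Q), QuadraticMap.map_smul, hQn,
          QuadraticMap.polar_smul_right, QuadraticMap.polar_comm (⇑Q) u' n, hnu, smul_zero,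
          smul_eq_mul, div_mul_cancel₀ _ hs0]
        ring
      have hv : ∀ x, B x u = 0 → B x n = 0 → B x v = 0 := fun x h h' => by
        rw [hv', hu', QuadraticMap.polar_add_right, QuadraticMap.polar_smul_right,
          QuadraticMap.polar_smul_right, h, h']
        simp
      refine ⟨⟨v, hv1⟩, (QuadraticMap.polar_comm _ _ _).trans (hv _ ua hna),
        (QuadraticMap.polar_comm _ _ _).trans (hv _ ub hnb), ?_, ?_⟩
      · show B y.1 v * B y.1 v ≠ 4
        rw [hv _ uy hny, zero_mul]; exact h40.symm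
      · show B v y'.1 * B v y'.1 ≠ 4
        have : B v y'.1 = s := by
          rw [QuadraticMap.polar_comm, show y'.1 = n + ε • y.1 by rw [hn']; abel,
            QuadraticMap.polar_add_left, QuadraticMap.polar_smul_left, hv _ uy hny, hv',
            QuadraticMap.polar_add_right, QuadraticMap.polar_smul_right, hnu, polar_self', hQn]
          simp
        rw [this]; exact hs4
    · set w := y'.1 - (B y.1 y'.1 / 2) • y.1 with hw'
      have hyw : B y.1 w = 0 := by
        rw [hw', QuadraticMap.polar_sub_right, QuadraticMap.polar_smul_right, polar_self', y.2,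
          smul_eq_mul]
        field_simp
        ring
      have haw : B a.1 w = 0 := by
        rw [hw', QuadraticMap.polar_sub_right, QuadraticMap.polar_smul_right,
          QuadraticMap.polar_comm (⇑Q) a.1 y'.1, QuadraticMap.polar_comm (⇑Q) a.1 y.1, ya', ya]
        simp
      have hQw : Q w ≠ 0 := by
        rw [hw', sub_eq_add_neg, QuadraticMap.map_add (⇑Q), QuadraticMap.map_neg,
          QuadraticMap.map_smul, QuadraticMap.polar_neg_right, QuadraticMap.polar_smul_right,
          QuadraticMap.polar_comm (⇑Q) y'.1 y.1, y.2, y'.2]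
        simp only [smul_eq_mul]
        intro h
        field_simp at h
        exact hg (by linear_combination -h)
      refine hfour 3 ![y.1, a.1, w] (fun i => ?_) (fun i i' h => ?_)
        (fun i => by fin_cases i <;> simp [y.2, a.2, hQw]) (by omega)
      · fin_cases i
        · exact hmem0
        · exact hmem1
        · exact Submodule.sub_mem _ (Submodule.subset_span ⟨3, rfl⟩)
            (Submodule.smul_mem _ _ hmem0)
      · have hay : B a.1 y.1 = 0 := (QuadraticMap.polar_comm _ _ _).trans ya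
        have hwy : B w y.1 = 0 := (QuadraticMap.polar_comm _ _ _).trans hyw
        have hwa : B w a.1 = 0 := (QuadraticMap.polar_comm _ _ _).trans haw
        fin_cases i <;> fin_cases i' <;>
          first
            | exact absurd rfl h
            | exact horth
            | exact hay
            | exact hyw
            | exact hwy
            | exact haw
            | exact hwa
  gen := closure_gen h2 hQ hn
  gen_inv x := by
    rintro ⟨a, b, ha, hb, hab, hx⟩
    refine ⟨b, a, hb, ha, (QuadraticMap.polar_comm _ _ _).trans hab, ?_⟩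
    have h1 : mat Q x⁻¹.1 * mat Q x.1 = 1 := by
      rw [← mat_mul, ← Subgroup.coe_mul, inv_mul_cancel]; rfl
    calc mat Q x⁻¹.1 = mat Q x⁻¹.1 * (mat Q x.1 *
          (Cfsg.reflectionMatrix (⇑Q) b * Cfsg.reflectionMatrix (⇑Q) a)) := by
            rw [hx, mul_assoc, ← mul_assoc (Cfsg.reflectionMatrix (⇑Q) b),
              reflectionMatrix_mul_self Q (by rw [hb]; exact one_ne_zero), one_mul,
              reflectionMatrix_mul_self Q (by rw [ha]; exact one_ne_zero), mul_one]
      _ = _ := by rw [← mul_assoc, h1, one_mul]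
  gen_fix x hx z := by
    obtain ⟨a, b, ha, hb, hab, hx⟩ := hx
    obtain ⟨v, hv, hv1⟩ := exists_perp_value h2 hQ ![a, b, z.1] ![a, b]
      (fun i => by fin_cases i <;> [exact Submodule.subset_span ⟨0, rfl⟩; exact Submodule.subset_span ⟨1, rfl⟩])
      (fun i i' h => by fin_cases i <;> fin_cases i' <;> simp_all [QuadraticMap.polar_comm (⇑Q) b a])
      (fun i => by fin_cases i <;> simp [ha, hb]) (by omega) 1
    refine ⟨⟨v, hv1⟩, (smul_eq_iff _ _ _).2 ?_, (QuadraticMap.polar_comm _ _ _).trans (hv 2)⟩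
    rw [gen_mulVec ha hb hab hx, show B a v = 0 from hv 0, show B b v = 0 from hv 1]
    simp
  gen_chain x hx y y' hy hy' := by
    obtain ⟨a, b, ha, hb, hab, hx⟩ := hx
    obtain ⟨ay, byy⟩ := gen_fix_perp h2 ha hb hab hx ((smul_eq_iff _ _ _).1 hy)
    obtain ⟨v, hv, hv1⟩ := exists_perp_value h2 hQ ![a, b, y.1, y'.1] ![a, b, y.1]
      (fun i => by
        fin_cases i
        · exact Submodule.subset_span ⟨0, rfl⟩
        · exact Submodule.subset_span ⟨1, rfl⟩
        · exact Submodule.subset_span ⟨2, rfl⟩)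
      (fun i i' h => by
        fin_cases i <;> fin_cases i' <;>
          simp_all [QuadraticMap.polar_comm (⇑Q) b a, QuadraticMap.polar_comm (⇑Q) y.1 a,
            QuadraticMap.polar_comm (⇑Q) y.1 b])
      (fun i => by fin_cases i <;> simp [ha, hb, y.2]) (by omega) 1
    have h40 : (4 : F) ≠ 0 := by
      rw [show (4 : F) = 2 * 2 by norm_num]; exact mul_ne_zero h2 h2
    refine ⟨⟨v, hv1⟩, (smul_eq_iff _ _ _).2 ?_, Or.inl ?_, Or.inl ?_⟩
    · rw [gen_mulVec ha hb hab hx, show B a v = 0 from hv 0, show B b v = 0 from hv 1]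
      simp
    · show B y.1 v * B y.1 v ≠ 4
      rw [show B y.1 v = 0 from hv 2, zero_mul]; exact h40.symm
    · show B v y'.1 * B v y'.1 ≠ 4
      rw [QuadraticMap.polar_comm, show B y'.1 v = 0 from hv 3, zero_mul]; exact h40.symm

end Sphere

section Bound

variable {F : Type u} [Field F] [Fintype F] {ι κ : Type} [Fintype ι] [DecidableEq ι] [Fintype κ]
  [DecidableEq κ] {Q : QuadraticForm F (ι → F)} {Q' : QuadraticForm F (κ → F)}

/-- The bound passes from the stabiliser of a vector of norm one to the whole group. -/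
theorem bound_of_stabilizer (h2 : (2 : F) ≠ 0) (hQ : (QuadraticMap.polarBilin Q).Nondegenerate)
    (hn : 7 ≤ Fintype.card ι) (h8 : 8 ≤ Fintype.card ι ∨ ∃ s : F, s ≠ 0 ∧ s * s ≠ 4)
    (e : Emb Q Q') (z : ι → F) (hz : Q z = 1) (hzL : ∀ v, QuadraticMap.polar (⇑Q) z (e.L v) = 0)
    (hperp : ∀ x, (∀ v, QuadraticMap.polar (⇑Q) x (e.L v) = 0) → ∃ c : F, x = c • z)
    (hperf : commutator ↥(Cfsg.Omega F ⇑Q') = ⊤) (N : ℕ)
    (hb : ∀ (E : Type u) [Group E] [Finite E] (π : E →* ↥(Cfsg.Omega F ⇑Q')),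
      Function.Surjective π → π.ker ≤ Subgroup.center E → commutator E = ⊤ →
        Nat.card E ≤ N * Nat.card ↥(Cfsg.Omega F ⇑Q'))
    (E : Type u) [Group E] [Finite E] (π : E →* ↥(Cfsg.Omega F ⇑Q))
    (hs : Function.Surjective π) (hc : π.ker ≤ Subgroup.center E) (hE : commutator E = ⊤) :
    Nat.card E ≤ N * Nat.card ↥(Cfsg.Omega F ⇑Q) := by
  classical
  let z₀ : Sphere Q := ⟨z, hz⟩
  let f : ↥(Cfsg.Omega F ⇑Q') →* ↥(Cfsg.Omega F ⇑Q) :=
    (e.hom.comp (Cfsg.Omega F ⇑Q').subtype).codRestrict _ fun g => e.hom_omega g.2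
  have hf : Function.Injective f := fun a b h =>
    Subtype.ext (e.hom_injective (congrArg Subtype.val h))
  have hrange : f.range = MulAction.stabilizer _ z₀ := by
    ext g
    constructor
    · rintro ⟨g', rfl⟩
      exact (smul_eq_iff _ _ _).2 (e.hom_fix g'.1 hzL)
    · intro hg
      obtain ⟨g', hg', h⟩ := e.exists_preimage h2 hQ g.2 fun x hx => by
        obtain ⟨c, rfl⟩ := hperp x hx
        rw [Matrix.mulVec_smul, (smul_eq_iff g z₀ z₀).1 hg]
      exact ⟨⟨g', hg'⟩, Subtype.ext h⟩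
  let P : Subgroup E := (MulAction.stabilizer ↥(Cfsg.Omega F ⇑Q) z₀).comap π
  have hP : P.map π = MulAction.stabilizer _ z₀ := Subgroup.map_comap_eq_self_of_surjective hs _
  let ψ : P →* ↥(Cfsg.Omega F ⇑Q') :=
    ((MonoidHom.ofInjective hf).symm.toMonoidHom).comp
      ((π.comp P.subtype).codRestrict f.range fun p => hrange ▸ p.2)
  have hfψ : ∀ p : P, f (ψ p) = π p := fun p =>
    congrArg Subtype.val ((MonoidHom.ofInjective hf).apply_symm_apply
      ⟨π p, hrange ▸ p.2⟩)
  have hψs : Function.Surjective ψ := fun g => by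
    obtain ⟨p, hp⟩ := hs (f g)
    exact ⟨⟨p, by rw [Subgroup.mem_comap, hp, ← hrange]; exact ⟨g, rfl⟩⟩, hf (by rw [hfψ]; exact hp)⟩
  have hψc : ψ.ker ≤ Subgroup.center P := by
    intro p hp
    have : π p.1 = 1 := by rw [← hfψ, MonoidHom.mem_ker.1 hp, map_one]
    exact Subgroup.mem_center_iff.2 fun q =>
      Subtype.ext (Subgroup.mem_center_iff.1 (hc this) q.1)
  obtain ⟨hDs, hDp⟩ := derived_of_central ψ hψs hψc hperf
  let ψ' : ↥(commutator P) →* ↥(Cfsg.Omega F ⇑Q') := ψ.comp (commutator P).subtype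
  have hcard := hb ↥(commutator P) ψ' hDs (fun x hx => Subgroup.mem_center_iff.2 fun y =>
    Subtype.ext (Subgroup.mem_center_iff.1 (hψc (x := x.1) hx) y.1)) hDp
  let D : Subgroup E := (commutator P).map P.subtype
  let M : Subgroup E := D ⊓ π.ker
  have hMc : M ≤ Subgroup.center E := inf_le_right.trans hc
  haveI : M.Normal := ⟨fun a ha g => by
    rw [Subgroup.mem_center_iff.1 (hMc ha) g, mul_inv_cancel_right]; exact ha⟩
  have hMcard : Nat.card M ≤ N := by
    have h1 : Nat.card ψ'.ker * Nat.card ↥(Cfsg.Omega F ⇑Q') = Nat.card ↥(commutator P) := by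
      rw [← Subgroup.card_top (G := ↥(Cfsg.Omega F ⇑Q')), ← MonoidHom.range_eq_top.2 hDs,
        ← Subgroup.index_ker, Subgroup.card_mul_index]
    have hinj : Nat.card M ≤ Nat.card ψ'.ker := by
      refine Nat.card_le_card_of_surjective
        (fun x : ψ'.ker => (⟨x.1.1.1, ⟨⟨x.1.1, x.1.2, rfl⟩, ?_⟩⟩ : M)) ?_
      · show π (x.1.1 : E) = 1
        rw [← hfψ x.1.1,
          show ψ x.1.1 = 1 from MonoidHom.mem_ker.1 x.2, map_one]
      · rintro ⟨_, ⟨p, hp, rfl⟩, hk⟩
        exact ⟨⟨⟨p, hp⟩, hf (by rw [map_one]; exact (hfψ p).trans hk)⟩, rfl⟩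
    exact hinj.trans (Nat.le_of_mul_le_mul_right (h1.trans_le hcard) Nat.card_pos)
  let π' : E ⧸ M →* ↥(Cfsg.Omega F ⇑Q) := QuotientGroup.lift M π inf_le_right
  have hmk : Function.Surjective (QuotientGroup.mk' M) := QuotientGroup.mk'_surjective M
  have hcov : Covering π' (OrthPair (Q := Q))
      (GoodAgree π' z₀ (D.map (QuotientGroup.mk' M))) (Gen Q) z₀
      (D.map (QuotientGroup.mk' M)) := by
    refine covering h2 hQ hn π' (fun g => ?_) ?_ ?_ z₀ _ ?_ ?_ (Or.inl h8)
    · obtain ⟨x, rfl⟩ := hs g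
      exact ⟨(x : E ⧸ M), rfl⟩
    · intro x hx
      obtain ⟨x, rfl⟩ := hmk x
      refine Subgroup.mem_center_iff.2 fun y => ?_
      obtain ⟨y, rfl⟩ := hmk y
      rw [← map_mul, ← map_mul, Subgroup.mem_center_iff.1 (hc hx) y]
    · rw [eq_top_iff, ← MonoidHom.range_eq_top.2 hmk, MonoidHom.range_eq_map, ← hE,
        commutator_def, commutator_def, Subgroup.map_commutator]
      exact Subgroup.commutator_mono le_top le_top
    · rintro _ ⟨d, hd, rfl⟩ hπ
      exact (QuotientGroup.eq_one_iff d).2 ⟨hd, hπ⟩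
    · rw [Subgroup.map_map]
      refine le_antisymm ?_ ?_
      · rintro _ ⟨_, ⟨p, -, rfl⟩, rfl⟩
        exact p.2
      · rintro g hg
        rw [← hrange] at hg
        obtain ⟨g', rfl⟩ := hg
        obtain ⟨d, hd⟩ := hDs g'
        exact ⟨d.1.1, ⟨d.1, d.2, rfl⟩, by rw [← hd]; exact (hfψ d.1).symm⟩
  calc Nat.card E = Nat.card (E ⧸ M) * Nat.card M :=
        Subgroup.card_eq_card_quotient_mul_card_subgroup M
    _ ≤ Nat.card ↥(Cfsg.Omega F ⇑Q) * N := by
      haveI : Finite (Matrix.GeneralLinearGroup ι F) := inferInstance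
      exact Nat.mul_le_mul (Nat.card_le_card_of_injective π' hcov.injective) hMcard
    _ = _ := mul_comm _ _

end Bound

end CfsgLib.MultOrth
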