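import Cfsg.Agent.Forms4.OmegaSimple
import Cfsg.Agent.Forms.OrthPerp
import Cfsg.Agent.AutPOmega.Basic

/-!
# Orthogonal complements and embedded orthogonal groups, odd characteristic
-/

set_option autoImplicit false
set_option linter.unusedSectionVars false

namespace CfsgLib.MultOrth

open Matrix Module CfsgLib.Spinor CfsgLib.Forms CfsgLib.Forms4
open CfsgLib.AutPOmega (perp perp_perp)

variable {F : Type*} [Field F] [Fintype F] {ι : Type} [Fintype ι] [DecidableEq ι]
  {Q : QuadraticForm F (ι → F)}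

set_option quotPrecheck false in
local notation "B" => QuadraticMap.polar (⇑Q)

/-- Few vectors have a common orthogonal vector of every value. -/
theorem exists_perp_value (h2 : (2 : F) ≠ 0) (hQ : (QuadraticMap.polarBilin Q).Nondegenerate)
    {k j : ℕ} (s : Fin k → ι → F) (t : Fin j → ι → F)
    (ht : ∀ i, t i ∈ Submodule.span F (Set.range s)) (hto : ∀ i i', i ≠ i' → B (t i) (t i') = 0)
    (htn : ∀ i, Q (t i) ≠ 0) (hn : 2 * k + 2 ≤ Fintype.card ι + j) (c : F) :
    ∃ y, (∀ i, B (s i) y = 0) ∧ Q y = c := by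
  set W := perpSub Q s with hW
  set S := Submodule.span F (Set.range s) with hS
  set T := Submodule.span F (Set.range t) with hT
  set R := W ⊓ perp Q W with hR
  have hRW : ∀ r ∈ R, ∀ w ∈ W, B w r = 0 := fun r hr w hw => hr.2 w hw
  have hRS : R ≤ S := by
    intro r hr
    rw [← perp_perp hQ S]
    intro w hw
    exact hRW r hr w (mem_perpSub.2 fun i => hw (s i) (Submodule.subset_span ⟨i, rfl⟩))
  have hWS : ∀ w ∈ W, ∀ x ∈ S, B x w = 0 := by
    intro w hw x hx
    induction hx using Submodule.span_induction with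
    | mem x hx => obtain ⟨i, rfl⟩ := hx; exact mem_perpSub.1 hw i
    | zero => exact QuadraticMap.polar_zero_left (Q := Q) w
    | add x y _ _ hx hy => rw [QuadraticMap.polar_add_left, hx, hy, add_zero]
    | smul a x _ hx => rw [QuadraticMap.polar_smul_left, hx, smul_zero]
  have hcoef : ∀ (g : Fin j → F) (i : Fin j),
      B (t i) (∑ x, g x • t x) = g i * (2 * Q (t i)) := by
    intro g i
    rw [← QuadraticMap.polarBilin_apply_apply, map_sum, Finset.sum_eq_single i]
    · rw [map_smul, QuadraticMap.polarBilin_apply_apply, polar_self', smul_eq_mul]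
    · intro x _ hx
      rw [map_smul, QuadraticMap.polarBilin_apply_apply, hto i x (Ne.symm hx), smul_zero]
    · simp
  have hli : LinearIndependent F t := Fintype.linearIndependent_iff.2 fun g hg i => by
    have := hcoef g i
    rw [hg, QuadraticMap.polar_zero_right] at this
    exact (mul_eq_zero.1 this.symm).resolve_right (mul_ne_zero h2 (htn i))
  have hTR : T ⊓ R = ⊥ := by
    rw [eq_bot_iff]
    rintro x ⟨hxT, hxR⟩
    obtain ⟨g, rfl⟩ := (Submodule.mem_span_range_iff_exists_fun F).1 hxT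
    have hg : ∀ i, g i = 0 := fun i => by
      have := hWS _ hxR.1 (t i) (ht i)
      rw [hcoef] at this
      exact (mul_eq_zero.1 this).resolve_right (mul_ne_zero h2 (htn i))
    simp [hg]
  have hTS : T ≤ S := Submodule.span_le.2 (by rintro _ ⟨i, rfl⟩; exact ht i)
  have hdim : j + finrank F R ≤ k := by
    have h1 := Submodule.finrank_sup_add_finrank_inf_eq T R
    rw [hTR, finrank_bot, add_zero, hT, finrank_span_eq_card hli, Fintype.card_fin] at h1
    have h3 : finrank F S ≤ k := by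
      have := finrank_range_le_card (R := F) s
      simpa [Set.finrank] using this
    have h4 : finrank F ↥(T ⊔ R) ≤ finrank F S := Submodule.finrank_mono (sup_le hTS hRS)
    rw [hT] at h4
    omega
  obtain ⟨C, hC⟩ := R.exists_isCompl
  have hsplit : R ⊔ C ⊓ W = W := by
    rw [← sup_inf_assoc_of_le C (inf_le_left : R ≤ W), hC.sup_eq_top, top_inf_eq]
  have hbot : R ⊓ (C ⊓ W) = ⊥ := by rw [← inf_assoc, hC.inf_eq_bot, bot_inf_eq]
  have hfr := Submodule.finrank_sup_add_finrank_inf_eq R (C ⊓ W)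
  rw [hsplit, hbot, finrank_bot, add_zero] at hfr
  have hWd := le_finrank_perpSub Q s
  rw [finrank_fintype_fun_eq_card, ← hW] at hWd
  obtain ⟨z, hz⟩ := exists_quad_value h2 (Q.comp (C ⊓ W).subtype) (fun x hx => by
    have hx' : ∀ y ∈ W, B y (x : ι → F) = 0 := by
      intro y hy
      rw [← hsplit] at hy
      obtain ⟨r, hr, w, hw, rfl⟩ := Submodule.mem_sup.1 hy
      have hxw : B (x : ι → F) w = 0 := by simpa [QuadraticMap.polar] using hx ⟨w, hw⟩
      rw [QuadraticMap.polar_add_left, QuadraticMap.polar_comm (⇑Q) r, hRW r hr _ x.2.2,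
        QuadraticMap.polar_comm (⇑Q) w, hxw, add_zero]
    have hxR : (x : ι → F) ∈ R := ⟨x.2.2, hx'⟩
    have : (x : ι → F) ∈ R ⊓ (C ⊓ W) := ⟨hxR, x.2⟩
    rw [hbot] at this
    exact Subtype.ext this) (by omega) c
  exact ⟨z, fun i => mem_perpSub.1 z.2.2 i, hz⟩

/-! ### Embedded orthogonal groups -/

variable {κ : Type} [Fintype κ] [DecidableEq κ] {Q' : QuadraticForm F (κ → F)}

/-- An isometric embedding of a nondegenerate form. -/
structure Emb (Q : QuadraticForm F (ι → F)) (Q' : QuadraticForm F (κ → F)) where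
  /-- the map -/
  L : (κ → F) →ₗ[F] (ι → F)
  quad : ∀ v, Q (L v) = Q' v
  nd : (QuadraticMap.polarBilin Q').Nondegenerate

namespace Emb

variable (e : Emb Q Q')

theorem polar (u v : κ → F) : B (e.L u) (e.L v) = QuadraticMap.polar (⇑Q') u v := by
  simp [QuadraticMap.polar, ← map_add, e.quad]

/-- The orthogonal projection. -/
noncomputable def P : (ι → F) →ₗ[F] (κ → F) :=
  (LinearMap.BilinForm.toDual (QuadraticMap.polarBilin Q') e.nd).symm.toLinearMap ∘ₗ
    LinearMap.compl₂ (QuadraticMap.polarBilin Q) e.L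

theorem polar_P (x : ι → F) (v : κ → F) :
    QuadraticMap.polar (⇑Q') (e.P x) v = B x (e.L v) := by
  show (QuadraticMap.polarBilin Q') (e.P x) v = _
  rw [P, LinearMap.comp_apply, LinearEquiv.coe_toLinearMap,
    LinearMap.BilinForm.apply_toDual_symm_apply]
  rfl

theorem P_L (v : κ → F) : e.P (e.L v) = v := by
  rw [← sub_eq_zero]
  refine polar_nondeg_vec e.nd fun u => ?_
  rw [QuadraticMap.polar_sub_left, e.polar_P, e.polar, sub_self]

theorem P_perp {x : ι → F} (hx : ∀ v, B x (e.L v) = 0) : e.P x = 0 :=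
  polar_nondeg_vec e.nd fun u => by rw [e.polar_P, hx]

theorem rest_perp (x : ι → F) (v : κ → F) : B (x - e.L (e.P x)) (e.L v) = 0 := by
  rw [QuadraticMap.polar_sub_left, e.polar, e.polar_P, sub_self]

/-- The map extended by the identity. -/
noncomputable def ext' (g : ↥(Cfsg.isometryGroup F ⇑Q')) : Module.End F (ι → F) :=
  e.L ∘ₗ Matrix.toLin' (mat Q' g) ∘ₗ e.P + (LinearMap.id - e.L ∘ₗ e.P)

theorem ext'_apply (g : ↥(Cfsg.isometryGroup F ⇑Q')) (x : ι → F) :
    e.ext' g x = e.L (mat Q' g *ᵥ e.P x) + (x - e.L (e.P x)) := rfl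

theorem P_ext' (g : ↥(Cfsg.isometryGroup F ⇑Q')) (x : ι → F) :
    e.P (e.ext' g x) = mat Q' g *ᵥ e.P x := by
  rw [e.ext'_apply, map_add, e.P_L, map_sub, e.P_L, sub_self, add_zero]

theorem ext'_one : e.ext' 1 = 1 := LinearMap.ext fun x => by
  rw [e.ext'_apply, mat_one, Matrix.one_mulVec]; simp

theorem ext'_mul (g h : ↥(Cfsg.isometryGroup F ⇑Q')) : e.ext' (g * h) = e.ext' g * e.ext' h :=
  LinearMap.ext fun x => by
    rw [Module.End.mul_apply, e.ext'_apply, e.ext'_apply g, e.P_ext', e.ext'_apply, mat_mul,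
      ← Matrix.mulVec_mulVec]
    abel

/-- The homomorphism of isometry groups. -/
noncomputable def hom : ↥(Cfsg.isometryGroup F ⇑Q') →* ↥(Cfsg.isometryGroup F ⇑Q) :=
  MonoidHom.codRestrict
    (MonoidHom.toHomUnits
      { toFun := fun g => LinearMap.toMatrix' (e.ext' g)
        map_one' := by rw [e.ext'_one]; exact LinearMap.toMatrix'_one
        map_mul' := fun g h => by rw [e.ext'_mul]; exact LinearMap.toMatrix'_mul _ _ })
    (Cfsg.isometryGroup F ⇑Q) fun g x _ => by
      show Q (LinearMap.toMatrix' (e.ext' g) *ᵥ x) = Q x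
      rw [LinearMap.toMatrix'_mulVec, e.ext'_apply]
      have hd : x = e.L (e.P x) + (x - e.L (e.P x)) := by abel
      conv_rhs => rw [hd]
      rw [QuadraticMap.map_add (⇑Q), QuadraticMap.map_add (⇑Q), e.quad, e.quad, quad_mulVec,
        QuadraticMap.polar_comm (⇑Q) (e.L _), QuadraticMap.polar_comm (⇑Q) (e.L (e.P x)),
        e.rest_perp, e.rest_perp]

theorem hom_mulVec (g : ↥(Cfsg.isometryGroup F ⇑Q')) (x : ι → F) :
    mat Q (e.hom g) *ᵥ x = e.L (mat Q' g *ᵥ e.P x) + (x - e.L (e.P x)) := by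
  show LinearMap.toMatrix' (e.ext' g) *ᵥ x = _
  rw [LinearMap.toMatrix'_mulVec, e.ext'_apply]

theorem hom_fix (g : ↥(Cfsg.isometryGroup F ⇑Q')) {x : ι → F} (hx : ∀ v, B x (e.L v) = 0) :
    mat Q (e.hom g) *ᵥ x = x := by
  rw [e.hom_mulVec, e.P_perp hx]; simp

theorem hom_L (g : ↥(Cfsg.isometryGroup F ⇑Q')) (v : κ → F) :
    mat Q (e.hom g) *ᵥ e.L v = e.L (mat Q' g *ᵥ v) := by
  rw [e.hom_mulVec, e.P_L]; simp

theorem hom_injective : Function.Injective e.hom := fun g h hgh =>
  mat_ext Q' (Matrix.ext_iff_mulVec.2 fun v => by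
    have := e.hom_L g v
    rw [hgh, e.hom_L] at this
    simpa [e.P_L] using congrArg e.P this.symm)

theorem hom_omega {g : ↥(Cfsg.isometryGroup F ⇑Q')} (hg : g ∈ Cfsg.Omega F ⇑Q') :
    e.hom g ∈ Cfsg.Omega F ⇑Q := by
  have h : (commutator ↥(Cfsg.isometryGroup F ⇑Q')).map e.hom ≤ commutator _ := by
    rw [commutator_def, commutator_def, Subgroup.map_commutator]
    exact Subgroup.commutator_mono le_top le_top
  exact h ⟨g, hg, rfl⟩

theorem hom_reflIso (v : κ → F) (hv : Q' v ≠ 0) :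
    e.hom (reflIso Q' v hv) = reflIso Q (e.L v) (by rwa [e.quad]) := by
  refine mat_ext Q (Matrix.ext_iff_mulVec.2 fun x => ?_)
  rw [e.hom_mulVec, mat_reflIso, mat_reflIso, reflectionMatrix_mulVec, reflectionMatrix_mulVec,
    refl_apply, refl_apply, map_sub, map_smul, e.quad, QuadraticMap.polar_comm (⇑Q') v,
    e.polar_P, QuadraticMap.polar_comm (⇑Q) (e.L v) x]
  abel

theorem hom_isReflProd {g : ↥(Cfsg.isometryGroup F ⇑Q')} {vs : List (κ → F)}
    (h : IsReflProd Q' g vs) : IsReflProd Q (e.hom g) (vs.map e.L) := by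
  induction vs generalizing g with
  | nil => rw [show g = 1 from mat_ext Q' h.2, map_one]; exact IsReflProd.one
  | cons v vs ih =>
    have hv := h.1 v List.mem_cons_self
    obtain ⟨g', hg'⟩ := exists_isometry_of_prod (Q := Q') vs
      fun u hu => h.1 u (List.mem_cons_of_mem _ hu)
    have := ((IsReflProd.reflIso v hv).mul hg')
    rw [show g = reflIso Q' v hv * g' from mat_ext Q' (h.2.trans this.2.symm), map_mul, hom_reflIso]
    exact (IsReflProd.reflIso (e.L v) _).mul (ih hg')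

/-- The elements of `Ω` fixing the complement come from `Ω` of the subspace. -/
theorem exists_preimage (h2 : (2 : F) ≠ 0) (hQ : (QuadraticMap.polarBilin Q).Nondegenerate)
    {g : ↥(Cfsg.isometryGroup F ⇑Q)} (hg : g ∈ Cfsg.Omega F ⇑Q)
    (hfix : ∀ x, (∀ v, B x (e.L v) = 0) → mat Q g *ᵥ x = x) :
    ∃ g' ∈ Cfsg.Omega F ⇑Q', e.hom g' = g := by
  have himg : ∀ (g : ↥(Cfsg.isometryGroup F ⇑Q)),
      (∀ x, (∀ v, B x (e.L v) = 0) → mat Q g *ᵥ x = x) → ∀ v,
      mat Q g *ᵥ e.L v = e.L (e.P (mat Q g *ᵥ e.L v)) := by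
    intro g hfix v
    rw [← sub_eq_zero]
    set r := mat Q g *ᵥ e.L v - e.L (e.P (mat Q g *ᵥ e.L v))
    refine polar_nondeg_vec hQ fun y => ?_
    have hy : y = e.L (e.P y) + (y - e.L (e.P y)) := by abel
    rw [hy, QuadraticMap.polar_add_right, e.rest_perp, zero_add]
    set y' := y - e.L (e.P y)
    have hy' : ∀ u, B y' (e.L u) = 0 := e.rest_perp y
    rw [QuadraticMap.polar_sub_left, QuadraticMap.polar_comm (⇑Q) (e.L _) y', hy', sub_zero,
      ← hfix y' hy', polar_mulVec, QuadraticMap.polar_comm, hy']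
  let f : ↥(Cfsg.isometryGroup F ⇑Q) → Matrix κ κ F := fun g =>
    LinearMap.toMatrix' (e.P ∘ₗ Matrix.toLin' (mat Q g) ∘ₗ e.L)
  have hf : ∀ g v, f g *ᵥ v = e.P (mat Q g *ᵥ e.L v) := fun g v => by
    simp [f, LinearMap.toMatrix'_mulVec, Matrix.toLin'_apply]
  have hfix' : ∀ x, (∀ v, B x (e.L v) = 0) → mat Q g⁻¹ *ᵥ x = x := fun x hx => by
    conv_lhs => rw [← hfix x hx]
    rw [Matrix.mulVec_mulVec, ← mat_mul, inv_mul_cancel, mat_one, Matrix.one_mulVec]
  have m1 : f g * f g⁻¹ = 1 := Matrix.ext_iff_mulVec.2 fun v => by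
    rw [← Matrix.mulVec_mulVec, hf, hf, ← himg g⁻¹ hfix', Matrix.mulVec_mulVec, ← mat_mul,
      mul_inv_cancel, mat_one, Matrix.one_mulVec, e.P_L, Matrix.one_mulVec]
  have m2 : f g⁻¹ * f g = 1 := Matrix.ext_iff_mulVec.2 fun v => by
    rw [← Matrix.mulVec_mulVec, hf, hf, ← himg g hfix, Matrix.mulVec_mulVec, ← mat_mul,
      inv_mul_cancel, mat_one, Matrix.one_mulVec, e.P_L, Matrix.one_mulVec]
  let g' : ↥(Cfsg.isometryGroup F ⇑Q') := ⟨⟨f g, f g⁻¹, m1, m2⟩, fun v _ => by
    show Q' (f g *ᵥ v) = Q' v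
    rw [hf, ← e.quad, ← himg g hfix, quad_mulVec, e.quad]⟩
  have hhom : e.hom g' = g := by
    refine mat_ext Q (Matrix.ext_iff_mulVec.2 fun x => ?_)
    rw [e.hom_mulVec, show mat Q' g' = f g from rfl, hf, ← himg g hfix,
      ← hfix _ (e.rest_perp x), ← Matrix.mulVec_add]
    congr 1
    abel
  refine ⟨g', ?_, hhom⟩
  obtain ⟨vs, hvs⟩ := exists_isReflProd h2 e.nd g'
  have hvs' := e.hom_isReflProd hvs
  rw [hhom] at hvs'
  have h := (mem_omega_iff h2 hQ hvs').1 hg
  rw [mem_omega_iff h2 e.nd hvs]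
  simpa [Function.comp_def, e.quad] using h

end Emb

end CfsgLib.MultOrth
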