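import Cfsg.Agent.Spinor.Omega
import Cfsg.Agent.MultOrth.Assemble

/-!
# The spin group inside the Clifford algebra, odd characteristic

Normalised products of even numbers of vectors act on the space through the reflections in these
vectors; this gives a double cover of `Ω(Q)`.
-/

set_option autoImplicit false
set_option linter.unusedSectionVars false
set_option linter.unusedVariables false

namespace CfsgLib.MultOrth

open CliffordAlgebra Matrix CfsgLib.Spinor
open scoped commutatorElement

universe u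

variable {F : Type u} [Field F] {J : Type} [Fintype J] [DecidableEq J]
  (Q : QuadraticForm F (J → F))

theorem cliff_append (vs ws : List (J → F)) : cliff Q (vs ++ ws) = cliff Q vs * cliff Q ws := by
  simp [cliff]

theorem reverse_cliff (vs : List (J → F)) : reverse (cliff Q vs) = cliff Q vs.reverse := by
  induction vs with
  | nil => simp [cliff]
  | cons v vs ih =>
    rw [show cliff Q (v :: vs) = ι Q v * cliff Q vs by simp [cliff], reverse.map_mul, reverse_ι, ih,
      List.reverse_cons, cliff_append]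
    simp [cliff]

theorem cliff_mul_reverse (vs : List (J → F)) :
    cliff Q vs * cliff Q vs.reverse = algebraMap F _ (vs.map Q).prod := by
  have := reverse_cliff_mul Q vs.reverse
  rwa [reverse_cliff, List.reverse_reverse, List.map_reverse, List.prod_reverse] at this

theorem cliff_reverse_mul (vs : List (J → F)) :
    cliff Q vs.reverse * cliff Q vs = algebraMap F _ (vs.map Q).prod := by
  rw [← reverse_cliff, reverse_cliff_mul]

/-- `X` lifts the isometry `g`. -/
def IsLift (X : CliffordAlgebra Q) (g : ↥(Cfsg.isometryGroup F ⇑Q)) : Prop :=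
  ∃ (vs : List (J → F)) (c : F), IsReflProd Q g vs ∧ Even vs.length ∧
    c ^ 2 * (vs.map (fun v => Q v)).prod = 1 ∧ X = c • cliff Q vs

theorem IsLift.one : IsLift Q 1 1 := ⟨[], 1, IsReflProd.one, by simp, by simp, by simp [cliff]⟩

theorem IsLift.mul {X Y : CliffordAlgebra Q} {g h : ↥(Cfsg.isometryGroup F ⇑Q)}
    (hX : IsLift Q X g) (hY : IsLift Q Y h) : IsLift Q (X * Y) (g * h) := by
  obtain ⟨vs, c, hg, he, hc, rfl⟩ := hX
  obtain ⟨ws, d, hh, he', hd, rfl⟩ := hY
  refine ⟨vs ++ ws, c * d, hg.mul hh, by rw [List.length_append]; exact he.add he', ?_, ?_⟩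
  · rw [List.map_append, List.prod_append]
    linear_combination d ^ 2 * (ws.map (fun v => Q v)).prod * hc + hd
  · rw [cliff_append, smul_mul_smul_comm]

theorem IsLift.inv {u : (CliffordAlgebra Q)ˣ} {g : ↥(Cfsg.isometryGroup F ⇑Q)}
    (h : IsLift Q (u : CliffordAlgebra Q) g) :
    IsLift Q ((u⁻¹ : (CliffordAlgebra Q)ˣ) : CliffordAlgebra Q) g⁻¹ := by
  obtain ⟨vs, c, hg, he, hc, e⟩ := h
  refine ⟨vs.reverse, c, hg.inv, by rwa [List.length_reverse], ?_, ?_⟩
  · rwa [List.map_reverse, List.prod_reverse]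
  · refine Units.inv_eq_of_mul_eq_one_right ?_
    rw [e, smul_mul_smul_comm, cliff_mul_reverse, Algebra.algebraMap_eq_smul_one, smul_smul,
      ← sq, hc, one_smul]

/-- The spin group. -/
def Spin : Subgroup ((CliffordAlgebra Q)ˣ × ↥(Cfsg.isometryGroup F ⇑Q)) where
  carrier := {p | IsLift Q (p.1 : CliffordAlgebra Q) p.2}
  mul_mem' ha hb := IsLift.mul Q ha hb
  one_mem' := IsLift.one Q
  inv_mem' ha := IsLift.inv Q ha

/-- An element of the spin group from a list. -/
theorem exists_spin (vs : List (J → F)) {g : ↥(Cfsg.isometryGroup F ⇑Q)} (c : F)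
    (hg : IsReflProd Q g vs) (he : Even vs.length) (hc : c ^ 2 * (vs.map (fun v => Q v)).prod = 1) :
    ∃ x : Spin Q, (x.1.1 : CliffordAlgebra Q) = c • cliff Q vs ∧ x.1.2 = g := by
  have e1 : (c • cliff Q vs) * (c • cliff Q vs.reverse) = 1 := by
    rw [smul_mul_smul_comm, cliff_mul_reverse, Algebra.algebraMap_eq_smul_one, smul_smul, ← sq, hc,
      one_smul]
  have e2 : (c • cliff Q vs.reverse) * (c • cliff Q vs) = 1 := by
    rw [smul_mul_smul_comm, cliff_reverse_mul, Algebra.algebraMap_eq_smul_one, smul_smul, ← sq, hc,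
      one_smul]
  exact ⟨⟨(⟨_, _, e1, e2⟩, g), vs, c, hg, he, hc, rfl⟩, rfl, rfl⟩

/-- The scalar `-1` of the spin group. -/
def negOne : Spin Q :=
  ⟨(-1, 1), [], -1, IsReflProd.one, by simp, by simp, by simp [cliff]⟩

theorem negOne_mul_self : negOne Q * negOne Q = 1 := by
  refine Subtype.ext (Prod.ext ?_ ?_) <;> simp [negOne]

theorem negOne_mem_center : negOne Q ∈ Subgroup.center (Spin Q) :=
  Subgroup.mem_center_iff.2 fun g => Subtype.ext (Prod.ext (Units.ext (by simp [negOne])) (by simp [negOne]))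

variable [Fintype F] (h2 : (2 : F) ≠ 0) (hQ : (QuadraticMap.polarBilin Q).Nondegenerate)
include h2 hQ

theorem negOne_ne_one : negOne Q ≠ 1 := by
  intro h
  have h1 : ((-1 : F) : F) = 1 := by
    apply algebraMap_injective (Q := Q) (Module.finBasis F (J → F))
    have := congrArg (fun x : Spin Q => (x.1.1 : CliffordAlgebra Q)) h
    simpa [negOne] using this
  exact h2 (by linear_combination -h1)

/-- The spin group maps into `Ω`. -/
theorem snd_mem_omega (x : Spin Q) : x.1.2 ∈ Cfsg.Omega F ⇑Q := by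
  obtain ⟨vs, c, hg, he, hc, -⟩ := x.2
  refine mem_omega_of_isReflProd h2 hg he ⟨c⁻¹, ?_⟩
  have hc0 : c ≠ 0 := by rintro rfl; simp at hc
  field_simp
  linear_combination hc

/-- The projection. -/
def proj : Spin Q →* ↥(Cfsg.Omega F ⇑Q) :=
  ((MonoidHom.snd _ _).comp (Spin Q).subtype).codRestrict _ fun x => snd_mem_omega Q h2 hQ x

theorem proj_surjective : Function.Surjective (proj Q h2 hQ) := by
  rintro ⟨g, hg⟩
  obtain ⟨vs, hvs⟩ := exists_isReflProd h2 hQ g
  obtain ⟨he, r, hr⟩ := (mem_omega_iff h2 hQ hvs).1 hg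
  have hr0 : r ≠ 0 := by rintro rfl; exact prod_quad_ne_zero hvs.1 (by simpa using hr)
  obtain ⟨x, -, hx⟩ := exists_spin Q vs r⁻¹ hvs he (by rw [hr]; field_simp)
  exact ⟨x, Subtype.ext hx⟩

theorem mem_ker_proj (x : Spin Q) (hx : proj Q h2 hQ x = 1) : x = 1 ∨ x = negOne Q := by
  classical
  have hg : x.1.2 = 1 := congrArg Subtype.val hx
  obtain ⟨vs, c, hvs, he, hc, hX⟩ := x.2
  let b := Module.finBasis F (J → F)
  set X := cliff Q vs with hXdef
  have h1 : ((vs.map (refl Q)).prod : Module.End F (J → F)) = 1 := by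
    rw [← toLin'_prod, ← hvs.2, hg, mat_one, Matrix.toLin'_one, Module.End.one_eq_id]
  have hcon : ∀ d : Module.Dual F (J → F), contractLeft d X = 0 := by
    intro d
    obtain ⟨w, rfl⟩ : ∃ w, QuadraticMap.polarBilin Q w = d := by
      have hinj : Function.Injective (QuadraticMap.polarBilin Q) :=
        (injective_iff_map_eq_zero _).2 fun u hu => hQ.1 u fun v => by rw [hu]; rfl
      exact ((LinearMap.injective_iff_surjective_of_finrank_eq_finrank
        Subspace.dual_finrank_eq.symm).1 hinj) d
    rw [contractLeft_polar, hXdef, involute_cliff, smul_mul_assoc, cliff_mul_ι Q vs hvs.1, h1,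
      Module.End.one_apply, smul_smul, ← mul_pow, neg_one_mul, neg_neg, one_pow, one_smul,
      sub_self]
  obtain ⟨r, hr⟩ := scalar_of_contract b _ (Finset.nodup_toList _) X (mem_monSpan b X)
    (fun j _ => hcon _)
  have hinj := algebraMap_injective (Q := Q) b
  have hr2 : r * r = (vs.map Q).prod := by
    apply hinj
    rw [map_mul, ← reverse_cliff_mul, ← hXdef, hr, reverse.commutes]
  have hcr : (c * r) * (c * r) = 1 := by linear_combination c ^ 2 * hr2 + hc
  rcases mul_self_eq_one_iff.1 hcr with e | e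
  · refine Or.inl (Subtype.ext (Prod.ext (Units.ext ?_) hg))
    rw [hX, hr, Algebra.smul_def, ← map_mul, e, map_one]
    rfl
  · refine Or.inr (Subtype.ext (Prod.ext (Units.ext ?_) hg))
    rw [hX, hr, Algebra.smul_def, ← map_mul, e, map_neg, map_one]
    simp [negOne]

theorem ker_proj_le_center : (proj Q h2 hQ).ker ≤ Subgroup.center (Spin Q) := fun x hx => by
  rcases mem_ker_proj Q h2 hQ x hx with rfl | rfl
  · exact one_mem _
  · exact negOne_mem_center Q

theorem negOne_mem_ker : negOne Q ∈ (proj Q h2 hQ).ker := Subtype.ext rfl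

theorem ker_proj_eq : (proj Q h2 hQ).ker = Subgroup.zpowers (negOne Q) := by
  refine le_antisymm (fun x hx => ?_) (Subgroup.zpowers_le.2 (negOne_mem_ker Q h2 hQ))
  rcases mem_ker_proj Q h2 hQ x hx with rfl | rfl
  · exact one_mem _
  · exact Subgroup.mem_zpowers _

theorem orderOf_negOne : orderOf (negOne Q) = 2 :=
  orderOf_eq_prime (by rw [sq, negOne_mul_self]) (negOne_ne_one Q h2 hQ)

theorem finite_spin : Finite (Spin Q) := by
  haveI : Finite ((proj Q h2 hQ).ker) := by
    rw [ker_proj_eq Q h2 hQ]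
    exact Nat.finite_of_card_ne_zero (by rw [Nat.card_zpowers, orderOf_negOne Q h2 hQ]; norm_num)
  haveI : Finite ((Spin Q) ⧸ (proj Q h2 hQ).ker) :=
    Finite.of_injective _ (QuotientGroup.kerLift_injective (proj Q h2 hQ))
  exact Finite.of_subgroup_quotient (proj Q h2 hQ).ker

theorem card_spin : Nat.card (Spin Q) = 2 * Nat.card ↥(Cfsg.Omega F ⇑Q) := by
  rw [← Subgroup.card_mul_index (proj Q h2 hQ).ker, Subgroup.index_ker,
    MonoidHom.range_eq_top.2 (proj_surjective Q h2 hQ), Subgroup.card_top, ker_proj_eq Q h2 hQ,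
    Nat.card_zpowers, orderOf_negOne Q h2 hQ]

/-- Three orthogonal vectors of norm one put `-1` in the derived group. -/
theorem commutator_spin (hΩ : commutator ↥(Cfsg.Omega F ⇑Q) = ⊤) {a b c : J → F} (ha : Q a = 1)
    (hb : Q b = 1) (hc : Q c = 1) (hab : QuadraticMap.polar (⇑Q) a b = 0)
    (hac : QuadraticMap.polar (⇑Q) a c = 0) (hbc : QuadraticMap.polar (⇑Q) b c = 0) :
    commutator (Spin Q) = ⊤ := by
  have hK : negOne Q ∈ commutator (Spin Q) := by
    have h0 : ∀ {v : J → F}, Q v = 1 → Q v ≠ 0 := fun h => by rw [h]; exact one_ne_zero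
    obtain ⟨x, hx, hxg⟩ := exists_spin Q [a, b] 1
      ((IsReflProd.reflIso a (h0 ha)).mul (IsReflProd.reflIso b (h0 hb))) (by simp) (by simp [ha, hb])
    obtain ⟨y, hy, hyg⟩ := exists_spin Q [b, c] 1
      ((IsReflProd.reflIso b (h0 hb)).mul (IsReflProd.reflIso c (h0 hc))) (by simp) (by simp [hb, hc])
    have anti : ∀ {u w : J → F}, QuadraticMap.polar (⇑Q) u w = 0 → ι Q w * ι Q u = -(ι Q u * ι Q w) := by
      intro u w h
      rw [ι_mul_ι_comm, QuadraticMap.polar_comm, h, map_zero, zero_sub]
    have hbb : ι Q b * ι Q b = 1 := by rw [ι_sq_scalar, hb, map_one]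
    have e1 : ((y * x : Spin Q).1.1 : CliffordAlgebra Q) =
        ((negOne Q * (x * y) : Spin Q).1.1 : CliffordAlgebra Q) := by
      simp only [Subgroup.coe_mul, Prod.fst_mul, Units.val_mul, negOne, hx, hy, cliff, one_smul,
        List.map_cons, List.map_nil, List.prod_cons, List.prod_nil, mul_one, Units.val_neg,
        Units.val_one, neg_one_mul]
      have l : ι Q b * ι Q c * (ι Q a * ι Q b) = ι Q c * ι Q a := by
        calc ι Q b * ι Q c * (ι Q a * ι Q b) = ι Q b * (ι Q c * ι Q a) * ι Q b := by noncomm_ring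
          _ = ι Q b * -(ι Q a * ι Q c) * ι Q b := by rw [anti hac]
          _ = -((ι Q b * ι Q a) * (ι Q c * ι Q b)) := by noncomm_ring
          _ = -((ι Q a * (ι Q b * ι Q b) * ι Q c)) := by rw [anti hab, anti hbc]; noncomm_ring
          _ = ι Q c * ι Q a := by rw [hbb, mul_one, ← anti hac]
      have r : ι Q a * ι Q b * (ι Q b * ι Q c) = ι Q a * ι Q c := by
        calc ι Q a * ι Q b * (ι Q b * ι Q c) = ι Q a * (ι Q b * ι Q b) * ι Q c := by noncomm_ring
          _ = _ := by rw [hbb, mul_one]
      rw [l, r, anti hac]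
    have e2 : proj Q h2 hQ (y * x) = proj Q h2 hQ (x * y) := by
      apply Subtype.ext
      show y.1.2 * x.1.2 = x.1.2 * y.1.2
      rw [hxg, hyg]
      have key : ∀ {u w : J → F} (hu : Q u ≠ 0) (hw : Q w ≠ 0), QuadraticMap.polar (⇑Q) u w = 0 →
          Commute (reflIso Q u hu) (reflIso Q w hw) := by
        intro u w hu hw huw
        have := conj_reflIso Q (reflIso Q u hu) w hw
        have e : mat Q (reflIso Q u hu) *ᵥ w = w := by
          rw [mat_reflIso, reflectionMatrix_mulVec, refl_apply, huw, mul_zero, zero_smul, sub_zero]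
        rw [mul_inv_eq_iff_eq_mul] at this
        refine this.trans ?_
        congr 1
        apply mat_ext Q
        rw [mat_reflIso, mat_reflIso]
        exact congrArg _ e
      have c1 := key (h0 ha) (h0 hb) hab
      have c2 := key (h0 ha) (h0 hc) hac
      have c3 := key (h0 hb) (h0 hc) hbc
      exact ((c1.symm.mul_right (Commute.refl (reflIso Q b (h0 hb)))).mul_left
        (c2.symm.mul_right c3.symm)).eq
    have : ⁅y, x⁆ = negOne Q := by
      rw [commutatorElement_def, mul_inv_eq_iff_eq_mul, mul_inv_eq_iff_eq_mul, mul_assoc]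
      refine Subtype.ext (Prod.ext (Units.ext ?_) ?_)
      · exact e1
      · have := congrArg Subtype.val e2
        show y.1.2 * x.1.2 = 1 * (x.1.2 * y.1.2)
        rw [one_mul]; exact this
    rw [← this]
    exact Subgroup.commutator_mem_commutator (Subgroup.mem_top _) (Subgroup.mem_top _)
  rw [eq_top_iff]
  intro x _
  obtain ⟨y, hy, e⟩ : proj Q h2 hQ x ∈ (commutator (Spin Q)).map (proj Q h2 hQ) := by
    rw [SchurTheory.map_commutator_eq (MonoidHom.id _) (by simp [MonoidHom.ker_id]) _
      (proj_surjective Q h2 hQ), hΩ]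
    trivial
  have hk : y⁻¹ * x ∈ (proj Q h2 hQ).ker := by
    rw [MonoidHom.mem_ker, map_mul, map_inv, e, inv_mul_cancel]
  rw [ker_proj_eq Q h2 hQ] at hk
  have := mul_mem hy (Subgroup.zpowers_le.2 hK hk)
  rwa [mul_inv_cancel_left] at this

omit h2 hQ in
/-- Squares of products of pairwise orthogonal vectors. -/
theorem cliff_sq : ∀ vs : List (J → F),
    vs.Pairwise (fun u w => QuadraticMap.polar (⇑Q) u w = 0) →
    cliff Q vs * cliff Q vs =
      algebraMap F _ ((-1 : F) ^ (vs.length.choose 2) * (vs.map Q).prod) := by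
  intro vs
  induction vs with
  | nil => simp [cliff]
  | cons v vs ih =>
    intro h
    obtain ⟨hv, hvs⟩ := List.pairwise_cons.1 h
    have hsw : cliff Q vs * ι Q v = (-1 : F) ^ vs.length • (ι Q v * cliff Q vs) := by
      clear ih h hvs
      induction vs with
      | nil => simp [cliff]
      | cons w ws ihw =>
        have h1 := ihw fun x hx => hv x (List.mem_cons_of_mem _ hx)
        rw [show cliff Q (w :: ws) = ι Q w * cliff Q ws by simp [cliff], mul_assoc, h1,
          mul_smul_comm, ← mul_assoc, ι_mul_ι_comm w v, QuadraticMap.polar_comm,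
          hv w List.mem_cons_self, map_zero, zero_sub, List.length_cons, pow_succ, mul_smul,
          neg_one_smul, neg_mul, mul_assoc, smul_neg]
    rw [show cliff Q (v :: vs) = ι Q v * cliff Q vs by simp [cliff], mul_assoc, ← mul_assoc (cliff Q vs),
      hsw, smul_mul_assoc, mul_smul_comm, mul_assoc, ← mul_assoc (ι Q v), ι_sq_scalar, ih hvs,
      ← map_mul, Algebra.smul_def, ← map_mul, List.map_cons, List.prod_cons, List.length_cons,
      Nat.choose_succ_succ', Nat.choose_one_right, pow_add]
    congr 1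
    ring

/-- When `-1 ∈ Ω`, a lift of it squares to the sign of the number of pairs of an orthogonal basis. -/
theorem exists_lift_neg_one {g : ↥(Cfsg.isometryGroup F ⇑Q)} (hg : g ∈ Cfsg.Omega F ⇑Q)
    (hgv : mat Q g = -1) : ∃ w : Spin Q, (proj Q h2 hQ w : ↥(Cfsg.isometryGroup F ⇑Q)) = g ∧
      ((Even ((Fintype.card J).choose 2) → w * w = 1) ∧
        (Odd ((Fintype.card J).choose 2) → w * w = negOne Q)) := by
  classical
  obtain ⟨b, hb, hb0⟩ := exists_orthogonal_anisotropic_basis h2 hQ
  have hneg : ∀ (l : List (Fin (Module.finrank F (J → F)))), l.Nodup → ∀ i,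
      (((l.map b).map (refl Q)).prod : Module.End F (J → F)) (b i) =
        if i ∈ l then -b i else b i := by
    intro l
    induction l with
    | nil => intro _ i; simp
    | cons j l ih =>
      intro hnd i
      obtain ⟨hj, hnd⟩ := List.nodup_cons.1 hnd
      rw [List.map_cons, List.map_cons, List.prod_cons, Module.End.mul_apply, ih hnd i]
      by_cases hij : i = j
      · subst hij
        rw [if_neg hj, if_pos List.mem_cons_self, refl_apply, polar_self']
        rw [show (Q (b i))⁻¹ * (2 * Q (b i)) = 2 by field_simp [hb0 i]]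
        module
      · have hfix : refl Q (b j) (b i) = b i := by
          rw [refl_apply, hb j i (Ne.symm hij), mul_zero, zero_smul, sub_zero]
        by_cases hil : i ∈ l
        · rw [if_pos hil, if_pos (List.mem_cons_of_mem _ hil), map_neg, hfix]
        · rw [if_neg hil, if_neg (by simp [hij, hil]), hfix]
  set vs := (List.finRange (Module.finrank F (J → F))).map b with hvs
  have hlen : vs.length = Fintype.card J := by
    rw [hvs, List.length_map, List.length_finRange, Module.finrank_fintype_fun_eq_card]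
  have hprod : IsReflProd Q g vs := by
    refine ⟨fun v hv => ?_, ?_⟩
    · obtain ⟨i, -, rfl⟩ := List.mem_map.1 hv
      exact hb0 i
    · refine Matrix.toLin'.injective (b.ext fun i => ?_)
      rw [toLin'_prod, hvs, hneg _ (List.nodup_finRange _) i, if_pos (List.mem_finRange _), hgv,
        Matrix.toLin'_apply, Matrix.neg_mulVec, Matrix.one_mulVec]
  have hpw : vs.Pairwise (fun u w => QuadraticMap.polar (⇑Q) u w = 0) := by
    rw [hvs, List.pairwise_map]
    exact (List.nodup_finRange _).imp fun h => hb _ _ h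
  obtain ⟨he, r, hr⟩ := (mem_omega_iff h2 hQ hprod).1 hg
  have hr0 : r ≠ 0 := by rintro rfl; exact prod_quad_ne_zero hprod.1 (by simpa using hr)
  obtain ⟨w, hw, hwg⟩ := exists_spin Q vs r⁻¹ hprod he (by rw [hr]; field_simp)
  have hsq : ((w * w : Spin Q).1.1 : CliffordAlgebra Q) =
      algebraMap F _ ((-1 : F) ^ ((Fintype.card J).choose 2)) := by
    simp only [Subgroup.coe_mul, Prod.fst_mul, Units.val_mul, hw]
    rw [smul_mul_smul_comm, cliff_sq Q vs hpw, Algebra.smul_def, ← map_mul, hlen]
    congr 1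
    have hr' : (vs.map Q).prod = r * r := hr
    rw [hr']
    field_simp
  have hg2 : g * g = 1 := mat_ext Q (by rw [mat_mul, hgv, neg_mul_neg, one_mul, mat_one])
  refine ⟨w, hwg, fun h => ?_, fun h => ?_⟩
  · refine Subtype.ext (Prod.ext (Units.ext ?_) ?_)
    · rw [hsq, h.neg_one_pow, map_one]; rfl
    · show w.1.2 * w.1.2 = 1; rw [hwg, hg2]
  · refine Subtype.ext (Prod.ext (Units.ext ?_) ?_)
    · rw [hsq, h.neg_one_pow, map_neg, map_one]; simp [negOne]
    · show w.1.2 * w.1.2 = 1; rw [hwg, hg2]

end CfsgLib.MultOrth
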